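/-
Two generators of classical groups: generalities and a Singer cycle of `GL₂`.
-/
import Mathlib

set_option autoImplicit false
set_option linter.unusedSectionVars false

namespace CfsgLib.TwoGenCl

open Polynomial

section Group

variable {G : Type*} [Group G]

/-- Two generators pass to a quotient. -/
theorem pair_quotient (N : Subgroup G) [N.Normal] (hG : ∃ a b : G, Subgroup.closure ({a, b} : Set G) = ⊤) :
    ∃ a b : G ⧸ N, Subgroup.closure ({a, b} : Set (G ⧸ N)) = ⊤ := by
  obtain ⟨a, b, hab⟩ := hG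
  refine ⟨QuotientGroup.mk' N a, QuotientGroup.mk' N b, ?_⟩
  rw [← Set.image_pair, ← MonoidHom.map_closure, hab,
    Subgroup.map_top_of_surjective _ (QuotientGroup.mk'_surjective N)]

/-- Three generators, two of which commute and have coprime orders, reduce to two. -/
theorem merge [Finite G] (a : G) {h x : G} (hc : Commute h x) (hco : (orderOf h).Coprime (orderOf x))
    (htop : ∀ M : Subgroup G, a ∈ M → h ∈ M → x ∈ M → M = ⊤) :
    ∃ a b : G, Subgroup.closure ({a, b} : Set G) = ⊤ := by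
  refine ⟨a, h * x, ?_⟩
  set M := Subgroup.closure ({a, h * x} : Set G)
  have key : ∀ {h x : G}, Commute h x → (orderOf h).Coprime (orderOf x) → h * x ∈ M → h ∈ M := by
    intro h x hc hco hM
    have h1 : h ^ orderOf x ∈ M := by
      have := pow_mem hM (orderOf x)
      rwa [hc.mul_pow, pow_orderOf_eq_one, mul_one] at this
    obtain ⟨k, hk⟩ := exists_pow_eq_self_of_coprime hco.symm
    rw [← hk]
    exact pow_mem h1 k
  have hb : h * x ∈ M := Subgroup.subset_closure (by simp)
  exact htop M (Subgroup.subset_closure (by simp)) (key hc hco hb) (key hc.symm hco.symm (hc.eq ▸ hb))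

theorem coprime_of_pow {h x : G} {i j : ℕ} (hh : h ^ i = 1) (hx : x ^ j = 1) (hij : i.Coprime j) :
    (orderOf h).Coprime (orderOf x) :=
  Nat.Coprime.coprime_dvd_left (orderOf_dvd_of_pow_eq_one hh)
    (Nat.Coprime.coprime_dvd_right (orderOf_dvd_of_pow_eq_one hx) hij)

end Group

section Field

variable {F : Type*} [Field F] [Finite F]

theorem exists_unit_gen : ∃ ω : Fˣ, ∀ u : Fˣ, ∃ k : ℕ, ω ^ k = u := by
  obtain ⟨ω, hω⟩ := IsCyclic.exists_generator (α := Fˣ)
  exact ⟨ω, fun u => mem_powers_iff_mem_zpowers.mpr (hω u)⟩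

/-- The squares generate the additive group. -/
theorem eq_top_of_sq (A : AddSubgroup F) {c : F} (hc : c ≠ 0) (h : ∀ t : F, t ≠ 0 → c * t ^ 2 ∈ A) :
    A = ⊤ := by
  haveI := Fintype.ofFinite F
  have h' : ∀ t : F, c * t ^ 2 ∈ A := fun t => by
    rcases eq_or_ne t 0 with rfl | ht
    · simp
    · exact h t ht
  refine (AddSubgroup.eq_top_iff' A).mpr fun y => ?_
  have e : y = c * (y / c) := by field_simp
  rcases Nat.even_or_odd (Fintype.card F) with he | ho
  · obtain ⟨t, ht⟩ := FiniteField.isSquare_of_char_two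
      (FiniteField.even_card_iff_char_two.mpr (Nat.even_iff.mp he)) (y / c)
    rw [e, ht, ← pow_two]
    exact h' t
  · obtain ⟨a, b, hab⟩ := FiniteField.exists_root_sum_quadratic (f := (X ^ 2 : F[X])) (g := X ^ 2 - C (y / c))
      (degree_X_pow 2) (degree_X_pow_sub_C (by norm_num) _) (Nat.odd_iff.mp ho)
    simp only [eval_pow, eval_X, eval_sub, eval_C] at hab
    rw [e, show y / c = a ^ 2 + b ^ 2 by linear_combination -hab, mul_add]
    exact A.add_mem (h' a) (h' b)

end Field

section Singer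

variable (F : Type*) [Field F] [Finite F]

/-- A Singer cycle of `GL₂(F)`. -/
theorem exists_singer : ∃ A : GL (Fin 2) F, A ^ (Nat.card F ^ 2 - 1) = 1 ∧
    (∀ u : Fˣ, ∃ j : ℕ, ((A ^ j : GL (Fin 2) F) : Matrix (Fin 2) (Fin 2) F) = (u : F) • 1) ∧
    ∀ (k : ℕ) (v : Fin 2 → F) (c : F), v ≠ 0 → ¬ (Nat.card F ^ 2 - 1) ∣ k * (Nat.card F - 1) →
      Matrix.mulVec ((A ^ k : GL (Fin 2) F) : Matrix (Fin 2) (Fin 2) F) v ≠ c • v := by
  classical
  obtain ⟨p, hp⟩ := CharP.exists F
  haveI : Fact p.Prime := ⟨(CharP.char_is_prime_or_zero F p).resolve_right (by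
    rintro rfl
    haveI := CharP.charP_to_charZero F
    exact not_finite F)⟩
  let K := FiniteField.Extension F p 2
  have hK : Nat.card K = Nat.card F ^ 2 := FiniteField.natCard_extension F p 2
  haveI : Fintype K := Fintype.ofFinite K
  let b : Module.Basis (Fin 2) F K :=
    Module.finBasisOfFinrankEq F K (FiniteField.finrank_extension F p 2)
  obtain ⟨γ, hγ⟩ := IsCyclic.exists_generator (α := Kˣ)
  let φ : Kˣ →* GL (Fin 2) F := Units.map (Algebra.leftMulMatrix b).toRingHom.toMonoidHom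
  have hφ : ∀ k : ℕ, ((φ γ ^ k : GL (Fin 2) F) : Matrix (Fin 2) (Fin 2) F) =
      Algebra.leftMulMatrix b ((γ ^ k : Kˣ) : K) := fun k => by
    rw [← map_pow]; rfl
  have hord : orderOf γ = Nat.card F ^ 2 - 1 := by
    rw [orderOf_eq_card_of_forall_mem_zpowers hγ, Nat.card_units, hK]
  refine ⟨φ γ, by rw [← map_pow, ← hord, pow_orderOf_eq_one, map_one], fun u => ?_, fun k v c hv hk he => ?_⟩
  · obtain ⟨j, hj⟩ := mem_powers_iff_mem_zpowers.mpr (hγ (Units.map (algebraMap F K).toMonoidHom u))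
    refine ⟨j, ?_⟩
    rw [hφ, show γ ^ j = _ from hj]
    show Algebra.leftMulMatrix b (algebraMap F K (u : F)) = _
    rw [AlgHom.commutes, Algebra.algebraMap_eq_smul_one]
  · set y : K := b.equivFun.symm v
    have hy : ⇑(b.repr y) = v := by
      rw [← Module.Basis.equivFun_apply, LinearEquiv.apply_symm_apply]
    have hy0 : y ≠ 0 := fun e => hv (by rw [← hy, e]; simp)
    rw [hφ, ← hy, Algebra.leftMulMatrix_mulVec_repr] at he
    have hmul : ((γ ^ k : Kˣ) : K) * y = algebraMap F K c * y := by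
      rw [← Algebra.smul_def]
      exact b.repr.injective (Finsupp.ext fun i => by rw [congrFun he i, map_smul]; simp)
    have hc : ((γ ^ k : Kˣ) : K) = algebraMap F K c := mul_right_cancel₀ hy0 hmul
    have hc0 : c ≠ 0 := fun e => (γ ^ k).ne_zero (by rw [hc, e, map_zero])
    refine hk ?_
    rw [← hord]
    refine orderOf_dvd_of_pow_eq_one (Units.ext ?_)
    haveI := Fintype.ofFinite F
    rw [pow_mul, Units.val_pow_eq_pow_val, hc, ← map_pow, Nat.card_eq_fintype_card,
      FiniteField.pow_card_sub_one_eq_one c hc0, map_one, Units.val_one]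

variable {F}

/-- Change of basis putting the image of the second basis vector in standard position. -/
theorem conj_second {A : GL (Fin 2) F} (hA : (A : Matrix (Fin 2) (Fin 2) F) 0 1 ≠ 0) (β : F) :
    ∃ P : GL (Fin 2) F,
      ((P * A * P⁻¹ : GL (Fin 2) F) : Matrix (Fin 2) (Fin 2) F) 0 1 = 1 ∧
      ((P * A * P⁻¹ : GL (Fin 2) F) : Matrix (Fin 2) (Fin 2) F) 1 1 = β := by
  set M : Matrix (Fin 2) (Fin 2) F := ↑A
  refine ⟨(Matrix.GeneralLinearGroup.mkOfDetNeZero !![M 0 1, 0; M 1 1 - β, 1]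
    (by simpa [Matrix.det_fin_two] using hA))⁻¹, ?_⟩
  set R := Matrix.GeneralLinearGroup.mkOfDetNeZero !![M 0 1, 0; M 1 1 - β, 1]
    (by simpa [Matrix.det_fin_two] using hA)
  set B := R⁻¹ * A * (R⁻¹)⁻¹
  have e : (R : Matrix (Fin 2) (Fin 2) F) * (B : Matrix (Fin 2) (Fin 2) F) = M * R := by
    rw [← Units.val_mul, ← Units.val_mul]
    congr 1
    simp [B, mul_assoc]
  have hR : (R : Matrix (Fin 2) (Fin 2) F) = !![M 0 1, 0; M 1 1 - β, 1] := rfl
  rw [hR] at e
  have e0 := congrFun (congrFun e 0) 1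
  have e1 := congrFun (congrFun e 1) 1
  simp [Matrix.mul_apply, Fin.sum_univ_two] at e0 e1
  have h0 : (B : Matrix (Fin 2) (Fin 2) F) 0 1 = 1 :=
    mul_left_cancel₀ hA (by rw [mul_one]; exact e0)
  rw [h0] at e1
  exact ⟨h0, by linear_combination e1⟩

end Singer

end CfsgLib.TwoGenCl

namespace CfsgLib.TwoGenCl

section Block

variable {F : Type*} [Field F] {ι : Type*} [Fintype ι] [DecidableEq ι]

/-- A `2 × 2` block placed on the coordinates `a`, `b`. -/
def blkM (a b : ι) (A : Matrix (Fin 2) (Fin 2) F) : Matrix ι ι F :=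
  Matrix.of fun k l =>
    if k = a then (if l = a then A 0 0 else if l = b then A 0 1 else 0)
    else if k = b then (if l = a then A 1 0 else if l = b then A 1 1 else 0)
    else (if k = l then 1 else 0)

variable {a b : ι} (hab : a ≠ b)

include hab in
theorem blkM_mulVec (A : Matrix (Fin 2) (Fin 2) F) (x : ι → F) (k : ι) :
    Matrix.mulVec (blkM a b A) x k =
      if k = a then A 0 0 * x a + A 0 1 * x b
      else if k = b then A 1 0 * x a + A 1 1 * x b else x k := by
  have key : ∀ c d : F, ∑ l, (if l = a then c else if l = b then d else 0) * x l = c * x a + d * x b := by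
    intro c d
    rw [← Finset.sum_subset (Finset.subset_univ ({a, b} : Finset ι)) (fun l _ hl => by
      simp only [Finset.mem_insert, Finset.mem_singleton, not_or] at hl
      rw [if_neg hl.1, if_neg hl.2, zero_mul]), Finset.sum_pair hab, if_pos rfl, if_neg hab.symm, if_pos rfl]
  simp only [Matrix.mulVec, dotProduct, blkM, Matrix.of_apply]
  split_ifs with h1 h2
  · exact key _ _
  · exact key _ _
  · simp

include hab in
theorem blkM_mul (A B : Matrix (Fin 2) (Fin 2) F) : blkM a b (A * B) = blkM a b A * blkM a b B := by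
  refine Matrix.ext_of_mulVec_single fun i => ?_
  funext k
  rw [← Matrix.mulVec_mulVec, blkM_mulVec hab, blkM_mulVec hab]
  simp only [blkM_mulVec hab, if_pos rfl, if_neg hab.symm, Matrix.mul_apply, Fin.sum_univ_two]
  split_ifs <;> ring

include hab in
theorem blkM_smul_one (c : F) (x : ι → F) (k : ι) :
    Matrix.mulVec (blkM a b (c • (1 : Matrix (Fin 2) (Fin 2) F))) x k =
      if k = a ∨ k = b then c * x k else x k := by
  rw [blkM_mulVec hab]
  by_cases h1 : k = a
  · subst h1; simp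
  by_cases h2 : k = b
  · subst h2; simp [h1]
  simp [h1, h2]

include hab in
theorem blkM_one : blkM a b (1 : Matrix (Fin 2) (Fin 2) F) = 1 := by
  refine Matrix.ext_of_mulVec_single fun i => ?_
  funext k
  rw [← one_smul F (1 : Matrix (Fin 2) (Fin 2) F), blkM_smul_one hab, Matrix.one_mulVec]
  simp

/-- The block embedding of `GL₂`. -/
def blk : GL (Fin 2) F →* GL ι F where
  toFun A :=
    { val := blkM a b A.val
      inv := blkM a b A.inv
      val_inv := by rw [← blkM_mul hab, A.val_inv, blkM_one hab]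
      inv_val := by rw [← blkM_mul hab, A.inv_val, blkM_one hab] }
  map_one' := Units.ext (blkM_one hab)
  map_mul' A B := Units.ext (blkM_mul hab A.val B.val)

theorem blk_val (A : GL (Fin 2) F) : ((blk hab A : GL ι F) : Matrix ι ι F) = blkM a b A.val := rfl

theorem blk_inv_val (A : GL (Fin 2) F) :
    (((blk hab A)⁻¹ : GL ι F) : Matrix ι ι F) = blkM a b A.inv := rfl

end Block

section Orders

theorem coprime_sq_sub_one {p n : ℕ} (hp : p.Prime) (hn : 0 < n) : Nat.Coprime ((p ^ n) ^ 2 - 1) p := by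
  refine Nat.Coprime.symm (hp.coprime_iff_not_dvd.mpr fun h => ?_)
  have h1 : p ∣ (p ^ n) ^ 2 := dvd_pow (dvd_pow_self p hn.ne') two_ne_zero
  have h2 : 1 ≤ (p ^ n) ^ 2 := Nat.one_le_pow _ _ (pow_pos hp.pos n)
  have := Nat.dvd_sub h1 h
  rw [Nat.sub_sub_self h2] at this
  exact hp.not_dvd_one this

theorem exists_char (F : Type*) [Field F] [Finite F] :
    ∃ p n : ℕ, p.Prime ∧ 0 < n ∧ CharP F p ∧ Nat.card F = p ^ n := by
  haveI := Fintype.ofFinite F
  obtain ⟨p, hp⟩ := CharP.exists F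
  obtain ⟨n, hp', hn⟩ := FiniteField.card F p
  exact ⟨p, n, hp', n.pos, hp, by rw [Nat.card_eq_fintype_card, hn]⟩

end Orders

end CfsgLib.TwoGenCl

namespace CfsgLib.TwoGenCl

section Perm

variable (F : Type*) [Field F] {ι : Type*} [Fintype ι] [DecidableEq ι]

/-- The matrix of a permutation of the basis. -/
def permM (σ : Equiv.Perm ι) : Matrix ι ι F := Matrix.of fun i j => if i = σ j then 1 else 0

theorem permM_mulVec (σ : Equiv.Perm ι) (x : ι → F) (i : ι) :
    Matrix.mulVec (permM F σ) x i = x (σ.symm i) := by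
  simp only [Matrix.mulVec, dotProduct, permM, Matrix.of_apply, ite_mul, one_mul, zero_mul]
  rw [Finset.sum_eq_single (σ.symm i) (fun j _ hj => if_neg fun e => hj (by rw [e, Equiv.symm_apply_apply]))
    (by simp), if_pos (Equiv.apply_symm_apply σ i).symm]

theorem permM_mul (σ τ : Equiv.Perm ι) : permM F (σ * τ) = permM F σ * permM F τ := by
  refine Matrix.ext_of_mulVec_single fun j => ?_
  funext i
  rw [← Matrix.mulVec_mulVec, permM_mulVec, permM_mulVec, permM_mulVec]
  rfl

theorem permM_one : permM F (1 : Equiv.Perm ι) = 1 := by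
  refine Matrix.ext_of_mulVec_single fun j => ?_
  funext i
  rw [permM_mulVec, Matrix.one_mulVec]
  rfl

theorem permM_transpose (σ : Equiv.Perm ι) : (permM F σ).transpose = permM F σ⁻¹ := by
  ext i j
  simp [permM, eq_comm, Equiv.eq_symm_apply]

/-- Permutations of the basis. -/
def permG : Equiv.Perm ι →* GL ι F where
  toFun σ :=
    { val := permM F σ
      inv := permM F σ⁻¹
      val_inv := by rw [← permM_mul, mul_inv_cancel, permM_one]
      inv_val := by rw [← permM_mul, inv_mul_cancel, permM_one] }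
  map_one' := Units.ext (permM_one F)
  map_mul' σ τ := Units.ext (permM_mul F σ τ)

end Perm

section Singer

variable {F : Type*} [Field F] [Finite F]

theorem not_dvd_small {k : ℕ} (hk0 : 0 < k) (hk : k * (Nat.card F - 1) < Nat.card F ^ 2 - 1) :
    ¬ (Nat.card F ^ 2 - 1) ∣ k * (Nat.card F - 1) := fun h => by
  have h1 : 0 < k * (Nat.card F - 1) := Nat.mul_pos hk0 (by
    have := Finite.one_lt_card (α := F); omega)
  exact absurd (Nat.le_of_dvd h1 h) (by omega)

theorem not_dvd_one : ¬ (Nat.card F ^ 2 - 1) ∣ 1 * (Nat.card F - 1) := by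
  refine not_dvd_small one_pos ?_
  have h := Finite.one_lt_card (α := F)
  have : Nat.card F < Nat.card F ^ 2 := by nlinarith
  omega

/-- A Singer cycle in standard position. -/
theorem exists_singer_std (β : F) : ∃ A : GL (Fin 2) F, A ^ (Nat.card F ^ 2 - 1) = 1 ∧
    (∀ u : Fˣ, ∃ j : ℕ, ((A ^ j : GL (Fin 2) F) : Matrix (Fin 2) (Fin 2) F) = (u : F) • 1) ∧
    (A : Matrix (Fin 2) (Fin 2) F) 0 1 = 1 ∧ (A : Matrix (Fin 2) (Fin 2) F) 1 1 = β := by
  obtain ⟨A, h1, h2, h3⟩ := exists_singer F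
  have hA : (A : Matrix (Fin 2) (Fin 2) F) 0 1 ≠ 0 := fun e => by
    refine h3 1 (Pi.single 1 1) ((A : Matrix (Fin 2) (Fin 2) F) 1 1) (by simp) not_dvd_one ?_
    funext i
    fin_cases i <;> simp [e]
  obtain ⟨P, e1, e2⟩ := conj_second hA β
  refine ⟨P * A * P⁻¹, by rw [conj_pow, h1, mul_one, mul_inv_cancel], fun u => ?_, e1, e2⟩
  obtain ⟨j, hj⟩ := h2 u
  refine ⟨j, ?_⟩
  rw [conj_pow, Units.val_mul, Units.val_mul, hj, mul_smul_comm, smul_mul_assoc, mul_one, ← Units.val_mul,
    mul_inv_cancel, Units.val_one]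

end Singer

end CfsgLib.TwoGenCl

namespace CfsgLib.TwoGenCl

section Singer

variable {F : Type*} [Field F] [Finite F]

/-- A square of a Singer cycle in standard position. -/
theorem exists_singer_sq : ∃ A : GL (Fin 2) F, (A * A) ^ (Nat.card F ^ 2 - 1) = 1 ∧
    (∀ u : Fˣ, ∃ j : ℕ, (((A * A) ^ j : GL (Fin 2) F) : Matrix (Fin 2) (Fin 2) F) = ((u * u : Fˣ) : F) • 1) ∧
    ((A * A : GL (Fin 2) F) : Matrix (Fin 2) (Fin 2) F) 0 1 = 1 ∧
    ((A * A : GL (Fin 2) F) : Matrix (Fin 2) (Fin 2) F) 1 1 = 0 := by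
  obtain ⟨A, h1, h2, h3⟩ := exists_singer F
  have hA : ((A * A : GL (Fin 2) F) : Matrix (Fin 2) (Fin 2) F) 0 1 ≠ 0 := fun e => by
    refine h3 2 (Pi.single 1 1) (((A * A : GL (Fin 2) F) : Matrix (Fin 2) (Fin 2) F) 1 1) (by simp)
      (not_dvd_small two_pos ?_) ?_
    · have h := Finite.one_lt_card (α := F)
      obtain ⟨Q, hQ⟩ : ∃ Q, Nat.card F = Q + 2 := ⟨Nat.card F - 2, by omega⟩
      have : (Q + 2) ^ 2 = Q * Q + 4 * Q + 4 := by ring
      rw [hQ, this]
      omega
    · rw [pow_two]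
      rw [Units.val_mul] at e ⊢
      funext i
      fin_cases i <;> simp [e]
  obtain ⟨P, e1, e2⟩ := conj_second hA 0
  have hsq : P * A * P⁻¹ * (P * A * P⁻¹) = P * (A * A) * P⁻¹ := by group
  refine ⟨P * A * P⁻¹, ?_, fun u => ?_, ?_, ?_⟩
  · rw [hsq, conj_pow, ← pow_two, ← pow_mul, mul_comm, pow_mul, h1, one_pow, mul_one, mul_inv_cancel]
  · obtain ⟨j, hj⟩ := h2 (u * u)
    obtain ⟨i, hi⟩ := h2 u
    refine ⟨i, ?_⟩
    rw [hsq, conj_pow, Units.val_mul, Units.val_mul, (Commute.refl A).mul_pow, Units.val_mul, hi,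
      Matrix.smul_mul, Matrix.one_mul, smul_smul, ← Units.val_mul, Matrix.mul_smul, Matrix.smul_mul,
      Matrix.mul_one, ← Units.val_mul (a := P), mul_inv_cancel, Units.val_one]
  · rw [hsq]; exact e1
  · rw [hsq]; exact e2

end Singer

end CfsgLib.TwoGenCl
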