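/-
Root elements of special unitary groups and a criterion for a subgroup to be everything.
-/
import Cfsg.Agent.Lib.UnitarySimple
import Cfsg.Agent.Lib.TwoGenClassical.Basic

set_option autoImplicit false
set_option linter.unusedSectionVars false

namespace CfsgLib.TwoGenCl.Unit

open Matrix CfsgLib.UnitaryTransvection CfsgLib.UnitarySimple

variable {F : Type*} [Field F] [Fintype F] {q n : ℕ} (hF : Fintype.card F = q ^ 2)

local notation "h" => Cfsg.hermForm n F q
local notation "σ" => frob hF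

theorem h_zero_left (x : Fin n → F) : h 0 x = 0 := by simp [Cfsg.hermForm]

include hF in
theorem h_zero_right (x : Fin n → F) : h x 0 = 0 := by rw [← h_swap hF, h_zero_left, map_zero]

include hF in
theorem h_neg_right' (x y : Fin n → F) : h x (-y) = -h x y := by
  rw [← zero_sub, h_sub_right hF, h_zero_right hF, zero_sub]

include hF in
theorem h_symm_zero {x y : Fin n → F} (e : h x y = 0) : h y x = 0 := by rw [← h_swap hF, e, map_zero]

/-- All elements with the matrix `umat v a s` lie in `M`. -/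
def Um (M : Subgroup (Cfsg.SU n F q)) (v a : Fin n → F) (s : F) : Prop :=
  ∀ g : Cfsg.SU n F q, mat g = umat (q := q) v a s → g ∈ M

/-- The whole radical at `v` lies in `M`. -/
def Rad (M : Subgroup (Cfsg.SU n F q)) (v : Fin n → F) : Prop :=
  ∀ a s, h a v = 0 → h a a + s + σ s = 0 → Um M v a s

/-- The long root group at `v` lies in `M`. -/
def Lg (M : Subgroup (Cfsg.SU n F q)) (v : Fin n → F) : Prop := ∀ c, c + σ c = 0 → Um M v 0 c

/-- The short root group of `v`, `w` lies in `M`. -/
def Sh (M : Subgroup (Cfsg.SU n F q)) (v w : Fin n → F) : Prop := ∀ t : F, Um M v (t • w) 0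

variable {M : Subgroup (Cfsg.SU n F q)}

include hF in
theorem exists_um {v a : Fin n → F} {s : F} (hv : h v v = 0) (hav : h a v = 0) (hs : h a a + s + σ s = 0) :
    ∃ g : Cfsg.SU n F q, mat g = umat (q := q) v a s := ⟨ru hF hv hav hs, rfl⟩

theorem um_of_mem {v a : Fin n → F} {s : F} {g : Cfsg.SU n F q} (hg : mat g = umat (q := q) v a s) (hM : g ∈ M) :
    Um M v a s := fun g' hg' => by
  rwa [su_ext (g := g') (k := g) fun x => by rw [hg, hg']]

include hF in
theorem um_eq {g : Cfsg.SU n F q} {v a : Fin n → F} {s : F} :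
    mat g = umat (q := q) v a s ↔ ∀ x, mat g *ᵥ x = x + h x v • a - h x a • v + (s * h x v) • v :=
  ⟨fun e x => by rw [e, umat_mulVec], fun e => Matrix.ext_of_mulVec_single fun i => by rw [e, umat_mulVec]⟩

include hF in
theorem conj_um (g u : Cfsg.SU n F q) {v a : Fin n → F} {s : F} (hu : mat u = umat (q := q) v a s) :
    mat (g * u * g⁻¹) = umat (q := q) (mat g *ᵥ v) (mat g *ᵥ a) s := by
  rw [um_eq hF]
  intro x
  rw [mat_mul, mat_mul, ← mulVec_mulVec, ← mulVec_mulVec, hu, umat_mulVec]
  simp only [mulVec_add, mulVec_sub, mulVec_smul, mat_inv_mulVec]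
  have e1 : ∀ w, h x (mat g *ᵥ w) = h (mat g⁻¹ *ᵥ x) w := fun w => by
    conv_lhs => rw [← mat_inv_mulVec g x, su_h]
  simp only [e1]

include hF in
theorem Um.move {v a : Fin n → F} {s : F} (hM : Um M v a s) {g : Cfsg.SU n F q} (hg : g ∈ M) :
    Um M (mat g *ᵥ v) (mat g *ᵥ a) s := fun u hu => by
  have e := conj_um hF g⁻¹ u hu
  rw [mat_inv_mulVec', mat_inv_mulVec', inv_inv] at e
  have := mul_mem (mul_mem hg (hM _ e)) (inv_mem hg)
  simpa [mul_assoc] using this

include hF in
theorem umat_smul (c : F) (v a : Fin n → F) (s : F) :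
    umat (q := q) (c • v) a s = umat (q := q) v (σ c • a) (c * σ c * s) := by
  refine Matrix.ext_of_mulVec_single fun i => ?_
  rw [umat_mulVec, umat_mulVec]
  simp only [h_smul_right hF, smul_smul, frob_frob hF]
  module

include hF in
theorem umat_swap (v w : Fin n → F) (t : F) :
    umat (q := q) v (t • w) 0 = umat (q := q) w ((-σ t) • v) 0 := by
  refine Matrix.ext_of_mulVec_single fun i => ?_
  rw [umat_mulVec, umat_mulVec]
  simp only [h_smul_right hF, smul_smul, map_neg, frob_frob hF]
  module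

include hF in
theorem um_inv {v a : Fin n → F} {s : F} (hv : h v v = 0) (hav : h a v = 0) (hs : h a a + s + σ s = 0)
    {g : Cfsg.SU n F q} (hg : mat g = umat (q := q) v a s) :
    mat g⁻¹ = umat (q := q) v (-a) (σ s) := by
  have hna : h (-a) v = 0 := by
    rw [← neg_one_smul F a, h_smul_left, hav, mul_zero]
  obtain ⟨k, hk⟩ := exists_um hF hv hna (s := σ s) (by
    rw [h_neg_right' hF, ← neg_one_smul F a, h_smul_left, frob_frob hF]
    linear_combination hs)
  rw [inv_eq_of_mul_eq_one_right (b := k) ?_, hk]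
  refine su_ext fun x => ?_
  rw [mat_mul, hg, hk, umat_mul hF hv hav hna, add_neg_cancel, mat_one,
    show s + σ s - h (-a) a = 0 by rw [← neg_one_smul F a, h_smul_left]; linear_combination hs, umat_zero hF]

include hF in
theorem Um.mul {v a b : Fin n → F} {s t : F} (hv : h v v = 0) (hav : h a v = 0) (hbv : h b v = 0)
    (hs : h a a + s + σ s = 0) (ht : h b b + t + σ t = 0) (h1 : Um M v a s) (h2 : Um M v b t) :
    Um M v (a + b) (s + t - h b a) := by
  obtain ⟨g, hg⟩ := exists_um hF hv hav hs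
  obtain ⟨k, hk⟩ := exists_um hF hv hbv ht
  refine um_of_mem (g := g * k) ?_ (mul_mem (h1 g hg) (h2 k hk))
  rw [mat_mul, hg, hk, umat_mul hF hv hav hbv]

include hF in
theorem Rad.move {v : Fin n → F} (hR : Rad hF M v) {g : Cfsg.SU n F q} (hg : g ∈ M) :
    Rad hF M (mat g *ᵥ v) := fun a s ha hs => by
  have := Um.move hF (hR (mat g⁻¹ *ᵥ a) s (by rw [← su_h g, mat_inv_mulVec, ha])
    (by rw [← su_h g, mat_inv_mulVec, hs])) hg
  rwa [mat_inv_mulVec] at this

include hF in
theorem Rad.smul {v : Fin n → F} (hR : Rad hF M v) {c : F} (hc : c ≠ 0) : Rad hF M (c • v) := fun a s ha hs => by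
  intro g hg
  rw [umat_smul hF] at hg
  have ha' : h a v = 0 := by
    rw [h_smul_right hF] at ha
    exact (mul_eq_zero.mp ha).resolve_left (by simpa using hc)
  refine hR _ _ (by rw [h_smul_left, ha', mul_zero]) ?_ g hg
  rw [h_smul_left, h_smul_right hF, frob_frob hF, map_mul, map_mul, frob_frob hF]
  linear_combination (c * σ c) * hs

include hF in
/-- The radical moves opposite points. -/
theorem Rad.trans {v x y : Fin n → F} (hR : Rad hF M v) (hv : h v v = 0) (hx : h x x = 0) (hy : h y y = 0)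
    (hxv : h x v ≠ 0) (hyv : h y v ≠ 0) : ∃ u ∈ M, ∃ c : F, c ≠ 0 ∧ mat u *ᵥ x = c • y := by
  set x' := (h x v)⁻¹ • x with hx'
  set y' := (h y v)⁻¹ • y with hy'
  have h1 : h x' v = 1 := by rw [hx', h_smul_left, inv_mul_cancel₀ hxv]
  have h2 : h y' v = 1 := by rw [hy', h_smul_left, inv_mul_cancel₀ hyv]
  have hxx : h x' x' = 0 := by rw [hx', h_smul_left, h_smul_right hF, hx, mul_zero, mul_zero]
  have hyy : h y' y' = 0 := by rw [hy', h_smul_left, h_smul_right hF, hy, mul_zero, mul_zero]
  have ha : h (y' - x') v = 0 := by rw [h_sub_left, h1, h2, sub_self]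
  have hs : h (y' - x') (y' - x') + h x' (y' - x') + σ (h x' (y' - x')) = 0 := by
    rw [h_swap hF, h_sub_left, h_sub_right hF, h_sub_right hF, h_sub_left, hxx, hyy]
    ring
  obtain ⟨u, hu⟩ := exists_um hF hv ha hs
  refine ⟨u, hR _ _ ha hs u hu, h x v * (h y v)⁻¹, mul_ne_zero hxv (inv_ne_zero hyv), ?_⟩
  have e : mat u *ᵥ x' = y' := by
    rw [hu, umat_mulVec, h1, one_smul, mul_one, sub_add_cancel, add_sub_cancel]
  rw [hx', mulVec_smul] at e
  have := congrArg (h x v • ·) e
  simpa [hy', smul_smul, hxv] using this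

include hF in
/-- A full radical with an element moving its point to an opposite one give everything. -/
theorem eq_top_of_rad (hn : 3 ≤ n) (h32 : ¬ (n = 3 ∧ q = 2)) {e : Fin n → F} (he : h e e = 0)
    {g : Cfsg.SU n F q} (hg : g ∈ M) (hop : h (mat g *ᵥ e) e ≠ 0) (hR : Rad hF M e) : M = ⊤ := by
  set f := mat g *ᵥ e
  have hf : h f f = 0 := by rw [su_h, he]
  have he0 : e ≠ 0 := fun e0 => hop (by rw [e0, h_zero_right hF])
  have step : ∀ z x y : Fin n → F, h z z = 0 → h x x = 0 → h y y = 0 → h x z ≠ 0 → h y z ≠ 0 →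
      Rad hF M z → Rad hF M x → Rad hF M y := by
    intro z x y hz hx hy hxz hyz hz' hx'
    obtain ⟨u, hu, c, hc, e'⟩ := Rad.trans hF hz' hz hx hy hxz hyz
    have := Rad.smul hF (Rad.move hF hx' hu) (inv_ne_zero hc)
    rwa [e', smul_smul, inv_mul_cancel₀ hc, one_smul] at this
  have h1 : ∀ y, h y y = 0 → h y e ≠ 0 → Rad hF M y := fun y hy hye =>
    step e f y he hf hy hop hye hR (Rad.move hF hR hg)
  have hall : ∀ y, y ≠ 0 → h y y = 0 → Rad hF M y := by
    intro y hy0 hy
    by_cases hye : h y e = 0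
    · obtain ⟨z, hz, hze, hzy⟩ := avoid hF he0 he hy0
      exact step z e y hz he hy (fun e0 => hze (h_symm_zero hF e0)) (fun e0 => hzy (h_symm_zero hF e0))
        (h1 z hz hze) hR
    · exact h1 y hy hye
  rw [eq_top_iff, ← generated hF hn h32, Subgroup.closure_le]
  rintro A ⟨v, c, hv, hA⟩
  rcases eq_or_ne v 0 with rfl | hv0
  · have : A = 1 := su_ext fun x => by rw [hA, tmat_zero, mat_one, one_mulVec]
    rw [this]
    exact one_mem _
  · have hc : c + σ c = 0 := skew_of_tmat hF hv hv0 (by rw [← hA]; exact su_h A)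
    refine hall v hv0 hv 0 c (h_zero_left _) (by rw [h_zero_left]; linear_combination hc) A ?_
    rw [um_eq hF]
    intro x
    rw [hA, tmat_mulVec, h_zero_right hF]
    module

/-! ### Commutator formulas -/

include hF in
theorem Sh.symm {v w : Fin n → F} (hS : Sh M v w) : Sh M w v := fun t g hg => by
  refine hS (-σ t) g ?_
  rw [hg, umat_swap hF v w, map_neg, frob_frob hF, neg_neg]

include hF in
theorem Sh.move {v w : Fin n → F} (hS : Sh M v w) {g : Cfsg.SU n F q} (hg : g ∈ M) :
    Sh M (mat g *ᵥ v) (mat g *ᵥ w) := fun t => by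
  have := Um.move hF (hS t) hg
  rwa [mulVec_smul] at this

include hF in
theorem Sh.smul_left {v w : Fin n → F} (hS : Sh M v w) (c : F) : Sh M (c • v) w := fun t g hg => by
  rw [umat_smul hF, mul_zero, smul_smul] at hg
  exact hS _ g hg

theorem Sh.smul_right {v w : Fin n → F} (hS : Sh M v w) (c : F) : Sh M v (c • w) := fun t => by
  rw [smul_smul]
  exact hS _

include hF in
theorem Sh.add_right {v w w' : Fin n → F} (hv : h v v = 0) (hwv : h w v = 0) (hwv' : h w' v = 0)
    (hw : h w w = 0) (hw' : h w' w' = 0) (hww : h w' w = 0)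
    (h1 : Sh M v w) (h2 : Sh M v w') : Sh M v (w + w') := fun t => by
  have := Um.mul hF hv (show h (t • w) v = 0 by rw [h_smul_left, hwv, mul_zero])
    (show h (t • w') v = 0 by rw [h_smul_left, hwv', mul_zero])
    (by rw [h_smul_left, h_smul_right hF, hw, map_zero]; ring)
    (by rw [h_smul_left, h_smul_right hF, hw', map_zero]; ring) (h1 t) (h2 t)
  rwa [← smul_add, h_smul_left, h_smul_right hF, hww, mul_zero, mul_zero, sub_zero, add_zero] at this

include hF in
theorem Lg.move {v : Fin n → F} (hL : Lg hF M v) {g : Cfsg.SU n F q} (hg : g ∈ M) :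
    Lg hF M (mat g *ᵥ v) := fun c hc => by
  have := Um.move hF (hL c hc) hg
  rwa [mulVec_zero] at this

include hF in
theorem Lg.smul {v : Fin n → F} (hL : Lg hF M v) (c : F) : Lg hF M (c • v) := fun s hs g hg => by
  rw [umat_smul hF, smul_zero] at hg
  refine hL _ ?_ g hg
  rw [map_mul, map_mul, frob_frob hF]
  linear_combination (c * σ c) * hs

include hF in
theorem Lg.of_smul {v : Fin n → F} {c : F} (hc : c ≠ 0) (hL : Lg hF M (c • v)) : Lg hF M v := by
  have := Lg.smul hF hL c⁻¹
  rwa [smul_smul, inv_mul_cancel₀ hc, one_smul] at this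

include hF in
theorem Sh.comm {v w u w' : Fin n → F} (hv : h v v = 0) (hw : h w w = 0) (hu : h u u = 0) (hw' : h w' w' = 0)
    (hwv : h w v = 0) (huv : h u v = 0) (huw : h u w = 0) (hw'v : h w' v = 0) (hw'u : h w' u = 0)
    (h1 : h w' w = 1) (hA : Sh M v w) (hB : Sh M u w') : Sh M u v := by
  intro c
  have hvu : h v u = 0 := h_symm_zero hF huv
  have key : ∀ {a b : F}, Um M u ((-(b * σ a)) • v) 0 := by
    intro a b
    obtain ⟨g1, hg1⟩ := exists_um hF hv (show h (a • w) v = 0 by rw [h_smul_left, hwv, mul_zero])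
      (s := 0) (by rw [h_smul_left, h_smul_right hF, hw, map_zero]; ring)
    obtain ⟨g2, hg2⟩ := exists_um hF hu (show h (b • w') u = 0 by rw [h_smul_left, hw'u, mul_zero])
      (s := 0) (by rw [h_smul_left, h_smul_right hF, hw', map_zero]; ring)
    refine um_of_mem (g := g1 * g2 * g1⁻¹ * g2⁻¹) ?_
      (mul_mem (mul_mem (mul_mem (hA a g1 hg1) (hB b g2 hg2)) (inv_mem (hA a g1 hg1))) (inv_mem (hB b g2 hg2)))
    have e := conj_um hF g1 g2 hg2
    have eu : mat g1 *ᵥ u = u := by
      rw [hg1, umat_mulVec, huv, h_smul_right hF, huw]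
      module
    have ew : mat g1 *ᵥ (b • w') = b • w' + (-(b * σ a)) • v := by
      rw [mulVec_smul, hg1, umat_mulVec, hw'v, h_smul_right hF, h1]
      module
    rw [eu, ew] at e
    have hinv := um_inv hF hu (show h (b • w') u = 0 by rw [h_smul_left, hw'u, mul_zero])
      (by rw [h_smul_left, h_smul_right hF, hw', map_zero]; ring) hg2
    rw [mat_mul, e, hinv, map_zero, umat_mul hF hu
      (by rw [h_add_left, h_smul_left, h_smul_left, hw'u, hvu, mul_zero, mul_zero, add_zero])
      (show h (-(b • w')) u = 0 by rw [← neg_smul, h_smul_left, hw'u, mul_zero])]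
    congr 1
    · abel
    · rw [← neg_smul, h_smul_left, h_add_right hF, h_smul_right hF, h_smul_right hF, hw', hw'v]
      ring
  have := key (a := 1) (b := -c)
  rwa [map_one, mul_one, neg_neg] at this

include hF in
theorem um_sum {v f : Fin n → F} (γ c : F) (hc : c + σ c = 0) (hvf : h v f = 0) (hv : h v v = 0) (hf : h f f = 0) :
    umat (q := q) (f + γ • v) 0 c =
      umat (q := q) f ((c * γ) • v) 0 * umat (q := q) f 0 c * umat (q := q) v 0 (c * (γ * σ γ)) := by
  refine Matrix.ext_of_mulVec_single fun i => ?_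
  rw [← mulVec_mulVec, ← mulVec_mulVec, umat_mulVec, umat_mulVec, umat_mulVec, umat_mulVec]
  have hfv : h f v = 0 := h_symm_zero hF hvf
  simp only [h_add_left, h_sub_left, h_smul_left, h_add_right hF, h_smul_right hF, h_zero_right hF, h_zero_left,
    hv, hf, hvf, hfv, map_mul, show σ c = -c by linear_combination hc, zero_smul, smul_zero, mul_zero, add_zero,
    sub_zero, zero_add]
  module

include hF in
/-- A linked long root gives a short root. -/
theorem short_of_link {v f : Fin n → F} {γ c : F} (hc : c + σ c = 0) (hvf : h v f = 0) (hv : h v v = 0)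
    (hf : h f f = 0) (hLf : Lg hF M f) (hLv : Lg hF M v) (hL : Um M (f + γ • v) 0 c) :
    Um M f ((c * γ) • v) 0 := by
  intro g hg
  have hfv : h f v = 0 := h_symm_zero hF hvf
  obtain ⟨g2, hg2⟩ := exists_um hF hf (h_zero_left f) (s := c) (by rw [h_zero_left]; linear_combination hc)
  have hc' : c * (γ * σ γ) + σ (c * (γ * σ γ)) = 0 := by
    rw [map_mul, map_mul, frob_frob hF]
    linear_combination (γ * σ γ) * hc
  obtain ⟨g3, hg3⟩ := exists_um hF hv (h_zero_left v) (s := c * (γ * σ γ)) (by rw [h_zero_left]; linear_combination hc')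
  have hm : g * g2 * g3 ∈ M := hL _ (by rw [mat_mul, mat_mul, hg, hg2, hg3, um_sum hF γ c hc hvf hv hf])
  have := mul_mem (mul_mem hm (inv_mem (hLv _ hc' g3 hg3))) (inv_mem (hLf c hc g2 hg2))
  simpa [mul_assoc] using this

include hF in
theorem Sh.comm_long {v w f : Fin n → F} (hv : h v v = 0) (hw : h w w = 0) (hf : h f f = 0) (hwv : h w v = 0)
    (hfv : h f v = 0) (hfw : h f w = 1) (hS : Sh M v w) (hLf : Lg hF M f) (hLv : Lg hF M v) : Sh M f v := by
  intro t
  obtain ⟨c, hc0, hc⟩ := exists_skew hF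
  obtain ⟨g1, hg1⟩ := exists_um hF hv (show h ((-σ (t / c)) • w) v = 0 by rw [h_smul_left, hwv, mul_zero])
    (s := 0) (by rw [h_smul_left, h_smul_right hF, hw, map_zero]; ring)
  have hg1M := hS _ g1 hg1
  have := Um.move hF (hLf c hc) hg1M
  rw [mulVec_zero, hg1, umat_mulVec, hfv, h_smul_right hF, hfw, map_neg, frob_frob hF] at this
  have e := short_of_link hF (γ := t / c) hc (h_symm_zero hF hfv) hv hf hLf hLv (by
    convert this using 1
    module)
  rwa [mul_div_cancel₀ _ hc0] at e

include hF in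
theorem comm_same {v a b : Fin n → F} {s t : F} (hv : h v v = 0) (hav : h a v = 0) (hbv : h b v = 0)
    (hs : h a a + s + σ s = 0) (ht : h b b + t + σ t = 0) (h1 : Um M v a s) (h2 : Um M v b t) :
    Um M v 0 (h a b - h b a) := by
  obtain ⟨g1, hg1⟩ := exists_um hF hv hav hs
  obtain ⟨g2, hg2⟩ := exists_um hF hv hbv ht
  refine um_of_mem (g := (g1 * g2) * (g2 * g1)⁻¹) ?_
    (mul_mem (mul_mem (h1 g1 hg1) (h2 g2 hg2)) (inv_mem (mul_mem (h2 g2 hg2) (h1 g1 hg1))))
  have hab : h (a + b) v = 0 := by rw [h_add_left, hav, hbv, add_zero]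
  have hg : h (a + b) (a + b) + (t + s - h a b) + σ (t + s - h a b) = 0 := by
    rw [h_add_left, h_add_right hF, h_add_right hF, map_sub, map_add, h_swap hF a b]
    linear_combination hs + ht
  rw [mat_mul, mat_mul, hg1, hg2, um_inv hF hv hab hg (by rw [mat_mul, hg1, hg2, umat_mul hF hv hbv hav, add_comm]),
    umat_mul hF hv hav hbv, umat_mul hF hv hab (by rw [← neg_one_smul F (a + b), h_smul_left, hab, mul_zero])]
  congr 1
  · abel
  · rw [← neg_one_smul F (a + b), h_smul_left, map_sub, map_add, h_swap hF a b,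
      h_add_left, h_add_right hF, h_add_right hF]
    linear_combination hs + ht

include hF in
theorem comm_radicals {v v' a b : Fin n → F} {s t : F} (hv : h v v = 0) (hv' : h v' v' = 0) (hvv : h v' v = 0)
    (hav : h a v = 0) (hav' : h a v' = 0) (hbv : h b v = 0) (hbv' : h b v' = 0) (hs : h a a + s + σ s = 0)
    (ht : h b b + t + σ t = 0) (h1 : Um M v a s) (h2 : Um M v' b t) : Um M v' ((-h b a) • v) 0 := by
  obtain ⟨g1, hg1⟩ := exists_um hF hv hav hs
  obtain ⟨g2, hg2⟩ := exists_um hF hv' hbv' ht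
  refine um_of_mem (g := g1 * g2 * g1⁻¹ * g2⁻¹) ?_
    (mul_mem (mul_mem (mul_mem (h1 g1 hg1) (h2 g2 hg2)) (inv_mem (h1 g1 hg1))) (inv_mem (h2 g2 hg2)))
  have e := conj_um hF g1 g2 hg2
  have eu : mat g1 *ᵥ v' = v' := by
    rw [hg1, umat_mulVec, hvv, h_symm_zero hF hav']
    module
  have eb : mat g1 *ᵥ b = b + (-h b a) • v := by
    rw [hg1, umat_mulVec, hbv]
    module
  rw [eu, eb] at e
  rw [mat_mul, e, um_inv hF hv' hbv' ht hg2, umat_mul hF hv'
    (by rw [h_add_left, h_smul_left, hbv', h_symm_zero hF hvv, mul_zero, add_zero])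
    (by rw [← neg_one_smul F b, h_smul_left, hbv', mul_zero])]
  congr 1
  · abel
  · rw [← neg_one_smul F b, h_smul_left, h_add_right hF, h_smul_right hF, hbv]
    linear_combination ht

end CfsgLib.TwoGenCl.Unit
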