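/-
Hyperbolic frames of hermitian spaces: the Levi subgroup, the shift and a generation criterion.
-/
import Cfsg.Agent.Lib.TwoGenClassical.UnitRoot

set_option autoImplicit false
set_option linter.unusedSectionVars false

namespace CfsgLib.TwoGenCl.Unit

open Matrix CfsgLib.UnitaryTransvection CfsgLib.UnitarySimple

variable {F : Type*} [Field F] [Fintype F] {q n : ℕ} (hF : Fintype.card F = q ^ 2)

local notation "h" => Cfsg.hermForm n F q
local notation "σ" => frob hF

/-- The partner of an index. -/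
def opp {k r : ℕ} : (Fin k ⊕ Fin k) ⊕ Fin r → (Fin k ⊕ Fin k) ⊕ Fin r := Sum.map Sum.swap id

theorem opp_opp {k r : ℕ} (a : (Fin k ⊕ Fin k) ⊕ Fin r) : opp (opp a) = a := by
  rcases a with (a | a) | a <;> rfl

/-- A hyperbolic frame completed by orthonormal vectors. -/
structure Frame (F : Type*) [Field F] (q n k r : ℕ) where
  v : (Fin k ⊕ Fin k) ⊕ Fin r → (Fin n → F)
  gram : ∀ a b, Cfsg.hermForm n F q (v a) (v b) = if b = opp a then 1 else 0
  card_eq : 2 * k + r = n

namespace Frame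

variable {k r : ℕ} (D : Frame F q n k r)

/-- The first vectors of the pairs. -/
def e (i : Fin k) : Fin n → F := D.v (Sum.inl (Sum.inl i))

/-- The second vectors of the pairs. -/
def f (i : Fin k) : Fin n → F := D.v (Sum.inl (Sum.inr i))

/-- The orthonormal vectors. -/
def u (l : Fin r) : Fin n → F := D.v (Sum.inr l)

theorem ee (i j : Fin k) : h (D.e i) (D.e j) = 0 := by simp [e, D.gram, opp]

theorem ff (i j : Fin k) : h (D.f i) (D.f j) = 0 := by simp [f, D.gram, opp]

theorem ef (i j : Fin k) : h (D.e i) (D.f j) = if j = i then 1 else 0 := by simp [e, f, D.gram, opp]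

theorem fe (i j : Fin k) : h (D.f i) (D.e j) = if j = i then 1 else 0 := by simp [e, f, D.gram, opp]

theorem eu (i : Fin k) (l : Fin r) : h (D.e i) (D.u l) = 0 := by simp [e, u, D.gram, opp]

theorem fu (i : Fin k) (l : Fin r) : h (D.f i) (D.u l) = 0 := by simp [f, u, D.gram, opp]

theorem ue (l : Fin r) (i : Fin k) : h (D.u l) (D.e i) = 0 := by simp [e, u, D.gram, opp]

theorem uf (l : Fin r) (i : Fin k) : h (D.u l) (D.f i) = 0 := by simp [f, u, D.gram, opp]

theorem uu (l : Fin r) : h (D.u l) (D.u l) = 1 := by simp [u, D.gram, opp]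

include hF in
theorem h_sum_right {ι : Type*} (s : Finset ι) (x : Fin n → F) (g : ι → Fin n → F) :
    h x (∑ i ∈ s, g i) = ∑ i ∈ s, h x (g i) := by
  let φ : (Fin n → F) →+ F := AddMonoidHom.mk' (fun y => h x y) (h_add_right hF x)
  exact map_sum φ g s

theorem h_sum_left {ι : Type*} (s : Finset ι) (x : Fin n → F) (g : ι → Fin n → F) :
    h (∑ i ∈ s, g i) x = ∑ i ∈ s, h (g i) x := by
  let φ : (Fin n → F) →+ F := AddMonoidHom.mk' (fun y => h y x) (fun a b => h_add_left a b x)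
  exact map_sum φ g s

theorem h_sum_v (c : (Fin k ⊕ Fin k) ⊕ Fin r → F) (a : (Fin k ⊕ Fin k) ⊕ Fin r) :
    h (∑ b, c b • D.v b) (D.v a) = c (opp a) := by
  rw [h_sum_left, Finset.sum_eq_single (opp a) (fun b _ hb => ?_) (by simp), h_smul_left, D.gram,
    if_pos (opp_opp a).symm, mul_one]
  rw [h_smul_left, D.gram, if_neg, mul_zero]
  rintro rfl
  exact hb (opp_opp b).symm

theorem linInd : LinearIndependent F D.v :=
  Fintype.linearIndependent_iff.mpr fun c hc a => by
    have := D.h_sum_v c (opp a)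
    rw [hc, opp_opp, h_zero_left] at this
    exact this.symm

/-- The basis of a frame. -/
noncomputable def basis : Module.Basis ((Fin k ⊕ Fin k) ⊕ Fin r) F (Fin n → F) :=
  basisOfTopLeSpanOfCardEqFinrank D.v (le_of_eq (D.linInd.span_eq_top_of_card_eq_finrank' (by
    simp only [Fintype.card_sum, Fintype.card_fin, Module.finrank_pi]
    linarith [D.card_eq])).symm) (by
    simp only [Fintype.card_sum, Fintype.card_fin, Module.finrank_pi]
    linarith [D.card_eq])

theorem basis_apply (a : (Fin k ⊕ Fin k) ⊕ Fin r) : D.basis a = D.v a := by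
  simp [basis]

theorem repr_eq (x : Fin n → F) (a : (Fin k ⊕ Fin k) ⊕ Fin r) : D.basis.repr x a = h x (D.v (opp a)) := by
  conv_rhs => rw [← D.basis.sum_repr x]
  simp only [basis_apply]
  rw [D.h_sum_v, opp_opp]

theorem expand (x : Fin n → F) : x = ∑ a, h x (D.v (opp a)) • D.v a := by
  conv_lhs => rw [← D.basis.sum_repr x]
  simp only [basis_apply, repr_eq]

theorem ext_basis {g g' : Cfsg.SU n F q} (e : ∀ a, mat g *ᵥ D.v a = mat g' *ᵥ D.v a) : g = g' :=
  su_ext fun x => by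
    rw [D.expand x]
    simp only [mulVec_sum, mulVec_smul, e]

/-- The matrix with given matrix in the frame basis. -/
noncomputable def mx :
    Matrix ((Fin k ⊕ Fin k) ⊕ Fin r) ((Fin k ⊕ Fin k) ⊕ Fin r) F →ₐ[F] Matrix (Fin n) (Fin n) F :=
  ((Matrix.toLinAlgEquiv D.basis).trans LinearMap.toMatrixAlgEquiv').toAlgHom

theorem mx_mulVec (B : Matrix ((Fin k ⊕ Fin k) ⊕ Fin r) ((Fin k ⊕ Fin k) ⊕ Fin r) F)
    (a : (Fin k ⊕ Fin k) ⊕ Fin r) : D.mx B *ᵥ D.v a = ∑ b, B b a • D.v b := by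
  have : D.mx B *ᵥ D.v a = Matrix.toLinAlgEquiv D.basis B (D.v a) := by
    show LinearMap.toMatrix' (Matrix.toLinAlgEquiv D.basis B) *ᵥ D.v a = _
    rw [LinearMap.toMatrix'_mulVec]
  rw [this, ← D.basis_apply a, Matrix.toLinAlgEquiv_self]
  simp only [basis_apply]

theorem mx_det (B : Matrix ((Fin k ⊕ Fin k) ⊕ Fin r) ((Fin k ⊕ Fin k) ⊕ Fin r) F) : (D.mx B).det = B.det := by
  show (LinearMap.toMatrix' (Matrix.toLinAlgEquiv D.basis B)).det = _
  rw [LinearMap.det_toMatrix']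
  exact LinearMap.det_toLin D.basis B

include hF in
theorem mx_isometry (B : Matrix ((Fin k ⊕ Fin k) ⊕ Fin r) ((Fin k ⊕ Fin k) ⊕ Fin r) F)
    (hB : ∀ a b, h (D.mx B *ᵥ D.v a) (D.mx B *ᵥ D.v b) = h (D.v a) (D.v b)) (x y : Fin n → F) :
    h (D.mx B *ᵥ x) (D.mx B *ᵥ y) = h x y := by
  rw [D.expand x, D.expand y]
  simp only [mulVec_sum, mulVec_smul, h_sum_left, h_sum_right hF, h_smul_left, h_smul_right hF, hB]

/-- The block matrix of an element of the Levi subgroup. -/
noncomputable def lev (p : GL (Fin k) F × Fˣ) : Matrix ((Fin k ⊕ Fin k) ⊕ Fin r) ((Fin k ⊕ Fin k) ⊕ Fin r) F :=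
  fromBlocks (fromBlocks p.1.1 0 0 ((p.1⁻¹).1.map σ)ᵀ) 0 0 ((p.2 : F) • (1 : Matrix (Fin r) (Fin r) F))

theorem lev_one : lev (r := r) hF (1 : GL (Fin k) F × Fˣ) = 1 := by
  simp [lev, Matrix.map_one, fromBlocks_one]

theorem lev_mul (p p' : GL (Fin k) F × Fˣ) : lev (r := r) hF (p * p') = lev hF p * lev hF p' := by
  simp only [lev, Prod.fst_mul, Prod.snd_mul, fromBlocks_multiply, _root_.mul_inv_rev, Units.val_mul, Matrix.map_mul,
    transpose_mul, Matrix.mul_zero, Matrix.zero_mul, add_zero, zero_add, smul_mul_smul, Matrix.mul_one, smul_smul]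

/-- The condition to lie in the special unitary group. -/
def Ok (p : GL (Fin k) F × Fˣ) : Prop :=
  (p.2 : F) * σ (p.2 : F) = 1 ∧ p.1.1.det * (p.2 : F) ^ r = σ p.1.1.det

include hF in
theorem lev_iso {p : GL (Fin k) F × Fˣ} (hp : Ok (r := r) hF p) (a b : (Fin k ⊕ Fin k) ⊕ Fin r) :
    h (D.mx (lev hF p) *ᵥ D.v a) (D.mx (lev hF p) *ᵥ D.v b) = h (D.v a) (D.v b) := by
  rw [D.mx_mulVec, D.mx_mulVec, h_sum_left]
  simp only [h_sum_right hF, h_smul_left, h_smul_right hF, D.gram, mul_ite, mul_one, mul_zero,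
    Finset.sum_ite_eq', Finset.mem_univ, if_true]
  have i1 : p.1.1ᵀ * (p.1⁻¹).1ᵀ = 1 := by
    rw [← transpose_mul, ← Units.val_mul, inv_mul_cancel, Units.val_one, transpose_one]
  have i2 : ((p.1⁻¹).1.map σ) * (p.1.1.map σ) = 1 := by
    rw [← Matrix.map_mul, ← Units.val_mul, inv_mul_cancel, Units.val_one, Matrix.map_one _ (map_zero _) (map_one _)]
  rcases a with (a | a) | a <;> rcases b with (b | b) | b <;>
    simp [lev, opp, Fintype.sum_sum_type, frob_frob hF, Matrix.one_apply, mul_ite]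
  · have := congrFun (congrFun i1 a) b
    simpa [Matrix.mul_apply, Matrix.one_apply, eq_comm, mul_comm] using this
  · have := congrFun (congrFun i2 a) b
    simpa [Matrix.mul_apply, Matrix.one_apply, eq_comm, mul_comm] using this
  · split_ifs <;> simp_all [mul_comm, hp.1]

theorem lev_det {p : GL (Fin k) F × Fˣ} (hp : Ok (r := r) hF p) : (lev (r := r) hF p).det = 1 := by
  have e : (p.1⁻¹).1.det * p.1.1.det = 1 := by
    rw [← det_mul, ← Units.val_mul, inv_mul_cancel, Units.val_one, det_one]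
  have e2 := congrArg σ e
  rw [map_mul, map_one, ← hp.2] at e2
  rw [lev, det_fromBlocks_zero₂₁, det_fromBlocks_zero₂₁, det_transpose, det_smul, det_one, Fintype.card_fin,
    mul_one, show (p.1⁻¹).1.map σ = RingHom.mapMatrix σ (p.1⁻¹).1 from rfl, ← RingHom.map_det]
  linear_combination e2

/-- An element of the Levi subgroup. -/
noncomputable def levi (p : GL (Fin k) F × Fˣ) (hp : Ok (r := r) hF p) : Cfsg.SU n F q :=
  mkSU (D.mx (lev hF p)) (D.mx_isometry hF _ (D.lev_iso hF hp)) (by rw [D.mx_det, lev_det hF hp])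

include hF in
theorem ok_mul {p p' : GL (Fin k) F × Fˣ} (hp : Ok (r := r) hF p) (hp' : Ok (r := r) hF p') :
    Ok (r := r) hF (p * p') := by
  refine ⟨?_, ?_⟩
  · simp only [Prod.snd_mul, Units.val_mul, map_mul]
    linear_combination ((p'.2 : F) * σ (p'.2 : F)) * hp.1 + hp'.1
  · simp only [Prod.fst_mul, Prod.snd_mul, Units.val_mul, det_mul, map_mul, mul_pow, ← hp.2, ← hp'.2]
    ring

include hF in
theorem ok_pow {p : GL (Fin k) F × Fˣ} (hp : Ok (r := r) hF p) (j : ℕ) : Ok (r := r) hF (p ^ j) := by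
  induction j with
  | zero => simp [Ok]
  | succ j ih => rw [pow_succ]; exact ok_mul hF ih hp

theorem levi_mul {p p' : GL (Fin k) F × Fˣ} (hp : Ok (r := r) hF p) (hp' : Ok (r := r) hF p') :
    D.levi hF (p * p') (ok_mul hF hp hp') = D.levi hF p hp * D.levi hF p' hp' :=
  su_ext fun x => by
    show D.mx (lev hF (p * p')) *ᵥ x = (D.mx (lev hF p) * D.mx (lev hF p')) *ᵥ x
    rw [lev_mul, map_mul]

theorem levi_pow {p : GL (Fin k) F × Fˣ} (hp : Ok (r := r) hF p) (j : ℕ) :
    D.levi hF p hp ^ j = D.levi hF (p ^ j) (ok_pow hF hp j) := by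
  induction j with
  | zero =>
    refine su_ext fun x => ?_
    show mat (1 : Cfsg.SU n F q) *ᵥ x = D.mx (lev hF (p ^ 0)) *ᵥ x
    rw [pow_zero p, lev_one, map_one, mat_one]
  | succ j ih =>
    rw [pow_succ, ih, ← D.levi_mul]
    simp only [pow_succ]

theorem levi_e {p : GL (Fin k) F × Fˣ} (hp : Ok (r := r) hF p) (j : Fin k) :
    mat (D.levi hF p hp) *ᵥ D.e j = ∑ i, p.1.1 i j • D.e i := by
  show D.mx _ *ᵥ _ = _
  rw [e, D.mx_mulVec]
  simp [lev, Fintype.sum_sum_type, e]

theorem levi_f {p : GL (Fin k) F × Fˣ} (hp : Ok (r := r) hF p) (j : Fin k) :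
    mat (D.levi hF p hp) *ᵥ D.f j = ∑ i, σ ((p.1⁻¹).1 j i) • D.f i := by
  show D.mx _ *ᵥ _ = _
  rw [f, D.mx_mulVec]
  simp [lev, Fintype.sum_sum_type, f]

theorem levi_u {p : GL (Fin k) F × Fˣ} (hp : Ok (r := r) hF p) (l : Fin r) :
    mat (D.levi hF p hp) *ᵥ D.u l = (p.2 : F) • D.u l := by
  show D.mx _ *ᵥ _ = _
  rw [u, D.mx_mulVec]
  simp [lev, Fintype.sum_sum_type, Matrix.one_apply, ite_smul]

end Frame

end CfsgLib.TwoGenCl.Unit
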