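/-
Root components at a vector, and field lemmas for the generation of special unitary groups.
-/
import Cfsg.Agent.Lib.TwoGenClassical.UnitFrame

set_option autoImplicit false
set_option linter.unusedSectionVars false

namespace CfsgLib.TwoGenCl.Unit

open Matrix CfsgLib.UnitaryTransvection CfsgLib.UnitarySimple

section Field

variable {F : Type*} [Field F] [Fintype F] {q : ℕ} (hF : Fintype.card F = q ^ 2)

local notation "σ" => frob hF

/-- An additive subgroup stable under multiplication by an element of large order is everything. -/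
theorem eq_top_of_stable (hF : Fintype.card F = q ^ 2) {ν : F} (h0 : ν ≠ 0) (hν : ∀ m, 0 < m → m < q → ν ^ m ≠ 1) (A : AddSubgroup F)
    {γ : F} (hγ : γ ≠ 0) (hγA : γ ∈ A) (hA : ∀ a ∈ A, ν * a ∈ A) : A = ⊤ := by
  classical
  let R : Subring F :=
    { carrier := {r | ∀ a ∈ A, r * a ∈ A}
      zero_mem' := fun a _ => by simp [A.zero_mem]
      one_mem' := fun a ha => by rwa [one_mul]
      add_mem' := fun hr hs a ha => by rw [add_mul]; exact A.add_mem (hr a ha) (hs a ha)
      mul_mem' := fun hr hs a ha => by rw [mul_assoc]; exact hr _ (hs a ha)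
      neg_mem' := fun hr a ha => by rw [neg_mul]; exact A.neg_mem (hr a ha) }
  let K : Subfield F :=
    { R with
      inv_mem' := fun x hx => by
        rcases eq_or_ne x 0 with rfl | h0
        · rw [_root_.inv_zero]; exact R.zero_mem
        · have h1 := FiniteField.pow_card_sub_one_eq_one x h0
          have h2 := Fintype.one_lt_card (α := F)
          rw [show Fintype.card F - 1 = Fintype.card F - 2 + 1 by omega, pow_succ] at h1
          rw [inv_eq_of_mul_eq_one_left h1]
          exact R.pow_mem hx _ }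
  have hq := (UnitaryBasic.frob_exists hF).1
  by_cases hm : Module.finrank K F = 1
  · refine (AddSubgroup.eq_top_iff' A).mpr fun y => ?_
    obtain ⟨c, hc⟩ := (finrank_eq_one_iff_of_nonzero' γ hγ).mp hm y
    rw [← hc, Subfield.smul_def, smul_eq_mul]
    exact c.2 γ hγA
  · exfalso
    haveI : Fintype K := Fintype.ofFinite K
    have hcard : q ^ 2 = Fintype.card K ^ Module.finrank K F := by
      rw [← hF]; exact Module.card_eq_pow_finrank
    have h2 : 2 ≤ Module.finrank K F := by
      have := Module.finrank_pos (R := K) (M := F); omega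
    have hK := Fintype.one_lt_card (α := K)
    have hle : Fintype.card K ≤ q := by
      by_contra hlt
      have : Fintype.card K ^ 2 ≤ q ^ 2 := by
        rw [hcard]; exact Nat.pow_le_pow_right (by omega) h2
      nlinarith
    refine hν (Fintype.card K - 1) (by omega) (by omega) ?_
    have := FiniteField.pow_card_sub_one_eq_one (⟨ν, hA⟩ : K) (fun e => h0 (congrArg Subtype.val e))
    simpa using congrArg Subtype.val this

/-- The twisting scalar has large order. -/
theorem twist_order (hF : Fintype.card F = q ^ 2) (hq3 : 3 ≤ q) {ω : Fˣ} (hω : orderOf ω = q ^ 2 - 1) {m : ℕ}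
    (hm : 0 < m) (hmq : m < q) : ((ω : F) ^ (2 * q - 1)) ^ m ≠ 1 := by
  intro e
  have h1 : q ^ 2 - 1 ∣ (2 * q - 1) * m := by
    rw [← hω]
    exact orderOf_dvd_of_pow_eq_one (Units.ext (by rw [Units.val_pow_eq_pow_val, pow_mul, e, Units.val_one]))
  obtain ⟨Q, rfl⟩ : ∃ Q, q = Q + 3 := ⟨q - 3, by omega⟩
  have hN : (Q + 3) ^ 2 - 1 = Q * Q + 6 * Q + 8 := by
    have : (Q + 3) ^ 2 = Q * Q + 6 * Q + 9 := by ring
    omega
  rw [hN, show 2 * (Q + 3) - 1 = 2 * Q + 5 by omega] at h1
  have h2 : (Q * Q + 6 * Q + 8) ∣ 3 * m := by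
    have h3 : (Q * Q + 6 * Q + 8) ∣ (2 * Q + 7) * ((2 * Q + 5) * m) := h1.mul_left _
    rw [show (2 * Q + 7) * ((2 * Q + 5) * m) = (Q * Q + 6 * Q + 8) * (4 * m) + 3 * m by ring] at h3
    exact (Nat.dvd_add_iff_right (dvd_mul_right _ _)).mpr h3
  have := Nat.le_of_dvd (by omega) h2
  nlinarith

/-- The fixed elements and a further element span everything. -/
theorem span_fixed {ρ : F} (hρ : σ ρ ≠ ρ) (y : F) :
    ∃ u w : F, σ u = u ∧ σ w = w ∧ y = u + w * ρ := by
  have hne : ρ - σ ρ ≠ 0 := sub_ne_zero.mpr hρ.symm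
  have hw : σ ((y - σ y) / (ρ - σ ρ)) = (y - σ y) / (ρ - σ ρ) := by
    rw [map_div₀, map_sub, map_sub, frob_frob hF, frob_frob hF, div_eq_div_iff (sub_ne_zero.mpr hρ) hne]
    ring
  refine ⟨y - (y - σ y) / (ρ - σ ρ) * ρ, _, ?_, hw, by ring⟩
  rw [map_sub, map_mul, hw]
  have : (y - σ y) / (ρ - σ ρ) * (ρ - σ ρ) = y - σ y := div_mul_cancel₀ _ hne
  linear_combination this

/-- An additive subgroup with two independent classes is everything. -/
theorem eq_top_of_classes (A : AddSubgroup F) {α β : F} (hα : α ≠ 0) (hβ : σ (β / α) ≠ β / α)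
    (h1 : ∀ t, σ t = t → t * α ∈ A) (h2 : ∀ t, σ t = t → t * β ∈ A) : A = ⊤ := by
  refine (AddSubgroup.eq_top_iff' A).mpr fun y => ?_
  obtain ⟨u, w, hu, hw, e⟩ := span_fixed hF hβ (y / α)
  rw [div_eq_iff hα] at e
  rw [e, add_mul, mul_assoc, div_mul_cancel₀ _ hα]
  exact A.add_mem (h1 u hu) (h2 w hw)

end Field

variable {F : Type*} [Field F] [Fintype F] {q n : ℕ} (hF : Fintype.card F = q ^ 2)

local notation "h" => Cfsg.hermForm n F q
local notation "σ" => frob hF

/-- Some element of the radical at `v` with component `a` lies in `M`. -/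
def Adm (M : Subgroup (Cfsg.SU n F q)) (v a : Fin n → F) : Prop :=
  h a v = 0 ∧ ∃ s, h a a + s + σ s = 0 ∧ Um M v a s

variable {M : Subgroup (Cfsg.SU n F q)}

include hF in
theorem Adm.zero {v : Fin n → F} : Adm hF M v 0 := by
  refine ⟨h_zero_left v, 0, by rw [h_zero_left, map_zero]; ring, um_of_mem (g := 1) ?_ (one_mem M)⟩
  rw [mat_one, umat_zero hF]

/-- The admissible components at `v`. -/
def admGroup {v : Fin n → F} (hv : h v v = 0) : AddSubgroup (Fin n → F) where
  carrier := {a | Adm hF M v a}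
  zero_mem' := Adm.zero hF
  add_mem' := by
    rintro a b ⟨hav, s, hs, hA⟩ ⟨hbv, t, ht, hB⟩
    refine ⟨by rw [h_add_left, hav, hbv, add_zero], _, ?_, Um.mul hF hv hav hbv hs ht hA hB⟩
    rw [h_add_left, h_add_right hF, h_add_right hF, map_sub, map_add, h_swap hF b a]
    linear_combination hs + ht
  neg_mem' := by
    rintro a ⟨hav, s, hs, hA⟩
    obtain ⟨g, hg⟩ := exists_um hF hv hav hs
    refine ⟨by rw [← neg_one_smul F a, h_smul_left, hav, mul_zero], σ s, ?_,
      um_of_mem (um_inv hF hv hav hs hg) (inv_mem (hA g hg))⟩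
    rw [h_neg_right' hF, ← neg_one_smul F a, h_smul_left, frob_frob hF]
    linear_combination hs

theorem mem_admGroup {v a : Fin n → F} (hv : h v v = 0) : a ∈ admGroup hF (M := M) hv ↔ Adm hF M v a := Iff.rfl

/-- The admissible multiples of a vector. -/
def admLine {v : Fin n → F} (hv : h v v = 0) (w : Fin n → F) : AddSubgroup F :=
  (admGroup hF (M := M) hv).comap (LinearMap.toSpanSingleton F (Fin n → F) w).toAddMonoidHom

theorem mem_admLine {v : Fin n → F} (hv : h v v = 0) (w : Fin n → F) (γ : F) :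
    γ ∈ admLine hF (M := M) hv w ↔ Adm hF M v (γ • w) := Iff.rfl

include hF in
theorem umat_self (v : Fin n → F) (α s : F) :
    umat (q := q) v (α • v) s = umat (q := q) v 0 (s + α - σ α) := by
  refine Matrix.ext_of_mulVec_single fun i => ?_
  rw [umat_mulVec, umat_mulVec, h_smul_right hF, h_zero_right hF]
  module

include hF in
theorem Adm.self {v : Fin n → F} (hv : h v v = 0) (hL : Lg hF M v) (α : F) : Adm hF M v (α • v) := by
  refine ⟨by rw [h_smul_left, hv, mul_zero], 0, by rw [h_smul_left, h_smul_right hF, hv, map_zero]; ring, ?_⟩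
  intro g hg
  rw [umat_self hF, zero_add] at hg
  exact hL _ (by rw [map_sub, frob_frob hF]; ring) g hg

include hF in
/-- With all long root elements every admissible component is pure. -/
theorem Adm.um {v a : Fin n → F} (hv : h v v = 0) (hL : Lg hF M v) (hA : Adm hF M v a) {s : F}
    (hs : h a a + s + σ s = 0) : Um M v a s := by
  obtain ⟨hav, t, ht, hU⟩ := hA
  have hc : (s - t) + σ (s - t) = 0 := by rw [map_sub]; linear_combination hs - ht
  have := Um.mul hF hv hav (h_zero_left v) ht (by rw [h_zero_left]; linear_combination hc) hU (hL _ hc)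
  rwa [add_zero, h_zero_left, sub_zero, add_sub_cancel] at this

include hF in
theorem rad_of_adm {v : Fin n → F} (hv : h v v = 0) (hL : Lg hF M v)
    (hA : ∀ a, h a v = 0 → Adm hF M v a) : Rad hF M v := fun a _ ha hs => Adm.um hF hv hL (hA a ha) hs

include hF in
theorem Adm.of_sh {v w : Fin n → F} (hwv : h w v = 0) (hw : h w w = 0) (hS : Sh M v w) (t : F) :
    Adm hF M v (t • w) :=
  ⟨by rw [h_smul_left, hwv, mul_zero], 0, by rw [h_smul_left, h_smul_right hF, hw, map_zero]; ring, hS t⟩

include hF in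
theorem sh_of_adm {v w : Fin n → F} (hv : h v v = 0) (hw : h w w = 0) (hL : Lg hF M v)
    (hA : ∀ t : F, Adm hF M v (t • w)) : Sh M v w := fun t =>
  Adm.um hF hv hL (hA t) (by rw [h_smul_left, h_smul_right hF, hw, map_zero]; ring)

include hF in
theorem Adm.of_smul {v a : Fin n → F} {c : F} (hc : c ≠ 0) (hA : Adm hF M (c • v) a) :
    Adm hF M v (σ c • a) := by
  obtain ⟨hav, s, hs, hU⟩ := hA
  have hc' : σ c ≠ 0 := by simpa using hc
  rw [h_smul_right hF] at hav
  refine ⟨by rw [h_smul_left, (mul_eq_zero.mp hav).resolve_left hc', mul_zero], c * σ c * s, ?_, fun g hg => ?_⟩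
  · rw [h_smul_left, h_smul_right hF, frob_frob hF, map_mul, map_mul, frob_frob hF]
    linear_combination (c * σ c) * hs
  · exact hU g (by rw [hg, umat_smul hF])

include hF in
theorem Adm.move {v a : Fin n → F} (hA : Adm hF M v a) {g : Cfsg.SU n F q} (hg : g ∈ M) :
    Adm hF M (mat g *ᵥ v) (mat g *ᵥ a) := by
  obtain ⟨hav, s, hs, hU⟩ := hA
  exact ⟨by rw [su_h, hav], s, by rw [su_h]; exact hs, Um.move hF hU hg⟩

include hF in
/-- Orthonormal components give all long root elements. -/
theorem lg_of_line {v w : Fin n → F} (hv : h v v = 0) (hw : h w w = 1) (hA : ∀ γ : F, Adm hF M v (γ • w)) :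
    Lg hF M v := by
  intro c hc
  obtain ⟨d, hd⟩ := exists_trace_one hF
  obtain ⟨hb, t, ht, hB⟩ := hA 1
  obtain ⟨ha, s, hs, hA'⟩ := hA (c * d)
  have := comm_same hF hv ha hb hs ht hA' hB
  rwa [h_smul_left, h_smul_right hF, h_smul_left, h_smul_right hF, hw, map_one, map_mul,
    show σ c = -c by linear_combination hc,
    show c * d * (1 * 1) - 1 * (-c * σ d * 1) = c by linear_combination c * hd] at this

include hF in
/-- Long root elements with square multiples give all long root elements. -/
theorem lg_of_sq {v : Fin n → F} (hv : h v v = 0) {c₀ : F} (h0 : c₀ ≠ 0) (hc₀ : c₀ + σ c₀ = 0)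
    (hU : ∀ t, σ t = t → t ≠ 0 → Um M v 0 (c₀ * t ^ 2)) : Lg hF M v := by
  let K : Subfield F := RingHom.eqLocusField σ (RingHom.id F)
  have hK : ∀ x : K, σ (x : F) = x := fun x => x.2
  let A : AddSubgroup K :=
    { carrier := {t | Um M v 0 (c₀ * t)}
      zero_mem' := by
        refine um_of_mem (g := 1) ?_ (one_mem M)
        rw [mat_one, ZeroMemClass.coe_zero, mul_zero, umat_zero hF]
      add_mem' := by
        intro a b ha hb
        have := Um.mul hF hv (h_zero_left v) (h_zero_left v)
          (show h 0 0 + c₀ * a + σ (c₀ * a) = 0 by rw [h_zero_left, map_mul, hK]; linear_combination (a : F) * hc₀)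
          (show h 0 0 + c₀ * b + σ (c₀ * b) = 0 by rw [h_zero_left, map_mul, hK]; linear_combination (b : F) * hc₀)
          ha hb
        rw [add_zero, h_zero_left, sub_zero, ← mul_add] at this
        exact this
      neg_mem' := by
        intro a ha
        have hs : h 0 0 + c₀ * a + σ (c₀ * a) = 0 := by rw [h_zero_left, map_mul, hK]; linear_combination (a : F) * hc₀
        obtain ⟨g, hg⟩ := exists_um hF hv (h_zero_left v) hs
        refine um_of_mem (g := g⁻¹) ?_ (inv_mem (ha g hg))
        rw [um_inv hF hv (h_zero_left v) hs hg, neg_zero, map_mul, hK]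
        congr 1
        push_cast
        linear_combination (a : F) * hc₀ }
  have hA : A = ⊤ := eq_top_of_sq A (c := (1 : K)) one_ne_zero fun t ht => by
    show Um M v 0 (c₀ * ((1 * t ^ 2 : K) : F))
    push_cast
    rw [one_mul]
    exact hU t (hK t) (fun e => ht (Subtype.ext e))
  intro c hc
  have hfix : σ (c / c₀) = c / c₀ := by
    rw [map_div₀, show σ c = -c by linear_combination hc, show σ c₀ = -c₀ by linear_combination hc₀, neg_div_neg_eq]
  have : (⟨c / c₀, hfix⟩ : K) ∈ A := by rw [hA]; trivial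
  have e : Um M v 0 (c₀ * (c / c₀)) := this
  rwa [mul_div_cancel₀ _ h0] at e

end CfsgLib.TwoGenCl.Unit
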