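/-
Flips, the shift of a frame, and the generation criterion.
-/
import Cfsg.Agent.Lib.TwoGenClassical.UnitCrit

set_option autoImplicit false
set_option linter.unusedSectionVars false

namespace CfsgLib.TwoGenCl.Unit

open Matrix CfsgLib.UnitaryTransvection CfsgLib.UnitarySimple

variable {F : Type*} [Field F] [Fintype F] {q n : ℕ} (hF : Fintype.card F = q ^ 2)

local notation "h" => Cfsg.hermForm n F q
local notation "σ" => frob hF

theorem mat_tv (v : Fin n → F) (hv : h v v = 0) (c : F) (hc : c + σ c = 0) :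
    mat (tv hF v hv c hc) = umat (q := q) v 0 c :=
  Matrix.ext_of_mulVec_single fun i => by rw [tv_mulVec, umat_mulVec, h_zero_right hF]; module

include hF in
theorem skew_inv {d : F} (hd : d + σ d = 0) : -d⁻¹ + σ (-d⁻¹) = 0 := by
  rw [map_neg, map_inv₀, show σ d = -d by linear_combination hd, _root_.inv_neg]
  ring

variable {M : Subgroup (Cfsg.SU n F q)}

namespace Frame

variable {k r : ℕ} (D : Frame F q n k r)

/-- The flip of a pair. -/
noncomputable def flipAt (i : Fin k) {d : F} (hd : d + σ d = 0) : Cfsg.SU n F q :=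
  tv hF (D.e i) (D.ee i i) (-d⁻¹) (skew_inv hF hd) * tv hF (D.f i) (D.ff i i) d hd *
    tv hF (D.e i) (D.ee i i) (-d⁻¹) (skew_inv hF hd)

theorem flipAt_e (i : Fin k) {d : F} (hd0 : d ≠ 0) (hd : d + σ d = 0) :
    mat (D.flipAt hF i hd) *ᵥ D.e i = d • D.f i := by
  have e1 : mat (tv hF (D.e i) (D.ee i i) (-d⁻¹) (skew_inv hF hd)) *ᵥ D.e i = D.e i := by
    rw [tv_mulVec, D.ee, mul_zero, zero_smul, add_zero]
  have e2 : mat (tv hF (D.f i) (D.ff i i) d hd) *ᵥ D.e i = D.e i + d • D.f i := by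
    rw [tv_mulVec, D.ef, if_pos rfl, mul_one]
  rw [flipAt, mat_mul, mat_mul, ← mulVec_mulVec, ← mulVec_mulVec, e1, e2, tv_mulVec, h_add_left, h_smul_left,
    D.ee, D.fe, if_pos rfl, zero_add, mul_one, neg_mul, inv_mul_cancel₀ hd0]
  module

theorem flipAt_f (i : Fin k) {d : F} (hd0 : d ≠ 0) (hd : d + σ d = 0) :
    mat (D.flipAt hF i hd) *ᵥ D.f i = (-d⁻¹) • D.e i := by
  have e1 : mat (tv hF (D.e i) (D.ee i i) (-d⁻¹) (skew_inv hF hd)) *ᵥ D.f i = D.f i + (-d⁻¹) • D.e i := by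
    rw [tv_mulVec, D.fe, if_pos rfl, mul_one]
  have e2 : mat (tv hF (D.f i) (D.ff i i) d hd) *ᵥ (D.f i + (-d⁻¹) • D.e i) = (-d⁻¹) • D.e i := by
    rw [tv_mulVec, h_add_left, h_smul_left, D.ff, D.ef, if_pos rfl, zero_add, mul_one, mul_neg,
      mul_inv_cancel₀ hd0]
    module
  rw [flipAt, mat_mul, mat_mul, ← mulVec_mulVec, ← mulVec_mulVec, e1, e2, tv_mulVec, h_smul_left, D.ee, mul_zero,
    mul_zero, zero_smul, add_zero]

theorem flipAt_fix (i : Fin k) {d : F} (hd : d + σ d = 0) {x : Fin n → F} (hxe : h x (D.e i) = 0)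
    (hxf : h x (D.f i) = 0) : mat (D.flipAt hF i hd) *ᵥ x = x := by
  have e1 : mat (tv hF (D.e i) (D.ee i i) (-d⁻¹) (skew_inv hF hd)) *ᵥ x = x := by
    rw [tv_mulVec, hxe, mul_zero, zero_smul, add_zero]
  have e2 : mat (tv hF (D.f i) (D.ff i i) d hd) *ᵥ x = x := by
    rw [tv_mulVec, hxf, mul_zero, zero_smul, add_zero]
  rw [flipAt, mat_mul, mat_mul, ← mulVec_mulVec, ← mulVec_mulVec, e1, e2, e1]

theorem flipAt_mem (i : Fin k) {d : F} (hd : d + σ d = 0) (he : Lg hF M (D.e i)) (hf : Lg hF M (D.f i)) :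
    D.flipAt hF i hd ∈ M :=
  mul_mem (mul_mem (he _ (skew_inv hF hd) _ (mat_tv hF _ _ _ _)) (hf _ hd _ (mat_tv hF _ _ _ _)))
    (he _ (skew_inv hF hd) _ (mat_tv hF _ _ _ _))

variable [NeZero k]

/-- The shift along the frame. -/
def IsShift (N : Cfsg.SU n F q) (d : F) : Prop :=
  d ≠ 0 ∧ (∀ i, mat N *ᵥ D.e i = if i + 1 = 0 then d • D.f 0 else D.e (i + 1)) ∧
    (∀ i, mat N *ᵥ D.f i = if i + 1 = 0 then (-d⁻¹) • D.e 0 else D.f (i + 1)) ∧
    ∀ l, mat N *ᵥ D.u l = D.u l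

include hF in
theorem exists_shift : ∃ (N : Cfsg.SU n F q) (d : F), D.IsShift N d := by
  classical
  obtain ⟨d, hd0, hd⟩ := exists_skew hF
  set π := finRotate k
  have hdet : ((permG F π).1).det = ((Equiv.Perm.sign π : ℤ) : F) := by
    rw [show (permG F π).1 = Equiv.Perm.permMatrix F π⁻¹ from Matrix.ext fun i j => by
      simp [permG, permM, PEquiv.toMatrix_apply, Equiv.Perm.permMatrix, Equiv.eq_symm_apply, eq_comm,
        Equiv.toPEquiv, Equiv.Perm.inv_def, Equiv.symm_apply_eq], Matrix.det_permutation, Equiv.Perm.sign_inv]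
  have hp : Ok (r := r) hF (permG F π, 1) := by
    refine ⟨by simp, ?_⟩
    rw [hdet, map_intCast]
    simp
  have hπ : ∀ i, π i = i + 1 := fun i => by
    rcases k with _ | k
    · exact i.elim0
    · exact finRotate_succ_apply i
  have he : ∀ i, mat (D.levi hF _ hp) *ᵥ D.e i = D.e (i + 1) := fun i => by
    rw [D.levi_e, Finset.sum_eq_single (π i) (fun j _ hj => by
      show (permM F π) j i • D.e j = 0
      simp [permM, hj]) (by simp)]
    show (permM F π) (π i) i • D.e (π i) = _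
    simp [permM, hπ]
  have hf : ∀ i, mat (D.levi hF _ hp) *ᵥ D.f i = D.f (i + 1) := fun i => by
    rw [D.levi_f, Finset.sum_eq_single (π i) (fun j _ hj => by
      show σ ((permM F π⁻¹) i j) • D.f j = 0
      simp [permM, Equiv.eq_symm_apply, hj.symm]) (by simp)]
    show σ ((permM F π⁻¹) i (π i)) • D.f (π i) = _
    simp [permM, Equiv.eq_symm_apply, hπ]
  refine ⟨D.flipAt hF 0 hd * D.levi hF _ hp, d, hd0, fun i => ?_, fun i => ?_, fun l => ?_⟩
  · rw [mat_mul, ← mulVec_mulVec, he]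
    split_ifs with h0
    · rw [h0, D.flipAt_e hF 0 hd0]
    · exact D.flipAt_fix hF 0 hd (D.ee _ _) (by rw [D.ef, if_neg (Ne.symm h0)])
  · rw [mat_mul, ← mulVec_mulVec, hf]
    split_ifs with h0
    · rw [h0, D.flipAt_f hF 0 hd0]
    · exact D.flipAt_fix hF 0 hd (by rw [D.fe, if_neg (Ne.symm h0)]) (D.ff _ _)
  · rw [mat_mul, ← mulVec_mulVec, D.levi_u, Units.val_one, one_smul, D.flipAt_fix hF 0 hd (D.ue _ _) (D.uf _ _)]

variable {D}

theorem IsShift.next {N : Cfsg.SU n F q} {d : F} (hN : D.IsShift N d) {i j : Fin k} (hij : i.val + 1 = j.val) :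
    mat N *ᵥ D.e i = D.e j ∧ mat N *ᵥ D.f i = D.f j := by
  have e : i + 1 = j := Fin.ext (by
    rw [Fin.val_add, Fin.val_one', Nat.add_mod_mod, Nat.mod_eq_of_lt (by omega)]
    omega)
  have h0 : i + 1 ≠ 0 := by
    rw [e]
    intro hj
    have := congrArg Fin.val hj
    rw [Fin.val_zero] at this
    omega
  exact ⟨by rw [hN.2.1, if_neg h0, e], by rw [hN.2.2.1, if_neg h0, e]⟩

theorem IsShift.last {N : Cfsg.SU n F q} {d : F} (hN : D.IsShift N d) {i : Fin k} (hi : i.val + 1 = k) :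
    mat N *ᵥ D.e i = d • D.f 0 ∧ mat N *ᵥ D.f i = (-d⁻¹) • D.e 0 := by
  have h0 : i + 1 = 0 := Fin.ext (by rw [Fin.val_add, Fin.val_one', Nat.add_mod_mod, hi, Nat.mod_self, Fin.val_zero])
  exact ⟨by rw [hN.2.1, if_pos h0], by rw [hN.2.2.1, if_pos h0]⟩

theorem IsShift.lg {N : Cfsg.SU n F q} {d : F} (hN : D.IsShift N d) (hM : N ∈ M) (h0 : Lg hF M (D.e 0)) :
    ∀ i, Lg hF M (D.e i) ∧ Lg hF M (D.f i) := by
  have he : ∀ j, ∀ i : Fin k, i.val = j → Lg hF M (D.e i) := by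
    intro j
    induction j with
    | zero => intro i hi; rwa [show i = 0 from Fin.ext hi]
    | succ j ih =>
      intro i hi
      have hlt := i.isLt
      have := Lg.move hF (ih ⟨j, by omega⟩ rfl) hM
      rwa [(hN.next (i := ⟨j, by omega⟩) hi.symm).1] at this
  have hk : 0 < k := Nat.pos_of_ne_zero (NeZero.ne k)
  have hf : ∀ j, ∀ i : Fin k, i.val = j → Lg hF M (D.f i) := by
    intro j
    induction j with
    | zero =>
      intro i hi
      have := Lg.move hF (he (k - 1) ⟨k - 1, by omega⟩ rfl) hM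
      rw [(hN.last (i := ⟨k - 1, by omega⟩) (Nat.sub_add_cancel hk)).1] at this
      rw [show i = 0 from Fin.ext hi]
      exact Lg.of_smul hF hN.1 this
    | succ j ih =>
      intro i hi
      have hlt := i.isLt
      have := Lg.move hF (ih ⟨j, by omega⟩ rfl) hM
      rwa [(hN.next (i := ⟨j, by omega⟩) hi.symm).2] at this
  exact fun i => ⟨he _ i rfl, hf _ i rfl⟩

include hF in
/-- The shift, one long root group, one short root group and the anisotropic part generate. -/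
theorem IsShift.top (hn : 3 ≤ n) (h32 : ¬ (n = 3 ∧ q = 2)) {N : Cfsg.SU n F q} {d : F} (hN : D.IsShift N d)
    (hM : N ∈ M) (hL : Lg hF M (D.e 0)) (h1 : ∀ i : Fin k, i.val = 1 → Sh M (D.e 0) (D.e i))
    (hu : ∀ l (γ : F), Adm hF M (D.e 0) (γ • D.u l)) : M = ⊤ := by
  have hLg := hN.lg hF hM hL
  have nz : ∀ {i j : Fin k}, i.val ≠ j.val → i ≠ j := fun hh e => hh (by rw [e])
  have adj : ∀ m, ∀ i j : Fin k, i.val = m → j.val = m + 1 → Sh M (D.e i) (D.e j) := by
    intro m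
    induction m with
    | zero => intro i j hi hj; rw [show i = 0 from Fin.ext hi]; exact h1 j hj
    | succ m ih =>
      intro i j hi hj
      have hlt := j.isLt
      have := Sh.move hF (ih ⟨m, by omega⟩ ⟨m + 1, by omega⟩ rfl rfl) hM
      rwa [(hN.next (i := ⟨m, by omega⟩) hi.symm).1, (hN.next (i := ⟨m + 1, by omega⟩) hj.symm).1] at this
  have chain : ∀ m, ∀ i : Fin k, i.val = m + 1 → Sh M (D.e 0) (D.e i) := by
    intro m
    induction m with
    | zero => exact h1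
    | succ m ih =>
      intro i hi
      have hlt := i.isLt
      set w : Fin k := ⟨m + 1, by omega⟩ with hw
      have hwi : w ≠ i := nz (by simp [hw]; omega)
      have hw0 : w ≠ 0 := nz (by simp [hw])
      have hi0 : i ≠ 0 := nz (by rw [Fin.val_zero]; omega)
      have hB : Sh M (D.f w) (D.e i) :=
        Sh.comm_long hF (D.ee i i) (D.ee w w) (D.ff w w) (D.ee w i) (by rw [D.fe, if_neg hwi.symm])
          (by rw [D.fe, if_pos rfl]) (Sh.symm hF (adj (m + 1) w i rfl hi)) (hLg w).2 (hLg i).1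
      exact Sh.symm hF (Sh.comm hF (D.ee 0 0) (D.ee w w) (D.ee i i) (D.ff w w) (D.ee w 0) (D.ee i 0) (D.ee i w)
        (by rw [D.fe, if_neg hw0.symm]) (by rw [D.fe, if_neg hwi.symm]) (by rw [D.fe, if_pos rfl])
        (ih w rfl) (Sh.symm hF hB))
  have hE : ∀ i, i ≠ 0 → Sh M (D.e 0) (D.e i) := fun i hi => by
    have : i.val ≠ 0 := fun e => hi (Fin.ext e)
    exact chain (i.val - 1) i (by omega)
  have hFS : ∀ i, i ≠ 0 → Sh M (D.e 0) (D.f i) := fun i hi =>
    Sh.symm hF (Sh.comm_long hF (D.ee 0 0) (D.ee i i) (D.ff i i) (D.ee i 0) (by rw [D.fe, if_neg hi.symm])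
      (by rw [D.fe, if_pos rfl]) (hE i hi) (hLg i).2 hL)
  have hR : Rad hF M (D.e 0) := by
    refine rad_of_adm hF (D.ee 0 0) hL fun a ha => ?_
    rw [← mem_admGroup hF (D.ee 0 0), D.expand a]
    refine AddSubgroup.sum_mem _ fun b _ => ?_
    rw [mem_admGroup]
    rcases b with (i | i) | l
    · rcases eq_or_ne i 0 with rfl | hi
      · exact Adm.self hF (D.ee 0 0) hL _
      · exact Adm.of_sh hF (D.ee i 0) (D.ee i i) (hE i hi) _
    · rcases eq_or_ne i 0 with rfl | hi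
      · show Adm hF M _ (h a (D.e 0) • _)
        rw [ha, zero_smul]
        exact Adm.zero hF
      · exact Adm.of_sh hF (by show h (D.f i) (D.e 0) = 0; rw [D.fe, if_neg hi.symm]) (D.ff i i) (hFS i hi) _
    · exact hu l _
  obtain ⟨c, hc0, hc⟩ := exists_skew hF
  refine eq_top_of_rad hF hn h32 (D.ee 0 0) (D.flipAt_mem hF 0 hc hL (hLg 0).2) ?_ hR
  rw [D.flipAt_e hF 0 hc0, h_smul_left, D.fe, if_pos rfl, mul_one]
  exact hc0

include hF in
/-- With an orthonormal vector the shift and the components along it generate. -/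
theorem IsShift.top_odd (hn : 3 ≤ n) (h32 : ¬ (n = 3 ∧ q = 2)) {N : Cfsg.SU n F q} {d : F} (hN : D.IsShift N d)
    (hM : N ∈ M) (l₀ : Fin r) (hu : ∀ l (γ : F), Adm hF M (D.e 0) (γ • D.u l)) : M = ⊤ := by
  have hL := lg_of_line hF (D.ee 0 0) (D.uu l₀) (hu l₀)
  refine hN.top hF hn h32 hM hL (fun i hi => Sh.symm hF fun t => ?_) hu
  obtain ⟨ha, s, hs, hA⟩ := hu l₀ (-σ t)
  have hB := Adm.move hF (hu l₀ 1) hM
  rw [(hN.next (i := (0 : Fin k)) (j := i) (by simp [hi])).1, one_smul, hN.2.2.2] at hB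
  obtain ⟨hb, t', ht', hB⟩ := hB
  have := comm_radicals hF (D.ee 0 0) (D.ee i i) (D.ee i 0) ha
    (by rw [h_smul_left, D.ue, mul_zero]) (D.ue _ _) (D.ue _ _) hs ht' hA hB
  rwa [h_smul_right hF, D.uu, mul_one, map_neg, frob_frob hF, neg_neg] at this

end Frame

end CfsgLib.TwoGenCl.Unit
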