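/-
Existence of frames and elementary tools for the generation of special unitary groups.
-/
import Cfsg.Agent.Lib.TwoGenClassical.UnitShift

set_option autoImplicit false
set_option linter.unusedSectionVars false

namespace CfsgLib.TwoGenCl.Unit

open Matrix CfsgLib.UnitaryTransvection CfsgLib.UnitarySimple

variable {F : Type*} [Field F] [Fintype F] {q n : ℕ} (hF : Fintype.card F = q ^ 2)

local notation "h" => Cfsg.hermForm n F q
local notation "σ" => frob hF

include hF in
theorem exists_gen : ∃ ω : Fˣ, orderOf ω = q ^ 2 - 1 ∧ ∀ u : Fˣ, ∃ j : ℕ, ω ^ j = u := by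
  obtain ⟨ω, hω⟩ := IsCyclic.exists_generator (α := Fˣ)
  refine ⟨ω, ?_, fun u => mem_powers_iff_mem_zpowers.mpr (hω u)⟩
  rw [orderOf_eq_card_of_forall_mem_zpowers hω, Nat.card_units, Nat.card_eq_fintype_card, hF]

include hF in
theorem exists_char_pow : ∃ p f : ℕ, p.Prime ∧ 0 < f ∧ CharP F p ∧ q = p ^ f := by
  obtain ⟨p, m, hp, hm, hc, hcard⟩ := exists_char F
  obtain ⟨f, -, hf⟩ := (Nat.dvd_prime_pow hp).mp
    (show q ∣ p ^ m from ⟨q, by rw [← hcard, Nat.card_eq_fintype_card, hF, sq]⟩)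
  refine ⟨p, f, hp, Nat.pos_of_ne_zero fun h0 => ?_, hc, hf⟩
  have := (UnitaryBasic.frob_exists hF).1
  rw [hf, h0, pow_zero] at this
  omega

include hF in
theorem units_frob (u : Fˣ) : (((Units.map (σ : F →* F) u)) : F) = σ (u : F) := rfl

include hF in
theorem um_pow_eq_one {p : ℕ} [hp : Fact p.Prime] [CharP F p] {g : Cfsg.SU n F q} {v a : Fin n → F} {s : F}
    (hv : h v v = 0) (hav : h a v = 0) (hg : mat g = umat (q := q) v a s) : g ^ p ^ 2 = 1 := by
  rcases isEmpty_or_nonempty (Fin n) with he | he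
  · exact Subtype.ext (Subtype.ext (Subsingleton.elim _ _))
  set Z := mat g - 1 with hZ
  have hva : h v a = 0 := h_symm_zero hF hav
  have h3 : Z ^ 3 = 0 := Matrix.ext_of_mulVec_single fun i => by
    rw [pow_three, Matrix.zero_mulVec, ← mulVec_mulVec, ← mulVec_mulVec, hZ, hg]
    simp only [Matrix.sub_mulVec, one_mulVec, umat_mulVec, mulVec_add, mulVec_sub, mulVec_smul, hv, hva, hav,
      h_add_left, h_sub_left, h_smul_left]
    module
  refine Subtype.ext (Subtype.ext ?_)
  show mat (g ^ p ^ 2) = 1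
  have hm : ∀ j : ℕ, mat (g ^ j) = mat g ^ j := fun j => by
    induction j with
    | zero => rfl
    | succ j ih => rw [pow_succ, pow_succ, mat_mul, ih]
  rw [hm, show mat g = Z + 1 by rw [hZ, sub_add_cancel], add_pow_char_pow_of_commute _ _ (Commute.one_right Z),
    one_pow, pow_eq_zero_of_le ?_ h3, zero_add]
  have := hp.out.two_le
  nlinarith

/-- `g` is a root element at `v` with component `a`. -/
def Rt (g : Cfsg.SU n F q) (v a : Fin n → F) : Prop :=
  h a v = 0 ∧ ∃ s, h a a + s + σ s = 0 ∧ mat g = umat (q := q) v a s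

include hF in
theorem Rt.mul {g k : Cfsg.SU n F q} {v a b : Fin n → F} (hv : h v v = 0) (hg : Rt hF g v a) (hk : Rt hF k v b) :
    Rt hF (g * k) v (a + b) := by
  obtain ⟨hav, s, hs, eg⟩ := hg
  obtain ⟨hbv, t, ht, ek⟩ := hk
  refine ⟨by rw [h_add_left, hav, hbv, add_zero], _, ?_, by rw [mat_mul, eg, ek, umat_mul hF hv hav hbv]⟩
  rw [h_add_left, h_add_right hF, h_add_right hF, map_sub, map_add, h_swap hF b a]
  linear_combination hs + ht

include hF in
theorem Rt.inv {g : Cfsg.SU n F q} {v a : Fin n → F} (hv : h v v = 0) (hg : Rt hF g v a) : Rt hF g⁻¹ v (-a) := by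
  obtain ⟨hav, s, hs, eg⟩ := hg
  refine ⟨by rw [← neg_one_smul F a, h_smul_left, hav, mul_zero], σ s, ?_, um_inv hF hv hav hs eg⟩
  rw [h_neg_right' hF, ← neg_one_smul F a, h_smul_left, frob_frob hF]
  linear_combination hs

include hF in
theorem Rt.conj {g : Cfsg.SU n F q} {v a a' : Fin n → F} (hg : Rt hF g v a) (t : Cfsg.SU n F q) {c : F} (hc : c ≠ 0)
    (hv : mat t *ᵥ v = c • v) (ha : σ c • (mat t *ᵥ a) = a') : Rt hF (t * g * t⁻¹) v a' := by
  obtain ⟨hav, s, hs, eg⟩ := hg
  have e := conj_um hF t g eg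
  rw [hv, umat_smul hF, ha] at e
  have h1 : h (mat t *ᵥ a) v = 0 := by
    have := su_h t a v
    rw [hv, hav, h_smul_right hF] at this
    exact (mul_eq_zero.mp this).resolve_left (by simpa using hc)
  refine ⟨by rw [← ha, h_smul_left, h1, mul_zero], _, ?_, e⟩
  rw [← ha, h_smul_left, h_smul_right hF, frob_frob hF, su_h, map_mul, map_mul, frob_frob hF]
  linear_combination (c * σ c) * hs

include hF in
theorem Rt.adm {M : Subgroup (Cfsg.SU n F q)} {g : Cfsg.SU n F q} {v a : Fin n → F} (hg : Rt hF g v a)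
    (hM : g ∈ M) : Adm hF M v a :=
  ⟨hg.1, hg.2.choose, hg.2.choose_spec.1, um_of_mem hg.2.choose_spec.2 hM⟩

include hF in
/-- A stable line of components is full. -/
theorem line_top {M : Subgroup (Cfsg.SU n F q)} {v w : Fin n → F} (hv : h v v = 0) {g : Cfsg.SU n F q}
    (hg : g ∈ M) {α ε β : F} (hα : α ≠ 0) (hgv : mat g *ᵥ v = α • v) (hgw : mat g *ᵥ w = ε • w + β • v)
    (hβ : β = 0 ∨ Lg hF M v) {ν : F} (eν : ν = σ α * ε) (h0 : ν ≠ 0) (hν : ∀ m, 0 < m → m < q → ν ^ m ≠ 1) {γ₀ : F}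
    (hγ : γ₀ ≠ 0) (hA : Adm hF M v (γ₀ • w)) : ∀ γ : F, Adm hF M v (γ • w) := by
  have := eq_top_of_stable hF h0 hν (admLine hF (M := M) hv w) hγ hA fun a ha => by
    rw [mem_admLine] at ha ⊢
    have e := Adm.move hF ha hg
    rw [hgv, mulVec_smul, hgw] at e
    have e' := Adm.of_smul hF hα e
    rw [smul_add, smul_add, smul_smul, smul_smul, smul_smul, smul_smul] at e'
    rcases hβ with rfl | hL
    · rw [mul_zero, zero_smul, add_zero] at e'
      rwa [eν, show σ α * ε * a = σ α * a * ε by ring]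
    · have e2 := (admGroup hF (M := M) hv).sub_mem e' (Adm.self hF hv hL (σ α * a * β))
      rw [add_sub_cancel_right, mem_admGroup] at e2
      rwa [eν, show σ α * ε * a = σ α * a * ε by ring]
  intro γ
  rw [← mem_admLine hF hv, this]
  trivial

include hF in
/-- Scalings give all long root elements. -/
theorem lg_of_scale {M : Subgroup (Cfsg.SU n F q)} {v : Fin n → F} (hv : h v v = 0) {c₀ : F} (h0 : c₀ ≠ 0)
    (hc₀ : c₀ + σ c₀ = 0) (hU : Um M v 0 c₀)
    (hs : ∀ t, σ t = t → t ≠ 0 → ∃ g ∈ M, ∃ c : F, mat g *ᵥ v = c • v ∧ c * σ c = t ^ 2) : Lg hF M v := by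
  refine lg_of_sq hF hv h0 hc₀ fun t ht ht0 => ?_
  obtain ⟨g, hg, c, hgv, hc⟩ := hs t ht ht0
  intro x hx
  refine Um.move hF hU hg x ?_
  rw [hgv, mulVec_zero, umat_smul hF, smul_zero, hc, mul_comm, hx]

include hF in
theorem conj_scale {N H : Cfsg.SU n F q} {v w : Fin n → F} {c : F} (hN : mat N *ᵥ v = w) (hH : mat H *ᵥ w = c • w) :
    mat (N⁻¹ * H * N) *ᵥ v = c • v := by
  rw [mat_mul, mat_mul, ← mulVec_mulVec, ← mulVec_mulVec, hN, hH, mulVec_smul, ← hN, mat_inv_mulVec']

include hF in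
/-- Frames exist. -/
theorem exists_frame (k r : ℕ) (hkr : 2 * k + r = n) : Nonempty (Frame F q n k r) := by
  obtain ⟨ζ, hζ⟩ := UnitaryBasic.exists_zeta hF
  have hq := (UnitaryBasic.frob_exists hF).1
  have hq0 : q ≠ 0 := by omega
  obtain ⟨c, hc⟩ := exists_norm_eq hF (c := (-1 : F)) (by rw [map_neg, map_one])
  set μ : F := ((ζ : Fˣ) : F)
  have hμ1 : μ ≠ 1 := fun e => by
    have : ζ = 1 := Units.ext e
    rw [this, orderOf_one] at hζ
    omega
  have hμ : μ * σ μ = 1 := by
    rw [frob_apply, ← pow_succ']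
    have := pow_orderOf_eq_one ζ
    rw [hζ] at this
    simpa [μ] using congrArg Units.val this
  have hd : (1 : F) - μ ≠ 0 := sub_ne_zero.mpr hμ1.symm
  have hd' : (1 : F) - σ μ ≠ 0 := fun e => hd (by
    have := congrArg σ e
    simpa [frob_frob hF] using this)
  let d : F := (1 - μ)⁻¹
  have hd1 : d * (1 - μ) = 1 := inv_mul_cancel₀ hd
  have hd2 : σ d * (1 - σ μ) = 1 := by simpa only [map_mul, map_sub, map_one] using congrArg σ hd1
  let P : Fin k → Fin n := fun i => ⟨2 * i.val, by omega⟩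
  let Q : Fin k → Fin n := fun i => ⟨2 * i.val + 1, by omega⟩
  let R : Fin r → Fin n := fun l => ⟨2 * k + l.val, by omega⟩
  let v : (Fin k ⊕ Fin k) ⊕ Fin r → (Fin n → F) :=
    Sum.elim (Sum.elim (fun i => Pi.single (P i) 1 + Pi.single (Q i) c)
      (fun i => Pi.single (P i) d + Pi.single (Q i) (d * c * μ))) (fun l => Pi.single (R l) 1)
  have hs : ∀ (a b : Fin n) (x y : F),
      h (Pi.single a x) (Pi.single b y) = if a = b then x * σ y else 0 := fun a b x y => by
    simp only [Cfsg.hermForm, ← frob_apply hF, Pi.single_apply, ite_mul, zero_mul]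
    rw [Finset.sum_ite_eq' Finset.univ a, if_pos (Finset.mem_univ _)]
    by_cases e : a = b <;> simp [e]
  have hPQ : ∀ i j, P i ≠ Q j := fun i j e => by simp [P, Q] at e; omega
  have hPR : ∀ i l, P i ≠ R l := fun i l e => by simp [P, R] at e; omega
  have hQR : ∀ i l, Q i ≠ R l := fun i l e => by simp [Q, R] at e; omega
  have hPP : ∀ i j, (P i = P j) = (i = j) := fun i j => by simp [P, Fin.ext_iff]
  have hQQ : ∀ i j, (Q i = Q j) = (i = j) := fun i j => by simp [Q, Fin.ext_iff]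
  have hRR : ∀ i j, (R i = R j) = (i = j) := fun i j => by simp [R, Fin.ext_iff]
  refine ⟨⟨v, ?_, hkr⟩⟩
  rintro ((i | i) | l) ((j | j) | m) <;>
    simp only [v, opp, Sum.elim_inl, Sum.elim_inr, Sum.map_inl, Sum.map_inr, Sum.swap_inl, Sum.swap_inr, id_eq,
      h_add_left, h_add_right hF, hs, hPQ, hPR, hQR, hPP, hQQ, hRR, (fun i j => (hPQ j i).symm),
      (fun i j => (hPR j i).symm), (fun i j => (hQR j i).symm), if_false, add_zero, zero_add, map_one, one_mul,
      mul_one, Sum.inl.injEq, Sum.inr.injEq, reduceCtorEq]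
  all_goals try rfl
  · split_ifs
    · linear_combination hc
    · simp
  · simp only [eq_comm (a := j)]
    split_ifs
    · simp only [map_mul]
      linear_combination hd2 + σ d * σ μ * hc
    · simp
  · simp only [eq_comm (a := j)]
    split_ifs
    · linear_combination hd1 + d * μ * hc
    · simp
  · split_ifs
    · simp only [map_mul]
      linear_combination (d * σ d) * hc + (d * σ d * (c * σ c)) * hμ
    · simp
  · simp only [eq_comm (a := m)]

end CfsgLib.TwoGenCl.Unit
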