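/-
Diagonal elements of the Levi subgroup of a hermitian frame.
-/
import Cfsg.Agent.Lib.TwoGenClassical.UnitTools

set_option autoImplicit false
set_option linter.unusedSectionVars false

namespace CfsgLib.TwoGenCl.Unit

open Matrix CfsgLib.UnitaryTransvection CfsgLib.UnitarySimple

variable {F : Type*} [Field F] [Fintype F] {q n : ℕ} (hF : Fintype.card F = q ^ 2)

local notation "h" => Cfsg.hermForm n F q
local notation "σ" => frob hF

/-- Diagonal elements of `GL`. -/
def dg (k : ℕ) : (Fin k → Fˣ) →* GL (Fin k) F where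
  toFun d :=
    { val := Matrix.diagonal fun i => (d i : F)
      inv := Matrix.diagonal fun i => ((d i)⁻¹ : Fˣ)
      val_inv := by simp [Matrix.diagonal_mul_diagonal]
      inv_val := by simp [Matrix.diagonal_mul_diagonal] }
  map_one' := Units.ext (by simp)
  map_mul' d d' := Units.ext (by simp [Matrix.diagonal_mul_diagonal])

theorem dg_det {k : ℕ} (d : Fin k → Fˣ) : ((dg (F := F) k d).1).det = ∏ i, (d i : F) := Matrix.det_diagonal

include hF in
theorem units_pow_eq_one (u : Fˣ) : u ^ (q ^ 2 - 1) = 1 := by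
  have := pow_card_eq_one' (G := Fˣ) (x := u)
  rwa [Nat.card_units, Nat.card_eq_fintype_card, hF] at this

include hF in
theorem dg_pow {k : ℕ} (d : Fin k → Fˣ) : dg (F := F) k d ^ (q ^ 2 - 1) = 1 := by
  rw [← map_pow, show d ^ (q ^ 2 - 1) = 1 from funext fun i => units_pow_eq_one hF (d i), map_one]

include hF in
theorem coprime_two {p f : ℕ} (hp : p.Prime) (hf : 0 < f) (hq : q = p ^ f) :
    (q ^ 2 - 1).Coprime (p ^ 2) := by
  subst hq
  exact Nat.Coprime.pow_right 2 (coprime_sq_sub_one hp hf)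

include hF in
theorem coprime_four {p f : ℕ} (hp : p.Prime) (hf : 0 < f) (hq : q = p ^ f) :
    ((q ^ 2) ^ 2 - 1).Coprime (p ^ 2) := by
  subst hq
  rw [← pow_mul p f 2]
  exact Nat.Coprime.pow_right 2 (coprime_sq_sub_one hp (by omega))

/-- The twisting scalar of a unit. -/
noncomputable def tw (u : Fˣ) : Fˣ := Units.map (σ : F →* F) u * u⁻¹

theorem tw_val (u : Fˣ) : (tw hF u : F) = σ (u : F) / (u : F) := by
  simp [tw, div_eq_mul_inv]

include hF in
theorem tw_norm (u : Fˣ) : (tw hF u : F) * σ (tw hF u : F) = 1 := by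
  have h1 : σ (u : F) ≠ 0 := by simp
  rw [tw_val, map_div₀, frob_frob hF]
  field_simp

namespace Frame

variable {k r : ℕ} (D : Frame F q n k r)

theorem levi_dg_e (d : Fin k → Fˣ) (ε : Fˣ) (hp : Ok (r := r) hF (dg k d, ε)) (j : Fin k) :
    mat (D.levi hF (dg k d, ε) hp) *ᵥ D.e j = (d j : F) • D.e j := by
  rw [D.levi_e, Finset.sum_eq_single j (fun i _ hi => by simp [dg, hi]) (by simp)]
  simp [dg]

theorem levi_dg_f (d : Fin k → Fˣ) (ε : Fˣ) (hp : Ok (r := r) hF (dg k d, ε)) (j : Fin k) :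
    mat (D.levi hF (dg k d, ε) hp) *ᵥ D.f j = (σ (d j : F))⁻¹ • D.f j := by
  rw [D.levi_f, Finset.sum_eq_single j (fun i _ hi => by simp [dg, hi.symm]) (by simp)]
  simp [dg]

theorem levi_congr {p p' : GL (Fin k) F × Fˣ} (hp : Ok (r := r) hF p) (hp' : Ok (r := r) hF p') (e : p = p') :
    D.levi hF p hp = D.levi hF p' hp' := by subst e; rfl

theorem levi_pow_one {p : GL (Fin k) F × Fˣ} (hp : Ok (r := r) hF p) {N : ℕ} (e : p ^ N = 1) :
    D.levi hF p hp ^ N = 1 := by
  rw [D.levi_pow]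
  refine su_ext fun x => ?_
  show D.mx (lev hF (p ^ N)) *ᵥ x = mat (1 : Cfsg.SU n F q) *ᵥ x
  rw [e, lev_one, map_one, mat_one]

theorem levi_pow_dg (d : Fin k → Fˣ) (ε : Fˣ) (hp : Ok (r := r) hF (dg k d, ε)) :
    D.levi hF (dg k d, ε) hp ^ (q ^ 2 - 1) = 1 :=
  D.levi_pow_one hF hp (Prod.ext (by rw [Prod.pow_fst, dg_pow hF, Prod.fst_one])
    (by rw [Prod.pow_snd, units_pow_eq_one hF, Prod.snd_one]))

end Frame

end CfsgLib.TwoGenCl.Unit
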