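/-
Two generators of special unitary groups in odd dimension.
-/
import Cfsg.Agent.Lib.TwoGenClassical.UnitDiag

set_option autoImplicit false
set_option linter.unusedSectionVars false

namespace CfsgLib.TwoGenCl.Unit

open Matrix CfsgLib.UnitaryTransvection CfsgLib.UnitarySimple

variable {F : Type*} [Field F] [Fintype F] {q n : ℕ} (hF : Fintype.card F = q ^ 2)

local notation "h" => Cfsg.hermForm n F q
local notation "σ" => frob hF

theorem fin_one_eq {k : ℕ} (hk : 2 ≤ k) [NeZero k] (i : Fin k) (hi : i.val = 1) : i = ⟨1, hk⟩ := Fin.ext hi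

include hF in
theorem gen_ne_one {ω : Fˣ} (hω : orderOf ω = q ^ 2 - 1) {m : ℕ} (hm : 0 < m) (hm2 : m < q ^ 2 - 1) :
    (ω : F) ^ m ≠ 1 := fun e => by
  have := orderOf_dvd_of_pow_eq_one (G := Fˣ) (x := ω) (Units.ext (by rw [Units.val_pow_eq_pow_val, e, Units.val_one]))
  rw [hω] at this
  exact absurd (Nat.le_of_dvd hm this) (by omega)

include hF in
theorem twist_eq (ω : Fˣ) : σ (ω : F) * (σ (ω : F) / (ω : F)) = (ω : F) ^ (2 * q - 1) := by
  have hq := (UnitaryBasic.frob_exists hF).1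
  rw [frob_apply, ← mul_div_assoc, div_eq_iff ω.ne_zero, ← pow_succ, ← pow_add]
  congr 1
  omega

include hF in
theorem su_three (hn : n = 3) (hq3 : 3 ≤ q) :
    ∃ a b : Cfsg.SU n F q, Subgroup.closure ({a, b} : Set (Cfsg.SU n F q)) = ⊤ := by
  obtain ⟨D⟩ := exists_frame hF (n := n) 1 1 (by omega)
  obtain ⟨N, d, hN⟩ := D.exists_shift hF
  obtain ⟨ω, hω, hgen⟩ := exists_gen hF
  obtain ⟨t₁, ht₁⟩ := exists_trace_one hF
  have hv := D.ee 0 0
  have hs : h (D.u 0) (D.u 0) + -t₁ + σ (-t₁) = 0 := by rw [D.uu, map_neg]; linear_combination -ht₁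
  obtain ⟨x, hx⟩ := exists_um hF hv (D.ue 0 0) hs
  have okψ : ∀ u : Fˣ, Frame.Ok (r := 1) hF (dg 1 (fun _ => u), tw hF u) := fun u => by
    refine ⟨tw_norm hF u, ?_⟩
    show _ * (tw hF u : F) ^ 1 = _
    rw [dg_det, Fin.prod_univ_one, pow_one, tw_val, mul_div_cancel₀ _ u.ne_zero]
  let T : Fˣ → Cfsg.SU n F q := fun u => D.levi hF _ (okψ u)
  set M := Subgroup.closure ({x * N, T ω} : Set (Cfsg.SU n F q))
  refine ⟨x * N, T ω, ?_⟩
  have haM : x * N ∈ M := Subgroup.subset_closure (by simp)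
  have hTM : ∀ u, T u ∈ M := fun u => by
    obtain ⟨j, rfl⟩ := hgen u
    have e : T (ω ^ j) = T ω ^ j := by
      show _ = D.levi hF _ (okψ ω) ^ j
      rw [D.levi_pow]
      refine D.levi_congr hF _ _ (Prod.ext ?_ ?_)
      · show dg 1 (fun _ => ω ^ j) = dg 1 (fun _ => ω) ^ j
        rw [← map_pow]; rfl
      · show tw hF (ω ^ j) = tw hF ω ^ j
        simp [tw, mul_pow, map_pow]
    rw [e]
    exact pow_mem (Subgroup.subset_closure (by simp)) j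
  have hT : ∀ u : Fˣ, mat (T u) *ᵥ D.e 0 = (u : F) • D.e 0 ∧ mat (T u) *ᵥ D.f 0 = (σ (u : F))⁻¹ • D.f 0 ∧
      mat (T u) *ᵥ D.u 0 = (tw hF u : F) • D.u 0 := fun u =>
    ⟨D.levi_dg_e hF _ _ (okψ u) 0, D.levi_dg_f hF _ _ (okψ u) 0, D.levi_u hF (okψ u) 0⟩
  have hNe : mat N *ᵥ D.e 0 = d • D.f 0 := (hN.last (i := (0 : Fin 1)) rfl).1
  have hNf : mat N *ᵥ D.f 0 = (-d⁻¹) • D.e 0 := (hN.last (i := (0 : Fin 1)) rfl).2
  have hNT : ∀ u : Fˣ, N * T (Units.map (σ : F →* F) u)⁻¹ = T u * N := fun u => D.ext_basis fun a => by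
    rw [mat_mul, mat_mul, ← mulVec_mulVec, ← mulVec_mulVec]
    rcases a with (i | i) | l
    · obtain rfl : i = 0 := Subsingleton.elim _ _
      show mat N *ᵥ mat (T _) *ᵥ D.e 0 = mat (T u) *ᵥ mat N *ᵥ D.e 0
      rw [(hT _).1, mulVec_smul, hNe, mulVec_smul, (hT u).2.1, smul_smul, smul_smul]
      congr 1
      simp [mul_comm]
    · obtain rfl : i = 0 := Subsingleton.elim _ _
      show mat N *ᵥ mat (T _) *ᵥ D.f 0 = mat (T u) *ᵥ mat N *ᵥ D.f 0
      rw [(hT _).2.1, mulVec_smul, hNf, mulVec_smul, (hT u).1, smul_smul, smul_smul]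
      congr 1
      simp [frob_frob hF, mul_comm]
    · obtain rfl : l = 0 := Subsingleton.elim _ _
      show mat N *ᵥ mat (T _) *ᵥ D.u 0 = mat (T u) *ᵥ mat N *ᵥ D.u 0
      rw [(hT _).2.2, mulVec_smul, hN.2.2.2, (hT u).2.2]
      congr 1
      simp [tw_val, frob_frob hF, div_eq_mul_inv, mul_comm]
  have hxT : ∀ u, x * T u * x⁻¹ ∈ M := fun u => by
    have := mul_mem (mul_mem haM (hTM (Units.map (σ : F →* F) u)⁻¹)) (inv_mem haM)
    rwa [_root_.mul_inv_rev, show x * N * T (Units.map (σ : F →* F) u)⁻¹ * (N⁻¹ * x⁻¹) =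
      x * (N * T (Units.map (σ : F →* F) u)⁻¹) * N⁻¹ * x⁻¹ by group, hNT, ← mul_assoc, mul_inv_cancel_right] at this
  set ν : F := σ (ω : F) * (σ (ω : F) / (ω : F))
  have hrx : Rt hF x (D.e 0) (D.u 0) := ⟨D.ue 0 0, -t₁, hs, hx⟩
  have hcomm : Rt hF (x * (T ω * x⁻¹ * (T ω)⁻¹)) (D.e 0) ((1 - ν) • D.u 0) := by
    have h1 := Rt.conj hF (Rt.inv hF hv hrx) (T ω) ω.ne_zero (hT ω).1 (a' := (-ν) • D.u 0) (by
      rw [mulVec_neg, (hT ω).2.2, tw_val, smul_neg, smul_smul, neg_smul])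
    have := Rt.mul hF hv hrx h1
    rwa [show D.u 0 + (-ν) • D.u 0 = (1 - ν) • D.u 0 by module] at this
  have hAdm : Adm hF M (D.e 0) ((1 - ν) • D.u 0) := Rt.adm hF hcomm (by
    rw [← mul_assoc, ← mul_assoc]
    exact mul_mem (hxT ω) (inv_mem (hTM ω)))
  have hν : ∀ m, 0 < m → m < q → ν ^ m ≠ 1 := fun m hm hmq => by
    show (σ (ω : F) * (σ (ω : F) / (ω : F))) ^ m ≠ 1
    rw [twist_eq hF]
    exact twist_order hF hq3 hω hm hmq
  have hν1 : 1 - ν ≠ 0 := fun e => hν 1 one_pos (by omega) (by rw [pow_one]; linear_combination -e)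
  have hall := line_top hF hv (hTM ω) ω.ne_zero (hT ω).1
    (show mat (T ω) *ᵥ D.u 0 = (tw hF ω : F) • D.u 0 + (0 : F) • D.e 0 by rw [(hT ω).2.2]; simp)
    (Or.inl rfl) (ν := ν) (by rw [tw_val]) (by simp [ν]) hν hν1 hAdm
  have hL := lg_of_line hF hv (D.uu 0) hall
  have hxM : x ∈ M := Adm.um hF hv hL (by simpa using hall 1) hs x hx
  have hNM : N ∈ M := by
    have := mul_mem (inv_mem hxM) haM
    rwa [inv_mul_cancel_left] at this
  exact hN.top_odd hF (by omega) (by omega) hNM 0 fun l γ => by rw [Subsingleton.elim l 0]; exact hall γ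

include hF in
theorem su_odd_two {k : ℕ} (hk : 2 ≤ k) (hn : 2 * k + 1 = n) (hq : q = 2) :
    ∃ a b : Cfsg.SU n F q, Subgroup.closure ({a, b} : Set (Cfsg.SU n F q)) = ⊤ := by
  haveI : NeZero k := ⟨by omega⟩
  obtain ⟨D⟩ := exists_frame hF k 1 hn
  obtain ⟨N, d, hN⟩ := D.exists_shift hF
  obtain ⟨ω, hω, -⟩ := exists_gen hF
  obtain ⟨t₁, ht₁⟩ := exists_trace_one hF
  obtain ⟨p, f, hp, hf, hc, hqp⟩ := exists_char_pow hF
  haveI := Fact.mk hp
  set i₁ : Fin k := ⟨1, hk⟩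
  have hNω : (ω : F) * σ (ω : F) = 1 := by
    rw [frob_apply, ← pow_succ', ← Units.val_pow_eq_pow_val, show q + 1 = q ^ 2 - 1 by subst hq; rfl,
      units_pow_eq_one hF, Units.val_one]
  have hω2 : (ω : F) ^ 2 = σ (ω : F) := by rw [frob_apply, hq]
  have okH : Frame.Ok (r := 1) hF (dg k (Pi.mulSingle 0 ω), ω) := by
    refine ⟨hNω, ?_⟩
    show _ * (ω : F) ^ 1 = _
    rw [dg_det, Finset.prod_eq_single (0 : Fin k) (fun i _ hi => by rw [Pi.mulSingle_eq_of_ne hi, Units.val_one])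
      (by simp), Pi.mulSingle_eq_same, pow_one, ← pow_two, hω2]
  set H := D.levi hF _ okH with hH
  have hHe : mat H *ᵥ D.e 0 = (ω : F) • D.e 0 := by rw [hH, D.levi_dg_e, Pi.mulSingle_eq_same]
  have hHu : mat H *ᵥ D.u 0 = (ω : F) • D.u 0 := D.levi_u hF okH 0
  have hv := D.ee 0 0
  have hs : h (D.u 0) (D.u 0) + -t₁ + σ (-t₁) = 0 := by rw [D.uu, map_neg]; linear_combination -ht₁
  obtain ⟨x, hx⟩ := exists_um hF hv (D.ue 0 0) hs
  have hcom : Commute H x := by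
    have e := conj_um hF H x hx
    rw [hHe, hHu, umat_smul hF, smul_smul, mul_comm (σ (ω : F)), hNω, one_smul, one_mul, ← hx] at e
    have : H * x * H⁻¹ = x := su_ext fun y => by rw [e]
    exact mul_inv_eq_iff_eq_mul.mp this
  refine merge N hcom (coprime_of_pow (D.levi_pow_dg hF _ _ okH) (um_pow_eq_one hF (p := p) hv (D.ue 0 0) hx)
    (coprime_two hF hp hf hqp)) fun M hNM hHM hxM => ?_
  have hnext := (hN.next (i := (0 : Fin k)) (j := i₁) (by simp [i₁])).1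
  have hg : N⁻¹ * H * N ∈ M := mul_mem (mul_mem (inv_mem hNM) hHM) hNM
  have hi₁ : i₁ ≠ 0 := fun e => by simpa [i₁] using congrArg Fin.val e
  have hge : mat (N⁻¹ * H * N) *ᵥ D.e 0 = (1 : F) • D.e 0 := conj_scale hF hnext (by
    rw [hH, D.levi_dg_e, Pi.mulSingle_eq_of_ne hi₁, Units.val_one])
  have hgu : mat (N⁻¹ * H * N) *ᵥ D.u 0 = (ω : F) • D.u 0 + (0 : F) • D.e 0 := by
    rw [conj_scale hF (hN.2.2.2 0) hHu, zero_smul, add_zero]
  have hall := line_top hF hv hg one_ne_zero hge hgu (Or.inl rfl) (ν := (ω : F)) (by rw [map_one, one_mul]) ω.ne_zero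
    (fun m hm hmq => gen_ne_one hF hω hm (by subst hq; omega)) one_ne_zero
    (by rw [one_smul]; exact ⟨D.ue 0 0, -t₁, hs, um_of_mem hx hxM⟩)
  exact hN.top_odd hF (by omega) (by omega) hNM 0 fun l γ => by rw [Subsingleton.elim l 0]; exact hall γ

include hF in
theorem su_odd {k : ℕ} (hk : 2 ≤ k) (hn : 2 * k + 1 = n) (hq3 : 3 ≤ q) :
    ∃ a b : Cfsg.SU n F q, Subgroup.closure ({a, b} : Set (Cfsg.SU n F q)) = ⊤ := by
  haveI : NeZero k := ⟨by omega⟩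
  obtain ⟨D⟩ := exists_frame hF k 1 hn
  obtain ⟨N, d, hN⟩ := D.exists_shift hF
  obtain ⟨ω, hω, hgen⟩ := exists_gen hF
  obtain ⟨t₁, ht₁⟩ := exists_trace_one hF
  obtain ⟨p, f, hp, hf, hc, hqp⟩ := exists_char_pow hF
  haveI := Fact.mk hp
  obtain ⟨c₀, hc₀, hc₀'⟩ := exists_skew hF
  set i₁ : Fin k := ⟨1, hk⟩
  have hi₁ : i₁ ≠ 0 := fun e => by simpa [i₁] using congrArg Fin.val e
  have hw := D.ee i₁ i₁
  have hv := D.ee 0 0
  have hs : h (D.u 0) (D.u 0) + -t₁ + σ (-t₁) = 0 := by rw [D.uu, map_neg]; linear_combination -ht₁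
  obtain ⟨U, hU⟩ := exists_um hF hw (D.ue 0 i₁) hs
  have okT : Frame.Ok (r := 1) hF (dg k (Pi.mulSingle i₁ ω), tw hF ω) := by
    refine ⟨tw_norm hF ω, ?_⟩
    show _ * (tw hF ω : F) ^ 1 = _
    rw [dg_det, Finset.prod_eq_single i₁ (fun i _ hi => by rw [Pi.mulSingle_eq_of_ne hi, Units.val_one])
      (by simp), Pi.mulSingle_eq_same, pow_one, tw_val, mul_div_cancel₀ _ ω.ne_zero]
  set T := D.levi hF _ okT with hT
  have hTe : mat T *ᵥ D.e i₁ = (ω : F) • D.e i₁ := by rw [hT, D.levi_dg_e, Pi.mulSingle_eq_same]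
  have hT0 : mat T *ᵥ D.e 0 = D.e 0 := by
    rw [hT, D.levi_dg_e, Pi.mulSingle_eq_of_ne (Ne.symm hi₁), Units.val_one, one_smul]
  have hTu : mat T *ᵥ D.u 0 = (tw hF ω : F) • D.u 0 := D.levi_u hF okT 0
  have hUe : mat U *ᵥ D.e i₁ = D.e i₁ := by rw [hU, umat_mulVec, hw, D.eu]; module
  have hU0 : mat U *ᵥ D.e 0 = D.e 0 := by rw [hU, umat_mulVec, D.ee, D.eu]; module
  have hUu : mat U *ᵥ D.u 0 = D.u 0 - D.e i₁ := by rw [hU, umat_mulVec, D.ue, D.uu]; module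
  have fixinv : ∀ {y}, mat U *ᵥ y = y → mat U⁻¹ *ᵥ y = y := fun {y} e => by
    conv_lhs => rw [← e, mat_inv_mulVec']
  set H := U * T * U⁻¹ with hH
  have hH0 : mat H *ᵥ D.e 0 = D.e 0 := by
    rw [hH, mat_mul, mat_mul, ← mulVec_mulVec, ← mulVec_mulVec, fixinv hU0, hT0, hU0]
  have hHe : mat H *ᵥ D.e i₁ = (ω : F) • D.e i₁ := by
    rw [hH, mat_mul, mat_mul, ← mulVec_mulVec, ← mulVec_mulVec, fixinv hUe, hTe, mulVec_smul, hUe]
  have hUiu : mat U⁻¹ *ᵥ D.u 0 = D.u 0 + D.e i₁ := by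
    have := mat_inv_mulVec' U (D.u 0)
    rw [hUu, mulVec_sub, fixinv hUe, sub_eq_iff_eq_add] at this
    exact this
  have hHu : mat H *ᵥ D.u 0 = (tw hF ω : F) • D.u 0 + ((ω : F) - (tw hF ω : F)) • D.e i₁ := by
    rw [hH, mat_mul, mat_mul, ← mulVec_mulVec, ← mulVec_mulVec, hUiu, mulVec_add, hTu, hTe, mulVec_add, mulVec_smul,
      mulVec_smul, hUu, hUe]
    module
  set x := tv hF (D.e 0) hv c₀ hc₀'
  have hx : mat x = umat (q := q) (D.e 0) 0 c₀ := mat_tv hF _ _ _ _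
  have hcom : Commute H x := by
    have e := conj_um hF H x hx
    rw [hH0, mulVec_zero, ← hx] at e
    exact mul_inv_eq_iff_eq_mul.mp (su_ext fun y => by rw [e])
  refine merge N hcom (coprime_of_pow (i := q ^ 2 - 1) ?_ (um_pow_eq_one hF (p := p) hv (h_zero_left _) hx)
    (coprime_two hF hp hf hqp)) fun M hNM hHM hxM => ?_
  · rw [hH, conj_pow, hT, D.levi_pow_dg, mul_one, mul_inv_cancel]
  have hnext := (hN.next (i := (0 : Fin k)) (j := i₁) (by simp [i₁])).1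
  have hL0 : Lg hF M (D.e 0) := by
    refine lg_of_scale hF hv hc₀ hc₀' (um_of_mem hx hxM) fun t ht ht0 => ?_
    obtain ⟨j, hj⟩ := hgen (Units.mk0 t ht0)
    refine ⟨N⁻¹ * H ^ j * N, mul_mem (mul_mem (inv_mem hNM) (pow_mem hHM j)) hNM, t,
      conj_scale hF hnext ?_, by rw [ht, pow_two]⟩
    have hpow : ∀ j : ℕ, mat (H ^ j) *ᵥ D.e i₁ = ((ω ^ j : Fˣ) : F) • D.e i₁ := fun j => by
      induction j with
      | zero => rw [pow_zero, pow_zero, mat_one, one_mulVec, Units.val_one, one_smul]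
      | succ j ih =>
        rw [pow_succ, mat_mul, ← mulVec_mulVec, hHe, mulVec_smul, ih, smul_smul, pow_succ, Units.val_mul, mul_comm]
    rw [hpow, hj, Units.val_mk0]
  have hLg := hN.lg hF hNM hL0
  -- the torus of the second pair
  set r : F := (ω : F) * σ (ω : F) with hr
  have hrσ : σ r = r := by rw [hr, map_mul, frob_frob hF, mul_comm]
  have hr0 : r ≠ 0 := by simp [hr]
  have hr1 : r ≠ 1 := by
    rw [hr, frob_apply, ← pow_succ']
    exact gen_ne_one hF hω (by omega) (by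
      obtain ⟨Q, rfl⟩ : ∃ Q, q = Q + 3 := ⟨q - 3, by omega⟩
      have : (Q + 3) ^ 2 = Q * Q + 6 * Q + 9 := by ring
      omega)
  have hd' : -r * c₀ + σ (-r * c₀) = 0 := by
    rw [map_mul, map_neg, hrσ]; linear_combination (-r) * hc₀'
  set R := D.flipAt hF i₁ hc₀' * D.flipAt hF i₁ hd'
  have hRM : R ∈ M := mul_mem (D.flipAt_mem hF i₁ hc₀' (hLg i₁).1 (hLg i₁).2)
    (D.flipAt_mem hF i₁ hd' (hLg i₁).1 (hLg i₁).2)
  have hrc : -r * c₀ ≠ 0 := mul_ne_zero (neg_ne_zero.mpr hr0) hc₀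
  have okR : Frame.Ok (r := 1) hF (dg k (Pi.mulSingle i₁ (Units.mk0 r hr0)), 1) := by
    refine ⟨by simp, ?_⟩
    show _ * ((1 : Fˣ) : F) ^ 1 = _
    rw [dg_det, Finset.prod_eq_single i₁ (fun i _ hi => by rw [Pi.mulSingle_eq_of_ne hi, Units.val_one])
      (by simp), Pi.mulSingle_eq_same, Units.val_one, pow_one, mul_one, Units.val_mk0, hrσ]
  have hReq : R = D.levi hF _ okR := D.ext_basis fun a => by
    show mat (D.flipAt hF i₁ hc₀' * D.flipAt hF i₁ hd') *ᵥ _ = _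
    rw [mat_mul, ← mulVec_mulVec]
    rcases a with (i | i) | l
    · show mat _ *ᵥ mat _ *ᵥ D.e i = mat _ *ᵥ D.e i
      rcases eq_or_ne i i₁ with rfl | hi
      · rw [D.levi_dg_e, Pi.mulSingle_eq_same, D.flipAt_e hF _ hrc, mulVec_smul, D.flipAt_f hF _ hc₀, smul_smul,
          Units.val_mk0]
        congr 1
        field_simp
      · rw [D.levi_dg_e, Pi.mulSingle_eq_of_ne hi, Units.val_one, one_smul,
          D.flipAt_fix hF _ _ (D.ee _ _) (by rw [D.ef, if_neg hi.symm]),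
          D.flipAt_fix hF _ _ (D.ee _ _) (by rw [D.ef, if_neg hi.symm])]
    · show mat _ *ᵥ mat _ *ᵥ D.f i = mat _ *ᵥ D.f i
      rcases eq_or_ne i i₁ with rfl | hi
      · rw [D.levi_dg_f, Pi.mulSingle_eq_same, D.flipAt_f hF _ hrc, mulVec_smul, D.flipAt_e hF _ hc₀, smul_smul,
          Units.val_mk0, hrσ]
        congr 1
        field_simp
      · rw [D.levi_dg_f, Pi.mulSingle_eq_of_ne hi, Units.val_one, map_one, inv_one, one_smul,
          D.flipAt_fix hF _ _ (by rw [D.fe, if_neg hi.symm]) (D.ff _ _),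
          D.flipAt_fix hF _ _ (by rw [D.fe, if_neg hi.symm]) (D.ff _ _)]
    · show mat _ *ᵥ mat _ *ᵥ D.u l = mat _ *ᵥ D.u l
      rw [D.levi_u, Units.val_one, one_smul, D.flipAt_fix hF _ _ (D.ue _ _) (D.uf _ _),
        D.flipAt_fix hF _ _ (D.ue _ _) (D.uf _ _)]
  have hTR : T * R * T⁻¹ = R := by
    rw [hReq, hT, mul_inv_eq_iff_eq_mul, ← D.levi_mul, ← D.levi_mul]
    exact D.levi_congr hF _ _ (Prod.ext (by simp [← map_mul, mul_comm]) (by simp))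
  have hRe : mat R *ᵥ D.e i₁ = r • D.e i₁ := by rw [hReq, D.levi_dg_e, Pi.mulSingle_eq_same, Units.val_mk0]
  have hRu : mat R *ᵥ D.u 0 = D.u 0 := by rw [hReq, D.levi_u, Units.val_one, one_smul]
  set ν : F := σ (ω : F) * (σ (ω : F) / (ω : F))
  have hU' : Rt hF U (D.e i₁) (D.u 0) := ⟨D.ue 0 i₁, -t₁, hs, hU⟩
  have hRU : Rt hF (R * U * R⁻¹) (D.e i₁) (r • D.u 0) := Rt.conj hF hU' R hr0 hRe (by rw [hRu, hrσ])
  have hW : Rt hF (U⁻¹ * (R * U * R⁻¹)) (D.e i₁) ((r - 1) • D.u 0) := by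
    have := Rt.mul hF hw (Rt.inv hF hw hU') hRU
    rwa [show -D.u 0 + r • D.u 0 = (r - 1) • D.u 0 by module] at this
  have hTW := Rt.conj hF hW T ω.ne_zero hTe (a' := ((r - 1) * ν) • D.u 0) (by
    rw [mulVec_smul, hTu, smul_smul, smul_smul, tw_val]
    congr 1
    ring)
  have hZ := Rt.mul hF hw (Rt.mul hF hw hU' hTW) (Rt.inv hF hw hRU)
  have hZe : U * (T * (U⁻¹ * (R * U * R⁻¹)) * T⁻¹) * (R * U * R⁻¹)⁻¹ = H * R * H⁻¹ * R⁻¹ :=
    calc U * (T * (U⁻¹ * (R * U * R⁻¹)) * T⁻¹) * (R * U * R⁻¹)⁻¹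
        = U * (T * (U⁻¹ * (R * U * R⁻¹)) * T⁻¹) * R * U⁻¹ * R⁻¹ := by group
      _ = U * (T * (U⁻¹ * (R * U * R⁻¹)) * T⁻¹) * (T * R * T⁻¹) * U⁻¹ * R⁻¹ := by rw [hTR]
      _ = H * R * H⁻¹ * R⁻¹ := by rw [hH]; group
  rw [hZe] at hZ
  have hAdm : Adm hF M (D.e i₁) (((ν - 1) * (r - 1)) • D.u 0) := by
    have := Rt.adm hF hZ (mul_mem (mul_mem (mul_mem hHM hRM) (inv_mem hHM)) (inv_mem hRM))
    rwa [show D.u 0 + ((r - 1) * ν) • D.u 0 + -(r • D.u 0) = ((ν - 1) * (r - 1)) • D.u 0 by module] at this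
  have hν : ∀ m, 0 < m → m < q → ν ^ m ≠ 1 := fun m hm hmq => by
    show (σ (ω : F) * (σ (ω : F) / (ω : F))) ^ m ≠ 1
    rw [twist_eq hF]
    exact twist_order hF hq3 hω hm hmq
  have hν1 : ν - 1 ≠ 0 := fun e => hν 1 one_pos (by omega) (by rw [pow_one]; linear_combination e)
  have hall := line_top hF hw hHM ω.ne_zero hHe hHu (Or.inr (hLg i₁).1) (ν := ν) (by rw [tw_val]) (by simp [ν]) hν
    (mul_ne_zero hν1 (sub_ne_zero.mpr hr1)) hAdm
  refine hN.top_odd hF (by omega) (by omega) hNM 0 fun l γ => ?_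
  rw [Subsingleton.elim l 0]
  have := Adm.move hF (hall γ) (inv_mem hNM)
  rwa [show mat N⁻¹ *ᵥ D.e i₁ = D.e 0 by rw [← hnext, mat_inv_mulVec'],
    show mat N⁻¹ *ᵥ (γ • D.u 0) = γ • D.u 0 by
      rw [mulVec_smul]; conv_lhs => rw [← hN.2.2.2 0, mat_inv_mulVec']] at this

end CfsgLib.TwoGenCl.Unit
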