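/-
Two generators of special unitary groups in dimension at least six, even.
-/
import Cfsg.Agent.Lib.TwoGenClassical.UnitOdd

set_option autoImplicit false
set_option linter.unusedSectionVars false

namespace CfsgLib.TwoGenCl.Unit

open Matrix CfsgLib.UnitaryTransvection CfsgLib.UnitarySimple

variable {F : Type*} [Field F] [Fintype F] {q n : ℕ} (hF : Fintype.card F = q ^ 2)

local notation "h" => Cfsg.hermForm n F q
local notation "σ" => frob hF

theorem sum_blk {V ι : Type*} [AddCommGroup V] [Module F V] [Fintype ι] [DecidableEq ι] {a b : ι} (hab : a ≠ b)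
    (B : Matrix (Fin 2) (Fin 2) F) (v : ι → V) :
    (∑ i, blkM a b B i a • v i = B 0 0 • v a + B 1 0 • v b) ∧
      (∑ i, blkM a b B i b • v i = B 0 1 • v a + B 1 1 • v b) ∧
      ∀ j, j ≠ a → j ≠ b → ∑ i, blkM a b B i j • v i = v j := by
  refine ⟨?_, ?_, fun j hja hjb => ?_⟩
  · rw [Fintype.sum_eq_add a b hab fun i hi => by simp [blkM, hi.1, hi.2]]
    simp [blkM, hab.symm]
  · rw [Fintype.sum_eq_add a b hab fun i hi => by simp [blkM, hi.1, hi.2]]
    simp [blkM, hab.symm]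
  · rw [Finset.sum_eq_single j (fun i _ hi => ?_) (by simp)]
    · simp [blkM, hja, hjb]
    · by_cases h1 : i = a
      · subst h1; simp [blkM, hja, hjb]
      by_cases h2 : i = b
      · subst h2; simp [blkM, hja, hjb, h1]
      simp [blkM, h1, h2, hi]

include hF in
theorem pow_succ_fixed (x : F) : σ (x ^ (q + 1)) = x ^ (q + 1) := by
  rw [pow_succ', ← frob_apply hF x, map_mul, frob_frob hF, mul_comm]

include hF in
/-- A power of a Singer cycle with fixed determinant, nonzero trace and real scalars. -/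
theorem exists_singer_unit :
    ∃ A : GL (Fin 2) F, A ^ ((q ^ 2) ^ 2 - 1) = 1 ∧ (∀ {k : ℕ} {a b : Fin k} (hab : a ≠ b),
      σ ((blk hab A).1.det) = (blk hab A).1.det) ∧ σ A.1.det = A.1.det ∧ A.1 0 1 ≠ 0 ∧ A.1 0 0 + A.1 1 1 ≠ 0 ∧
      ∀ u : Fˣ, ∃ j : ℕ, ((A ^ j : GL (Fin 2) F) : Matrix (Fin 2) (Fin 2) F) = ((u : F) ^ (q + 1)) • 1 := by
  obtain ⟨S, h1, h2, h3⟩ := exists_singer F
  rw [Nat.card_eq_fintype_card, hF] at h1 h3
  have hq := (UnitaryBasic.frob_exists hF).1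
  have hQ : (q ^ 2) ^ 2 - 1 = (q ^ 2 + 1) * (q ^ 2 - 1) := by
    rw [← Nat.sq_sub_sq, one_pow]
  have hq2 : 4 ≤ q ^ 2 := by nlinarith
  have hA01 : ((S ^ (q + 1) : GL (Fin 2) F) : Matrix (Fin 2) (Fin 2) F) 0 1 ≠ 0 := fun e => by
    refine h3 (q + 1) (Pi.single 1 1) (((S ^ (q + 1) : GL (Fin 2) F) : Matrix (Fin 2) (Fin 2) F) 1 1)
      (by simp) ?_ ?_
    · rw [hQ]
      intro hd
      have := Nat.le_of_dvd (Nat.mul_pos (by omega) (by omega)) hd
      have := Nat.le_of_mul_le_mul_right this (by omega)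
      nlinarith
    · funext i
      fin_cases i <;> simp [Matrix.mulVec_single_one, Matrix.col_apply, e, -Units.val_pow_eq_pow_val]
  refine ⟨S ^ (q + 1), by rw [← pow_mul, mul_comm, pow_mul, h1, one_pow], fun hab => ?_, ?_, hA01,
    fun et => ?_, fun u => ?_⟩
  · rw [map_pow, Units.val_pow_eq_pow_val, det_pow, pow_succ_fixed hF]
  · rw [Units.val_pow_eq_pow_val, det_pow, pow_succ_fixed hF]
  · set A : Matrix (Fin 2) (Fin 2) F := ((S ^ (q + 1) : GL (Fin 2) F) : Matrix (Fin 2) (Fin 2) F) with hA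
    refine h3 ((q + 1) * 2) (Pi.single 0 1) (A 0 0 * A 0 0 + A 0 1 * A 1 0) (by simp) ?_ ?_
    · rw [hQ]
      intro hd
      rcases Nat.lt_or_ge q 3 with hlt | hge
      · obtain rfl : q = 2 := by omega
        norm_num at hd
      · have := Nat.le_of_dvd (Nat.mul_pos (by omega) (by omega)) hd
        have := Nat.le_of_mul_le_mul_right this (by omega)
        nlinarith
    · rw [pow_mul, pow_two, Units.val_mul, ← hA]
      funext i
      fin_cases i <;> simp [Matrix.mulVec_single_one, Matrix.col_apply, Matrix.mul_apply, Fin.sum_univ_two]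
      linear_combination (A 1 0) * et
  · obtain ⟨j, hj⟩ := h2 u
    refine ⟨j, ?_⟩
    rw [← pow_mul, mul_comm, pow_mul, Units.val_pow_eq_pow_val, hj, smul_pow, one_pow]

include hF in
theorem su_even {k : ℕ} (hk : 3 ≤ k) (hn : 2 * k = n) :
    ∃ a b : Cfsg.SU n F q, Subgroup.closure ({a, b} : Set (Cfsg.SU n F q)) = ⊤ := by
  haveI : NeZero k := ⟨by omega⟩
  obtain ⟨D⟩ := exists_frame hF k 0 (n := n) (by omega)
  obtain ⟨N, d, hN⟩ := D.exists_shift hF
  obtain ⟨p, f, hp, hf, hc, hqp⟩ := exists_char_pow hF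
  haveI := Fact.mk hp
  obtain ⟨c₀, hc₀, hc₀'⟩ := exists_skew hF
  obtain ⟨ρ, hρ⟩ : ∃ ρ, σ ρ ≠ ρ := by
    by_contra e
    push Not at e
    exact frob_ne_id hF (RingHom.ext e)
  obtain ⟨A₀, hA1, hAd, hdet, hA01, htr, hAs⟩ := exists_singer_unit hF
  set δ : F := A₀.1.det with hδ
  set t : F := A₀.1 0 0 + A₀.1 1 1 with ht
  have hδ0 : δ ≠ 0 := IsUnit.ne_zero ((Matrix.isUnit_iff_isUnit_det A₀.1).mp A₀.isUnit)
  obtain ⟨P, hP1, hP2⟩ := conj_second hA01 (ρ * δ / t)
  set A := P * A₀ * P⁻¹ with hA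
  have htrA : A.1 0 0 + A.1 1 1 = t := by
    have := Matrix.trace_units_conj P A₀.1
    rw [Matrix.trace_fin_two, Matrix.trace_fin_two] at this
    exact this
  have hdA : A.1 0 0 * A.1 1 1 - A.1 0 1 * A.1 1 0 = δ := by
    have := Matrix.det_units_conj P A₀.1
    rw [Matrix.det_fin_two] at this
    exact this
  clear_value t δ
  set i₁ : Fin k := ⟨1, by omega⟩ with hi₁
  set i₂ : Fin k := ⟨2, by omega⟩ with hi₂
  have h01 : (0 : Fin k) ≠ i₁ := fun e => by simpa [hi₁] using congrArg Fin.val e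
  have h02 : (0 : Fin k) ≠ i₂ := fun e => by simpa [hi₂] using congrArg Fin.val e
  have h12 : i₁ ≠ i₂ := fun e => by simp [hi₁, hi₂] at e
  have okH : ∀ j : ℕ, Frame.Ok (r := 0) hF (blk h12 (A ^ j), (1 : Fˣ)) := fun j => by
    refine ⟨by simp, ?_⟩
    show _ * _ ^ 0 = _
    rw [pow_zero, mul_one, hA, conj_pow, map_mul, map_mul, Units.val_mul, Units.val_mul, map_inv, det_units_conj,
      map_pow, Units.val_pow_eq_pow_val, det_pow, map_pow, hAd h12]
  set H := D.levi hF _ (okH 1) with hH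
  have hHj : ∀ j, H ^ j = D.levi hF _ (okH j) := fun j => by
    rw [hH, D.levi_pow]
    exact D.levi_congr hF _ _ (Prod.ext (by simp [← map_pow]) (by simp))
  have act : ∀ j, mat (H ^ j) *ᵥ D.e i₁ = (A ^ j).1 0 0 • D.e i₁ + (A ^ j).1 1 0 • D.e i₂ ∧
      mat (H ^ j) *ᵥ D.e i₂ = (A ^ j).1 0 1 • D.e i₁ + (A ^ j).1 1 1 • D.e i₂ ∧
      mat (H ^ j) *ᵥ D.e 0 = D.e 0 := fun j => by
    rw [hHj]
    obtain ⟨s1, s2, s3⟩ := sum_blk h12 (A ^ j).1 D.e
    exact ⟨(D.levi_e hF _ i₁).trans s1, (D.levi_e hF _ i₂).trans s2, (D.levi_e hF _ 0).trans (s3 0 h01 h02)⟩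
  have hv := D.ee 0 0
  set x := tv hF (D.e 0) hv c₀ hc₀'
  have hx : mat x = umat (q := q) (D.e 0) 0 c₀ := mat_tv hF _ _ _ _
  have hcom : Commute H x := by
    have e := conj_um hF H x hx
    rw [← pow_one H, (act 1).2.2, mulVec_zero, ← hx, pow_one] at e
    exact mul_inv_eq_iff_eq_mul.mp (su_ext fun y => by rw [e])
  refine merge N hcom (coprime_of_pow (i := (q ^ 2) ^ 2 - 1) ?_ (um_pow_eq_one hF (p := p) hv (h_zero_left _) hx)
    (coprime_four hF hp hf hqp)) fun M hNM hHM hxM => ?_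
  · refine D.levi_pow_one hF _ (Prod.ext ?_ (by simp))
    rw [Prod.pow_fst, Prod.fst_one, pow_one, ← map_pow, hA, conj_pow, hA1, mul_one, mul_inv_cancel, map_one]
  have hn1 := (hN.next (i := (0 : Fin k)) (j := i₁) (by simp [hi₁])).1
  have hn2 := (hN.next (i := i₁) (j := i₂) (by simp [hi₁, hi₂])).1
  have hL0 : Lg hF M (D.e 0) := by
    refine lg_of_scale hF hv hc₀ hc₀' (um_of_mem hx hxM) fun s hs hs0 => ?_
    obtain ⟨w, hw⟩ := exists_norm_eq hF hs
    obtain ⟨j, hj⟩ := hAs (Units.mk0 w (fun e => hs0 (by rw [← hw, e, zero_mul])))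
    have hjA : (A ^ j).1 = s • 1 := by
      rw [hA, conj_pow, Units.val_mul, Units.val_mul, hj, Units.val_mk0, pow_succ', ← frob_apply hF w, hw,
        mul_smul_comm, smul_mul_assoc, mul_one, ← Units.val_mul, mul_inv_cancel, Units.val_one]
    refine ⟨N⁻¹ * H ^ j * N, mul_mem (mul_mem (inv_mem hNM) (pow_mem hHM j)) hNM, s, conj_scale hF hn1 ?_,
      by rw [hs, pow_two]⟩
    rw [(act j).1, hjA]
    simp
  have hLg := hN.lg hF hNM hL0
  have hLf := (hLg i₁).1
  have hLv := (hLg i₂).1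
  have hw := D.ee i₁ i₁
  set β : F := ρ * δ / t
  have e1 : mat (H ^ 1) *ᵥ D.e i₂ = D.e i₁ + β • D.e i₂ := by
    rw [(act 1).2.1, pow_one, hP1, hP2, one_smul]
  have e2 : mat (H ^ 2) *ᵥ D.e i₂ = t • (D.e i₁ + (β - δ / t) • D.e i₂) := by
    rw [(act 2).2.1, pow_two, Units.val_mul, Matrix.mul_apply, Matrix.mul_apply, Fin.sum_univ_two, Fin.sum_univ_two,
      hP1, hP2, smul_add, smul_smul]
    congr 2
    · rw [hP2] at htrA
      linear_combination htrA
    · rw [hP1, hP2] at hdA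
      rw [hP2] at htrA
      rw [mul_sub, show t * (δ / t) = δ from mul_div_cancel₀ δ htr]
      linear_combination -hdA + β * htrA
  set S := admLine hF (M := M) hw (D.e i₂)
  have cls : ∀ γ, Lg hF M (D.e i₁ + γ • D.e i₂) → ∀ s, σ s = s → s * (c₀ * γ) ∈ S := fun γ hγ s hs => by
    have hc : s * c₀ + σ (s * c₀) = 0 := by rw [map_mul, hs]; linear_combination s * hc₀'
    have := short_of_link hF hc (D.ee i₂ i₁) (D.ee i₂ i₂) hw hLf hLv (hγ _ hc)
    rw [mem_admLine, ← mul_assoc]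
    exact ⟨by rw [h_smul_left, D.ee, mul_zero], 0, by
      rw [h_smul_left, h_smul_right hF, D.ee, map_zero]; ring, this⟩
  have c1 := cls β (e1 ▸ Lg.move hF hLv (pow_mem hHM 1))
  have c2 := cls (β - δ / t) (Lg.of_smul hF htr (e2 ▸ Lg.move hF hLv (pow_mem hHM 2)))
  have hρ0 : ρ ≠ 0 := fun e => hρ (by rw [e, map_zero])
  have hS : S = ⊤ := by
    refine eq_top_of_classes hF S (mul_ne_zero hc₀ (by simp [β, hρ0, hδ0, htr] : β ≠ 0)) ?_ c1 c2
    have e : c₀ * (β - δ / t) / (c₀ * β) = 1 - ρ⁻¹ := by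
      simp only [β]
      field_simp
    rw [e, map_sub, map_one, map_inv₀]
    intro h'
    exact hρ (inv_injective (sub_right_injective h'))
  have hSh : Sh M (D.e i₁) (D.e i₂) := sh_of_adm hF hw (D.ee i₂ i₂) hLf fun s => by
    rw [← mem_admLine hF hw]
    show s ∈ S
    rw [hS]; trivial
  refine hN.top hF (by omega) (by omega) hNM hL0 (fun i hi => ?_) fun l => l.elim0
  rw [fin_one_eq (by omega) i hi]
  have := Sh.move hF hSh (inv_mem hNM)
  rwa [← hn2, mat_inv_mulVec', ← hn1, mat_inv_mulVec', hn1] at this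

end CfsgLib.TwoGenCl.Unit
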