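/-
Two generators of special unitary groups in dimension four.
-/
import Cfsg.Agent.Lib.TwoGenClassical.UnitEven

set_option autoImplicit false
set_option linter.unusedSectionVars false
set_option linter.style.haveILetI false

namespace CfsgLib.TwoGenCl.Unit

open Matrix CfsgLib.UnitaryTransvection CfsgLib.UnitarySimple

variable {F : Type*} [Field F] [Fintype F] {q n : ℕ} (hF : Fintype.card F = q ^ 2)

local notation "h" => Cfsg.hermForm n F q
local notation "σ" => frob hF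

/-- An upper unitriangular matrix. -/
def upG (π : F) : GL (Fin 2) F where
  val := !![1, π; 0, 1]
  inv := !![1, -π; 0, 1]
  val_inv := by simp [Matrix.one_fin_two]
  inv_val := by simp [Matrix.one_fin_two]

/-- A lower unitriangular matrix. -/
def loG (π : F) : GL (Fin 2) F where
  val := !![1, 0; π, 1]
  inv := !![1, 0; -π, 1]
  val_inv := by simp [Matrix.one_fin_two]
  inv_val := by simp [Matrix.one_fin_two]

include hF in
theorem su_four (hn : n = 4) (hq3 : q ≠ 3) :
    ∃ a b : Cfsg.SU n F q, Subgroup.closure ({a, b} : Set (Cfsg.SU n F q)) = ⊤ := by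
  obtain ⟨D⟩ := exists_frame hF 2 0 (n := n) (by omega)
  obtain ⟨N, d, hN⟩ := D.exists_shift hF
  obtain ⟨ω, hω, hgen⟩ := exists_gen hF
  obtain ⟨p, f, hp, hf, hc, hqp⟩ := exists_char_pow hF
  haveI := Fact.mk hp
  obtain ⟨c₀, hc₀, hc₀'⟩ := exists_skew hF
  set mu : Fˣ := tw hF ω with hmu
  set la : Fˣ := ω ^ 2 with hla
  set m : F := (mu : F)
  set l : F := (la : F)
  have hm0 : m ≠ 0 := mu.ne_zero
  have hl0 : l ≠ 0 := la.ne_zero
  have hmN : m * σ m = 1 := tw_norm hF ω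
  set A : GL (Fin 2) F := upG 1 * dg 2 ![mu, la] * (upG 1)⁻¹ with hA
  have eA : A.1 = !![m, l - m; 0, l] := by
    show (upG (1 : F)).val * Matrix.diagonal (fun i => ((![mu, la] i : Fˣ) : F)) * (upG (1 : F)).inv = _
    rw [show (Matrix.diagonal fun i => ((![mu, la] i : Fˣ) : F)) = !![m, 0; 0, l] by
      ext i j; fin_cases i <;> fin_cases j <;> simp [m, l]]
    ext i j
    fin_cases i <;> fin_cases j <;> simp [upG, Matrix.mul_fin_two] <;> ring
  have eA' : (A⁻¹).1 = !![m⁻¹, l⁻¹ - m⁻¹; 0, l⁻¹] := by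
    rw [show A⁻¹ = upG 1 * dg 2 (![mu, la])⁻¹ * (upG 1)⁻¹ by rw [hA, map_inv]; group]
    show (upG (1 : F)).val * Matrix.diagonal (fun i => (((![mu, la])⁻¹ i : Fˣ) : F)) * (upG (1 : F)).inv = _
    rw [show (Matrix.diagonal fun i => (((![mu, la])⁻¹ i : Fˣ) : F)) = !![m⁻¹, 0; 0, l⁻¹] by
      ext i j; fin_cases i <;> fin_cases j <;> simp [m, l]]
    ext i j
    fin_cases i <;> fin_cases j <;> simp [upG, Matrix.mul_fin_two] <;> ring
  have hfix : σ (m * l) = m * l := by
    simp only [m, l, hmu, hla, Units.val_pow_eq_pow_val, tw_val, map_mul, map_div₀, frob_frob hF, map_pow]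
    have := ω.ne_zero
    have : σ (ω : F) ≠ 0 := by simp
    field_simp
  have okH : Frame.Ok (r := 0) hF (A, (1 : Fˣ)) := by
    refine ⟨by simp, ?_⟩
    show A.1.det * _ ^ 0 = σ A.1.det
    rw [eA, Matrix.det_fin_two]
    simp only [Matrix.of_apply, Matrix.cons_val', Matrix.cons_val_zero, Matrix.cons_val_one, pow_zero, mul_one,
      mul_zero, sub_zero, hfix]
  set H := D.levi hF _ okH with hH
  have hHe0 : mat H *ᵥ D.e 0 = m • D.e 0 := by
    rw [hH, D.levi_e, Fin.sum_univ_two]; simp [eA]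
  have hHe1 : mat H *ᵥ D.e 1 = (l - m) • D.e 0 + l • D.e 1 := by
    rw [hH, D.levi_e, Fin.sum_univ_two]; simp [eA]
  have hHf1 : mat H *ᵥ D.f 1 = σ l⁻¹ • D.f 1 := by
    rw [hH, D.levi_f, Fin.sum_univ_two]
    show σ ((A⁻¹).1 1 0) • D.f 0 + σ ((A⁻¹).1 1 1) • D.f 1 = _
    simp [eA']
  have hv := D.ee 0 0
  have hw := D.ee 1 1
  set x := tv hF (D.e 0) hv c₀ hc₀'
  have hx : mat x = umat (q := q) (D.e 0) 0 c₀ := mat_tv hF _ _ _ _
  have hcom : Commute H x := by
    have e := conj_um hF H x hx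
    rw [hHe0, mulVec_zero, umat_smul hF, smul_zero, hmN, one_mul, ← hx] at e
    exact mul_inv_eq_iff_eq_mul.mp (su_ext fun y => by rw [e])
  refine merge N hcom (coprime_of_pow (i := q ^ 2 - 1) ?_ (um_pow_eq_one hF (p := p) hv (h_zero_left _) hx)
    (coprime_two hF hp hf hqp)) fun M hNM hHM hxM => ?_
  · refine D.levi_pow_one hF okH (Prod.ext ?_ (by simp))
    rw [Prod.pow_fst, Prod.fst_one, hA, conj_pow, dg_pow hF, mul_one, mul_inv_cancel]
  have h3 : mat (N * N * N) *ᵥ D.e 0 = d • D.f 1 := by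
    rw [mat_mul, mat_mul, ← mulVec_mulVec, ← mulVec_mulVec,
      (hN.next (i := (0 : Fin 2)) (j := 1) rfl).1, (hN.last (i := (1 : Fin 2)) rfl).1, mulVec_smul,
      (hN.next (i := (0 : Fin 2)) (j := 1) rfl).2]
  have hL0 : Lg hF M (D.e 0) := by
    refine lg_of_scale hF hv hc₀ hc₀' (um_of_mem hx hxM) fun t ht ht0 => ?_
    obtain ⟨w, hwt⟩ := exists_norm_eq hF ht
    have hw0 : w ≠ 0 := fun e => ht0 (by rw [← hwt, e, zero_mul])
    obtain ⟨j, hj⟩ := hgen (Units.mk0 w hw0)⁻¹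
    have hpow : ∀ j : ℕ, mat (H ^ j) *ᵥ D.f 1 = (σ l⁻¹) ^ j • D.f 1 := fun j => by
      induction j with
      | zero => rw [pow_zero, pow_zero, mat_one, one_mulVec, one_smul]
      | succ j ih => rw [pow_succ, mat_mul, ← mulVec_mulVec, hHf1, mulVec_smul, ih, smul_smul, pow_succ, mul_comm]
    refine ⟨(N * N * N)⁻¹ * H ^ j * (N * N * N), mul_mem (mul_mem (inv_mem (mul_mem (mul_mem hNM hNM) hNM))
      (pow_mem hHM j)) (mul_mem (mul_mem hNM hNM) hNM), (σ l⁻¹) ^ j, conj_scale hF h3 ?_, ?_⟩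
    · rw [mulVec_smul, hpow, smul_comm]
    · have hj' : ((ω : F) ^ j) = w⁻¹ := by simpa using congrArg Units.val hj
      rw [← map_pow, frob_frob hF, show l⁻¹ ^ j = w ^ 2 by
        simp only [l, hla, Units.val_pow_eq_pow_val]
        rw [inv_pow, ← pow_mul, mul_comm, pow_mul, hj', inv_pow, inv_inv], map_pow, ← mul_pow, mul_comm, hwt]
  have hLg := hN.lg hF hNM hL0
  have hLe := (hLg 1).1
  set S := admLine hF (M := M) hw (D.e 0)
  have cls : ∀ γ, Lg hF M (D.e 1 + γ • D.e 0) → ∀ s, σ s = s → s * (c₀ * γ) ∈ S := fun γ hγ s hs => by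
    have hcs : s * c₀ + σ (s * c₀) = 0 := by rw [map_mul, hs]; linear_combination s * hc₀'
    have := short_of_link hF hcs (D.ee 0 1) hv hw hLe hL0 (hγ _ hcs)
    rw [mem_admLine, ← mul_assoc]
    exact ⟨by rw [h_smul_left, D.ee, mul_zero], 0, by
      rw [h_smul_left, h_smul_right hF, D.ee, map_zero]; ring, this⟩
  have e1 : mat H *ᵥ D.e 1 = l • (D.e 1 + ((l - m) / l) • D.e 0) := by
    rw [hHe1, smul_add, smul_smul, mul_div_cancel₀ _ hl0, add_comm]
  have e2 : mat (H * H) *ᵥ D.e 1 = (l * l) • (D.e 1 + ((l - m) * (l + m) / (l * l)) • D.e 0) := by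
    rw [mat_mul, ← mulVec_mulVec, hHe1, mulVec_add, mulVec_smul, mulVec_smul, hHe0, hHe1, smul_add (l * l), smul_smul (l * l),
      mul_div_cancel₀ _ (mul_ne_zero hl0 hl0)]
    module
  have c1 := cls _ (Lg.of_smul hF hl0 (e1 ▸ Lg.move hF hLe hHM))
  have c2 := cls _ (Lg.of_smul hF (mul_ne_zero hl0 hl0) (e2 ▸ Lg.move hF hLe (mul_mem hHM hHM)))
  have hr : σ (m / l) ≠ m / l := by
    intro e
    have h0 := ω.ne_zero
    have hs0 : σ (ω : F) ≠ 0 := by simp
    simp only [m, l, hmu, hla, Units.val_pow_eq_pow_val, tw_val, map_div₀, map_pow, frob_frob hF] at e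
    field_simp at e
    have h4 : (ω : F) ^ (4 * q) = (ω : F) ^ 4 := by
      rw [mul_comm, pow_mul, ← frob_apply hF]
      linear_combination -e
    have hq := (UnitaryBasic.frob_exists hF).1
    have hd : q ^ 2 - 1 ∣ 4 * (q - 1) := by
      rw [← hω]
      refine orderOf_dvd_of_pow_eq_one (Units.ext ?_)
      rw [Units.val_pow_eq_pow_val, Units.val_one]
      refine mul_right_cancel₀ (pow_ne_zero 4 h0) ?_
      rw [← pow_add, one_mul, show 4 * (q - 1) + 4 = 4 * q by omega, h4]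
    rcases Nat.lt_or_ge q 4 with hlt | hge
    · obtain rfl : q = 2 := by omega
      norm_num at hd
    · have := Nat.le_of_dvd (by omega) hd
      have : (q + 1) * (q - 1) = q ^ 2 - 1 := by rw [← Nat.sq_sub_sq, one_pow]
      have : 5 * (q - 1) ≤ (q + 1) * (q - 1) := Nat.mul_le_mul_right _ (by omega)
      omega
  have hlm : l - m ≠ 0 := fun e => hr (by rw [← sub_eq_zero.mp e, div_self hl0, map_one])
  have hS : S = ⊤ := by
    refine eq_top_of_classes hF S (mul_ne_zero hc₀ (div_ne_zero hlm hl0)) ?_ c1 c2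
    have e : c₀ * ((l - m) * (l + m) / (l * l)) / (c₀ * ((l - m) / l)) = 1 + m / l := by field_simp
    rw [e, map_add, map_one]
    exact fun h' => hr (add_left_cancel h')
  have hSh : Sh M (D.e 1) (D.e 0) := sh_of_adm hF hw hv hLe fun s => by
    rw [← mem_admLine hF hw]
    show s ∈ S
    rw [hS]; trivial
  refine hN.top hF (by omega) (by omega) hNM hL0 (fun i hi => ?_) fun l' => l'.elim0
  rw [show i = 1 from Fin.ext hi]
  exact Sh.symm hF hSh

include hF in
theorem umat_split {v f : Fin n → F} (γ b : F) (hfv : h f v = 0) (hf : h f f = 0) :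
    umat (q := q) (v + γ • f) (b • f) 0 =
      umat (q := q) v (b • f) 0 * umat (q := q) f 0 (σ γ * b - σ b * γ) := by
  refine Matrix.ext_of_mulVec_single fun i => ?_
  rw [← mulVec_mulVec, umat_mulVec, umat_mulVec, umat_mulVec]
  simp only [h_add_left, h_sub_left, h_smul_left, h_add_right hF, h_smul_right hF, h_zero_right hF, hfv, hf, zero_smul,
    smul_zero, mul_zero, add_zero, sub_zero, zero_add]
  module

include hF in
theorem su_four_three (hn : n = 4) (hq : q = 3) :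
    ∃ a b : Cfsg.SU n F q, Subgroup.closure ({a, b} : Set (Cfsg.SU n F q)) = ⊤ := by
  obtain ⟨D⟩ := exists_frame hF 2 0 (n := n) (by omega)
  obtain ⟨N, d, hN⟩ := D.exists_shift hF
  obtain ⟨ω, hω, -⟩ := exists_gen hF
  obtain ⟨p, f, hp, hf, hc, hqp⟩ := exists_char_pow hF
  haveI := Fact.mk hp
  obtain ⟨c, hc₀, hc₀'⟩ := exists_skew hF
  have hp3 : p = 3 := by
    have h3 : p ∣ 3 := by rw [← hq, hqp]; exact dvd_pow_self p hf.ne'
    exact (Nat.prime_dvd_prime_iff_eq hp Nat.prime_three).mp h3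
  have h30 : (3 : F) = 0 := by
    subst hp3
    exact_mod_cast CharP.cast_eq_zero F 3
  have hd0 : d ≠ 0 := hN.1
  have hd : σ d = -d := by
    have := su_h N (D.e 1) (D.f 1)
    rw [(hN.last (i := (1 : Fin 2)) rfl).1, (hN.last (i := (1 : Fin 2)) rfl).2, h_smul_left, h_smul_right hF, D.fe,
      D.ef, if_pos rfl, if_pos rfl, map_neg, map_inv₀, mul_one] at this
    have hs : σ d ≠ 0 := by simp [hd0]
    field_simp at this
    linear_combination -this
  have hc' : σ c = -c := by linear_combination hc₀'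
  set π : F := (ω : F)
  have h8 : orderOf ω = 8 := by rw [hω, hq]; norm_num
  have hω4 : π ^ 4 = -1 := by
    have e : (π ^ 4) * (π ^ 4) = 1 := by
      rw [← pow_add, ← Units.val_pow_eq_pow_val, show 4 + 4 = orderOf ω from h8.symm, pow_orderOf_eq_one, Units.val_one]
    refine ((mul_self_eq_one_iff).mp e).resolve_left fun e1 => ?_
    have := orderOf_dvd_of_pow_eq_one (G := Fˣ) (x := ω) (n := 4) (Units.ext (by
      rw [Units.val_pow_eq_pow_val, Units.val_one]; exact e1))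
    rw [h8] at this
    norm_num at this
  have hπ3 : σ π = π ^ 3 := by rw [frob_apply, hq]
  have hπ0 : π ≠ 0 := ω.ne_zero
  have hπN : π * σ π = -1 := by rw [hπ3, ← pow_succ', hω4]
  have hπ2 : π ^ 2 ≠ σ π ^ 2 := fun e => by
    rw [hπ3] at e
    have e' : π ^ 4 = 1 := mul_left_cancel₀ (pow_ne_zero 2 hπ0) (by linear_combination -e)
    rw [hω4] at e'
    have h20 : (2 : F) = 0 := by linear_combination -e'
    exact one_ne_zero (show (1 : F) = 0 by linear_combination h30 - h20)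
  -- the twisting element
  have okL : Frame.Ok (r := 0) hF (loG π, (1 : Fˣ)) := ⟨by simp, by simp [loG, Matrix.det_fin_two]⟩
  set L := D.levi hF _ okL with hL
  have L0 : mat L *ᵥ D.e 0 = D.e 0 + π • D.e 1 := by
    rw [hL, D.levi_e, Fin.sum_univ_two]; simp [loG]
  have L1 : mat L *ᵥ D.e 1 = D.e 1 := by
    rw [hL, D.levi_e, Fin.sum_univ_two]; simp [loG]
  have L2 : mat L *ᵥ D.f 0 = D.f 0 := by
    rw [hL, D.levi_f, Fin.sum_univ_two]; simp [loG, Units.inv_mk]
  have L3 : mat L *ᵥ D.f 1 = (-σ π) • D.f 0 + D.f 1 := by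
    rw [hL, D.levi_f, Fin.sum_univ_two]; simp [loG, Units.inv_mk]
  have L1' : mat L⁻¹ *ᵥ D.e 1 = D.e 1 := by conv_lhs => rw [← L1, mat_inv_mulVec']
  have L2' : mat L⁻¹ *ᵥ D.f 0 = D.f 0 := by conv_lhs => rw [← L2, mat_inv_mulVec']
  have L3' : mat L⁻¹ *ᵥ D.f 1 = σ π • D.f 0 + D.f 1 := by
    have e := mat_inv_mulVec' L (D.f 1)
    rw [L3, mulVec_add, mulVec_smul, L2', neg_smul, neg_add_eq_sub, sub_eq_iff_eq_add'] at e
    exact e
  set g := L⁻¹ * N * L with hg
  have n0 := (hN.next (i := (0 : Fin 2)) (j := 1) rfl)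
  have n1 := (hN.last (i := (1 : Fin 2)) rfl)
  have g0 : mat g *ᵥ D.e 0 = D.e 1 + (π * d) • D.f 0 := by
    rw [hg, mat_mul, mat_mul, ← mulVec_mulVec, ← mulVec_mulVec, L0, mulVec_add, mulVec_smul, n0.1, n1.1, mulVec_add,
      mulVec_smul, mulVec_smul, L1', L2', smul_smul]
  have g1 : mat g *ᵥ D.e 1 = d • D.f 0 := by
    rw [hg, mat_mul, mat_mul, ← mulVec_mulVec, ← mulVec_mulVec, L1, n1.1, mulVec_smul, L2']
  have g2 : mat g *ᵥ D.f 0 = σ π • D.f 0 + D.f 1 := by
    rw [hg, mat_mul, mat_mul, ← mulVec_mulVec, ← mulVec_mulVec, L2, n0.2, L3']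
  -- the torus element
  set iu : Fˣ := ω ^ 2 with hiu
  set i : F := (iu : F)
  have hi : i = π ^ 2 := Units.val_pow_eq_pow_val ω 2
  have hσi : σ i = -i := by rw [hi, map_pow, hπ3]; linear_combination π ^ 2 * hω4
  have okH : Frame.Ok (r := 0) hF (dg 2 ![iu, -iu], (1 : Fˣ)) := by
    refine ⟨by simp, ?_⟩
    show _ * _ ^ 0 = _
    rw [dg_det, Fin.prod_univ_two, pow_zero, mul_one]
    simp only [Matrix.cons_val_zero, Matrix.cons_val_one, Units.val_neg, map_mul, map_neg]
    show i * -i = σ i * -σ i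
    rw [hσi]
    ring
  set H := D.levi hF _ okH with hH
  have hii : i * σ i = 1 := by rw [hσi, hi]; linear_combination -hω4
  have H0 : mat H *ᵥ D.e 0 = i • D.e 0 := by rw [hH, D.levi_dg_e]; rfl
  have H1 : mat H *ᵥ D.e 1 = (-i) • D.e 1 := by rw [hH, D.levi_dg_e]; rfl
  have H2 : mat H *ᵥ D.f 0 = i • D.f 0 := by
    rw [hH, D.levi_dg_f]
    show (σ i)⁻¹ • _ = _
    rw [inv_eq_of_mul_eq_one_left hii]
  have hv := D.ee 0 0
  have hw := D.ee 1 1
  set x := tv hF (D.e 0) hv c hc₀'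
  have hx : mat x = umat (q := q) (D.e 0) 0 c := mat_tv hF _ _ _ _
  have hcom : Commute H x := by
    have e := conj_um hF H x hx
    rw [H0, mulVec_zero, umat_smul hF, smul_zero, hii, one_mul, ← hx] at e
    exact mul_inv_eq_iff_eq_mul.mp (su_ext fun y => by rw [e])
  refine merge g hcom (coprime_of_pow (D.levi_pow_dg hF _ _ okH) (um_pow_eq_one hF (p := p) hv (h_zero_left _) hx)
    (coprime_two hF hp hf hqp)) fun M hgM hHM hxM => ?_
  have hfix : ∀ t, σ t = t → t = 0 ∨ t = 1 ∨ t = -1 := fun t ht => by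
    rw [frob_apply, hq] at ht
    rcases eq_or_ne t 0 with h0 | h0
    · exact Or.inl h0
    · exact Or.inr (mul_self_eq_one_iff.mp (mul_left_cancel₀ h0 (by linear_combination ht)))
  have hL0 : Lg hF M (D.e 0) := lg_of_scale hF hv hc₀ hc₀' (um_of_mem hx hxM) fun t ht ht0 => by
    refine ⟨1, one_mem M, 1, by rw [mat_one, one_mulVec, one_smul], ?_⟩
    rcases hfix t ht with e | e | e
    · exact absurd e ht0
    all_goals simp [e]
  set γ : F := π * d with hγ
  clear_value γ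
  have hγ0 : γ ≠ 0 := hγ ▸ mul_ne_zero hπ0 hd0
  have hLv : Lg hF M (D.e 1 + γ • D.f 0) := g0 ▸ Lg.move hF hL0 hgM
  have hf1 : Lg hF M (D.f 1) := by
    refine Lg.of_smul hF hγ0 ?_
    have := Lg.move hF hLv hgM
    rwa [mulVec_add, mulVec_smul, g1, g2, smul_add, smul_smul, ← add_assoc, ← add_smul,
      show d + γ * σ π = 0 by rw [hγ]; linear_combination d * hπN, zero_smul, zero_add] at this
  have hLv' : Lg hF M (D.e 1 + (-γ) • D.f 0) := by
    have := Lg.move hF hLv hHM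
    rw [mulVec_add, mulVec_smul, H1, H2, show (-i) • D.e 1 + γ • i • D.f 0 = (-i) • (D.e 1 + (-γ) • D.f 0) by module]
      at this
    exact Lg.of_smul hF (by simp [hi, hπ0]) this
  -- separating the short part
  have hfe : h (D.f 0) (D.e 1) = 0 := by rw [D.fe, if_neg (by decide)]
  have hcN : c * (γ * σ γ) + σ (c * (γ * σ γ)) = 0 := by
    rw [map_mul, map_mul, frob_frob hF]
    linear_combination (γ * σ γ) * hc₀'
  obtain ⟨t1, ht1⟩ := exists_um hF hw (h_zero_left (D.e 1)) (s := c) (by rw [h_zero_left]; linear_combination hc₀')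
  obtain ⟨t0, ht0⟩ := exists_um hF (D.ff 0 0) (h_zero_left (D.f 0)) (s := c * (γ * σ γ))
    (by rw [h_zero_left]; linear_combination hcN)
  obtain ⟨s1, hs1⟩ := exists_um hF hw (show h ((c * γ) • D.f 0) (D.e 1) = 0 by rw [h_smul_left, hfe, mul_zero])
    (s := 0) (by rw [h_smul_left, h_smul_right hF, D.ff, map_zero]; ring)
  obtain ⟨s2, hs2⟩ := exists_um hF hw (show h ((c * -γ) • D.f 0) (D.e 1) = 0 by rw [h_smul_left, hfe, mul_zero])
    (s := 0) (by rw [h_smul_left, h_smul_right hF, D.ff, map_zero]; ring)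
  have hA : s1 * t1 * t0 ∈ M := hLv c hc₀' _ (by
    rw [mat_mul, mat_mul, hs1, ht1, ht0, um_sum hF γ c hc₀' hfe (D.ff 0 0) hw])
  have hB : s2 * t1 * t0 ∈ M := hLv' c hc₀' _ (by
    rw [mat_mul, mat_mul, hs2, ht1, ht0, um_sum hF (-γ) c hc₀' hfe (D.ff 0 0) hw, map_neg, neg_mul_neg])
  have hs : s1 * s2⁻¹ = s1⁻¹ := by
    refine su_ext fun y => ?_
    have hz : h ((c * -γ) • D.f 0) (D.e 1) = 0 := by rw [h_smul_left, hfe, mul_zero]
    have hz' : h ((c * γ) • D.f 0) (D.e 1) = 0 := by rw [h_smul_left, hfe, mul_zero]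
    rw [mat_mul, hs1, um_inv hF hw hz (by rw [h_smul_left, h_smul_right hF, D.ff, map_zero]; ring) hs2,
      um_inv hF hw hz' (by rw [h_smul_left, h_smul_right hF, D.ff, map_zero]; ring) hs1,
      umat_mul hF hw hz' (by rw [← neg_smul, h_smul_left, hfe, mul_zero])]
    congr 2
    · rw [← neg_smul, ← neg_smul, ← add_smul]
      congr 1
      linear_combination (c * γ) * h30
    · rw [← neg_smul, h_smul_left, h_smul_right hF, D.ff]
      simp
  have hs1M : s1 ∈ M := by
    have := mul_mem hA (inv_mem hB)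
    rw [show s1 * t1 * t0 * (s2 * t1 * t0)⁻¹ = s1 * s2⁻¹ by group, hs] at this
    exact inv_mem_iff.mp this
  have hT : t1 * t0 ∈ M := by
    have := mul_mem (inv_mem hs1M) hA
    rwa [mul_assoc, inv_mul_cancel_left] at this
  have hU : tv hF (D.f 1) (D.ff 1 1) (-c⁻¹) (skew_inv hF hc₀') ∈ M := hf1 _ (skew_inv hF hc₀') _ (mat_tv hF _ _ _ _)
  have hfef : h (D.e 1) (D.f 0) = 0 := by rw [D.ef, if_neg (by decide)]
  have hTf : mat (t1 * t0) *ᵥ D.f 1 = D.f 1 + c • D.e 1 := by
    rw [mat_mul, ← mulVec_mulVec, ht1, ht0, umat_mulVec, umat_mulVec, D.ff, h_zero_right hF]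
    simp only [h_zero_right hF, zero_smul, smul_zero, add_zero, sub_zero, mul_zero, D.fe, if_true, mul_one]
  have hTe : mat (t1 * t0) *ᵥ D.e 1 = D.e 1 := by
    rw [mat_mul, ← mulVec_mulVec, ht1, ht0, umat_mulVec, umat_mulVec, hfef, h_zero_right hF]
    simp only [h_zero_right hF, zero_smul, smul_zero, add_zero, sub_zero, mul_zero, hw]
  have hLe : Lg hF M (D.e 1) := by
    refine Lg.of_smul hF hc₀ ?_
    have := Lg.move hF (Lg.move hF (Lg.move hF hf1 hT) hU) hT
    rwa [hTf, tv_mulVec, h_add_left, h_smul_left, D.ff, D.ef, if_pos rfl, zero_add, mul_one, neg_mul,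
      inv_mul_cancel₀ hc₀, neg_one_smul, add_neg_cancel_comm, mulVec_smul, hTe] at this
  have hLf : Lg hF M (D.f 0) := Lg.of_smul hF hd0 (g1 ▸ Lg.move hF hLe hgM)
  -- the two classes
  set S := admLine hF (M := M) hw (D.f 0)
  have mem : ∀ b, Um M (D.e 1) (b • D.f 0) 0 → b ∈ S := fun b hb => by
    rw [mem_admLine]
    exact ⟨by rw [h_smul_left, hfe, mul_zero], 0, by rw [h_smul_left, h_smul_right hF, D.ff, map_zero]; ring, hb⟩
  have fixed_mem : ∀ b, b ∈ S → ∀ t, σ t = t → t * b ∈ S := fun b hb t ht => by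
    rcases hfix t ht with e | e | e <;> subst e
    · rw [zero_mul]; exact S.zero_mem
    · rwa [one_mul]
    · rw [neg_one_mul]; exact S.neg_mem hb
  set a : F := c * γ
  have ha : a ∈ S := mem a (um_of_mem hs1 hs1M)
  have hy : mat s1 *ᵥ D.e 0 = D.e 0 + (-σ a) • D.e 1 := by
    rw [hs1, umat_mulVec, h_smul_right hF, D.ef, if_pos rfl, D.ee]
    module
  have hlink := short_of_link hF (γ := -σ a) hc₀' (D.ee 1 0) hw hv hL0 hLe ((hy ▸ Lg.move hF hL0 hs1M) c hc₀')
  have hmv := Um.move hF hlink hgM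
  rw [g0, mulVec_smul, g1, smul_smul] at hmv
  set b : F := c * -σ a * d with hb
  have hbS : b ∈ S := mem b fun y hy' => by
    have hsk : (σ γ * b - σ b * γ) + σ (σ γ * b - σ b * γ) = 0 := by
      simp only [map_sub, map_mul, frob_frob hF]; ring
    obtain ⟨z, hz⟩ := exists_um hF (D.ff 0 0) (h_zero_left (D.f 0)) (s := σ γ * b - σ b * γ)
      (by rw [h_zero_left]; linear_combination hsk)
    have hM : y * z ∈ M := hmv _ (by rw [mat_mul, hy', hz, umat_split hF γ b hfe (D.ff 0 0)])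
    have := mul_mem hM (inv_mem (hLf _ hsk z hz))
    rwa [mul_inv_cancel_right] at this
  have hS : S = ⊤ := by
    refine eq_top_of_classes hF S (mul_ne_zero hc₀ hγ0) ?_ (fixed_mem a ha) (fixed_mem b hbS)
    show σ (b / a) ≠ b / a
    have e : b / a = -(c * d) * σ π / π := by
      simp only [hb, a, hγ, map_mul, hc', hd]
      field_simp
    rw [e, map_div₀, map_mul, map_neg, map_mul, hc', hd, frob_frob hF]
    intro h'
    have hs0 : σ π ≠ 0 := by simp [hπ0]
    field_simp at h'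
    exact hπ2 (by linear_combination -h')
  have hSh : Sh M (D.e 1) (D.f 0) := sh_of_adm hF hw (D.ff 0 0) hLe fun s => by
    rw [← mem_admLine hF hw]
    show s ∈ S
    rw [hS]; trivial
  have hLM : L ∈ M := by
    refine hSh (-σ π) L ?_
    obtain ⟨y, hy'⟩ := exists_um hF hw (show h ((-σ π) • D.f 0) (D.e 1) = 0 by rw [h_smul_left, hfe, mul_zero])
      (s := 0) (by rw [h_smul_left, h_smul_right hF, D.ff, map_zero]; ring)
    rw [← hy']
    congr 1
    refine D.ext_basis fun j => ?_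
    rcases j with (j | j) | l
    · show mat L *ᵥ D.e j = mat y *ᵥ D.e j
      rw [hy', umat_mulVec, h_smul_right hF, D.ee, map_neg, frob_frob hF, D.ef]
      fin_cases j <;> simp only [Fin.zero_eta, Fin.mk_one, Fin.isValue]
      · rw [L0]; simp
      · rw [L1]; simp
    · show mat L *ᵥ D.f j = mat y *ᵥ D.f j
      rw [hy', umat_mulVec, h_smul_right hF, D.ff, D.fe]
      fin_cases j <;> simp only [Fin.zero_eta, Fin.mk_one, Fin.isValue]
      · rw [L2]; simp
      · rw [L3]; simp [add_comm]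
    · exact l.elim0
  have hNM : N ∈ M := by
    have := mul_mem (mul_mem hLM hgM) (inv_mem hLM)
    rwa [hg, show L * (L⁻¹ * N * L) * L⁻¹ = N by group] at this
  refine hN.top hF (by omega) (by omega) hNM hL0 (fun j hj => ?_) fun l => l.elim0
  rw [show j = 1 from Fin.ext hj]
  exact Sh.comm_long hF hw (D.ff 0 0) hv hfe (D.ee 0 1) (by rw [D.ef, if_pos rfl]) hSh hL0 hLe

end CfsgLib.TwoGenCl.Unit
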