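/-
Two generators of special unitary groups.
-/
import Cfsg.Agent.Lib.TwoGenClassical.UnitFour

set_option autoImplicit false

namespace CfsgLib.TwoGenCl.Unit

variable {F : Type*} [Field F] [Fintype F] {q : ℕ}

/-- `SU_n(q)` is generated by two elements for `n ≥ 3`, except possibly `SU_3(2)`. -/
theorem su_two_gen (hF : Fintype.card F = q ^ 2) (n : ℕ) (hn : 3 ≤ n) (h32 : n = 3 → q ≠ 2) :
    ∃ a b : Cfsg.SU n F q, Subgroup.closure ({a, b} : Set (Cfsg.SU n F q)) = ⊤ := by
  have hq := (CfsgLib.UnitaryBasic.frob_exists hF).1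
  obtain ⟨k, hk | hk⟩ := Nat.even_or_odd' n
  · rcases Nat.lt_or_ge k 3 with hlt | hge
    · have h4 : n = 4 := by omega
      rcases eq_or_ne q 3 with h3 | h3
      · exact su_four_three hF h4 h3
      · exact su_four hF h4 h3
    · exact su_even hF hge hk.symm
  · rcases Nat.lt_or_ge k 2 with hlt | hge
    · have h3 : n = 3 := by omega
      exact su_three hF h3 (by have := h32 h3; omega)
    · rcases eq_or_ne q 2 with h2 | h2
      · exact su_odd_two hF hge hk.symm h2
      · exact su_odd hF hge hk.symm (by omega)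

end CfsgLib.TwoGenCl.Unit
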