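/-
Two generators of the symplectic group.
-/
import Cfsg.Agent.Lib.SympGen
import Cfsg.Agent.Lib.TwoGenClassical.Basic

set_option autoImplicit false
set_option linter.unusedSectionVars false

namespace CfsgLib.TwoGenCl.Symp

open Matrix hiding mul_apply one_apply
open CfsgLib.SympGen
open CfsgLib.SympTransvection (tv)

variable {F : Type*} [Field F] {m : ℕ}

local notation "Vec" => (Fin m ⊕ Fin m → F)
local notation "Sp" => Matrix.symplecticGroup (Fin m) F

theorem B_def (x y : Vec) :
    B x y = ∑ i, (x (Sum.inr i) * y (Sum.inl i) - x (Sum.inl i) * y (Sum.inr i)) := by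
  simp [B, Matrix.J, dotProduct, Fintype.sum_sum_type, Matrix.fromBlocks_mulVec, Matrix.neg_mulVec,
    Finset.sum_sub_distrib]
  rw [neg_add_eq_sub]

/-- All transvections of centre `v` lie in `M`. -/
def TI (M : Subgroup Sp) (v : Vec) : Prop := ∀ c : F, tv v c ∈ M

variable {M : Subgroup (Matrix.symplecticGroup (Fin m) F)}

theorem TI.zero : TI M (0 : Vec) := fun c => by
  have : tv (0 : Vec) c = 1 := Subtype.ext (Matrix.ext_of_mulVec_single fun i => by
    rw [tv_apply, one_apply, smul_zero, add_zero])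
  rw [this]
  exact one_mem _

theorem TI.smul {v : Vec} (h : TI M v) (a : F) : TI M (a • v) := fun c => by
  rw [tv_smul]
  exact h _

theorem TI.of_smul {v : Vec} {a : F} (ha : a ≠ 0) (h : TI M (a • v)) : TI M v := by
  have := h.smul a⁻¹
  rwa [smul_smul, inv_mul_cancel₀ ha, one_smul] at this

theorem TI.move {v : Vec} (h : TI M v) {g : Sp} (hg : g ∈ M) : TI M (g.1 *ᵥ v) := fun c => by
  rw [← conj_tv]
  exact mul_mem (mul_mem hg (h c)) (inv_mem hg)

theorem TI.comb {v w : Vec} (hv : TI M v) (hw : TI M w)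
    (h : B v w ≠ 0) (a b : F) : TI M (a • v + b • w) := by
  rcases eq_or_ne a 0 with rfl | ha
  · rw [zero_smul, zero_add]; exact hw.smul b
  have e := hv.move (hw (b / a / B v w))
  rw [tv_apply, div_mul_cancel₀ _ h] at e
  have e' := e.smul a
  rwa [smul_add, smul_smul, mul_div_cancel₀ _ ha] at e'

/-- Vectors supported on the pairs in `S`. -/
def Supp (S : Finset (Fin m)) (v : Vec) : Prop := ∀ i, i ∉ S → v (Sum.inl i) = 0 ∧ v (Sum.inr i) = 0

theorem B_disjoint {S S' : Finset (Fin m)} (hd : Disjoint S S') {x y : Vec} (hx : Supp S x) (hy : Supp S' y) :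
    B x y = 0 := by
  rw [B_def]
  refine Finset.sum_eq_zero fun i _ => ?_
  by_cases h : i ∈ S
  · obtain ⟨h1, h2⟩ := hy i (Finset.disjoint_left.mp hd h)
    rw [h1, h2]; ring
  · obtain ⟨h1, h2⟩ := hx i h
    rw [h1, h2]; ring

theorem B_single_left (v : Vec) (i : Fin m) (c : F) :
    B (Pi.single (Sum.inl i) c : Vec) v = - (c * v (Sum.inr i)) := by
  rw [B_def, Finset.sum_eq_single i (fun j _ hj => by simp [Pi.single_apply, hj]) (by simp)]
  simp

theorem B_single_right (v : Vec) (i : Fin m) (c : F) :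
    B (Pi.single (Sum.inr i) c : Vec) v = c * v (Sum.inl i) := by
  rw [B_def, Finset.sum_eq_single i (fun j _ hj => by simp [Pi.single_apply, hj]) (by simp)]
  simp

theorem exists_partner {S : Finset (Fin m)} {u : Vec} (hu : Supp S u) (hu0 : u ≠ 0) :
    ∃ z : Vec, Supp S z ∧ B z u ≠ 0 := by
  obtain ⟨j, hj⟩ := Function.ne_iff.mp hu0
  simp only [Pi.zero_apply] at hj
  rcases j with i | i
  · have hi : i ∈ S := by by_contra h; exact hj (hu i h).1
    refine ⟨Pi.single (Sum.inr i) 1, fun k hk => ?_, by rw [B_single_right, one_mul]; exact hj⟩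
    have : k ≠ i := fun e => hk (e ▸ hi)
    simp [this]
  · have hi : i ∈ S := by by_contra h; exact hj (hu i h).2
    refine ⟨Pi.single (Sum.inl i) 1, fun k hk => ?_, by rw [B_single_left, one_mul]; exact neg_ne_zero.mpr hj⟩
    have : k ≠ i := fun e => hk (e ▸ hi)
    simp [this]

theorem Supp.add {S : Finset (Fin m)} {x y : Vec} (hx : Supp S x) (hy : Supp S y) : Supp S (x + y) :=
  fun i hi => by simp [(hx i hi).1, (hx i hi).2, (hy i hi).1, (hy i hi).2]

theorem Supp.smul {S : Finset (Fin m)} {x : Vec} (hx : Supp S x) (c : F) : Supp S (c • x) :=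
  fun i hi => by simp [(hx i hi).1, (hx i hi).2]

theorem Supp.neg {S : Finset (Fin m)} {x : Vec} (hx : Supp S x) : Supp S (-x) :=
  fun i hi => by simp [(hx i hi).1, (hx i hi).2]

/-- Moving the component in `S` of a centre. -/
theorem TI.swap_part {S S' : Finset (Fin m)} (hd : Disjoint S S') (hS : ∀ v, Supp S v → TI M v)
    {u₀ u p : Vec} (h₀ : Supp S u₀) (hu : Supp S u) (hp : Supp S' p) (h₀0 : u₀ ≠ 0) (hu0 : u ≠ 0)
    (h : TI M (u₀ + p)) : TI M (u + p) := by
  have step : ∀ x y : Vec, Supp S x → Supp S y → B x y ≠ 0 → TI M (x + p) → TI M (y + p) := by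
    intro x y hx hy hxy hT
    have hyx : Supp S (y - x) := by rw [sub_eq_add_neg]; exact hy.add hx.neg
    have := hT.move (hS _ hyx (B x y)⁻¹)
    rwa [tv_apply, B_add_left, B_disjoint hd.symm hp hyx, add_zero, B_sub_right, B_self, sub_zero,
      inv_mul_cancel₀ hxy, one_smul, show x + p + (y - x) = y + p by abel] at this
  by_cases h1 : B u₀ u = 0
  · obtain ⟨z₁, hz₁, e₁⟩ := exists_partner h₀ h₀0
    obtain ⟨z₂, hz₂, e₂⟩ := exists_partner hu hu0
    have e₁' : B u₀ z₁ ≠ 0 := by rw [B_swap]; exact neg_ne_zero.mpr e₁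
    obtain ⟨z, hz, hz0, hzu⟩ : ∃ z, Supp S z ∧ B u₀ z ≠ 0 ∧ B z u ≠ 0 := by
      by_cases a : B z₁ u = 0
      · by_cases b : B u₀ z₂ = 0
        · refine ⟨z₁ + z₂, hz₁.add hz₂, ?_, ?_⟩
          · rw [B_add_right, show B u₀ z₂ = 0 from b, add_zero]; exact e₁'
          · rw [B_add_left, show B z₁ u = 0 from a, zero_add]; exact e₂
        · exact ⟨z₂, hz₂, b, e₂⟩
      · exact ⟨z₁, hz₁, e₁', a⟩
    exact step z u hz hu hzu (step u₀ z h₀ hz hz0 h)
  · exact step u₀ u h₀ hu h1 h

theorem plane_decomp {k : Fin m} {v : Vec} (hv : Supp {k} v) :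
    v = v (Sum.inl k) • Pi.single (Sum.inl k) 1 + v (Sum.inr k) • Pi.single (Sum.inr k) 1 := by
  funext j
  rcases j with i | i
  · by_cases h : i = k
    · subst h; simp
    · simp [(hv i (by simpa using h)).1, h]
  · by_cases h : i = k
    · subst h; simp
    · simp [(hv i (by simpa using h)).2, h]

theorem TI.plane {k : Fin m} (he : TI M (Pi.single (Sum.inl k) 1 : Vec)) (hf : TI M (Pi.single (Sum.inr k) 1 : Vec))
    {v : Vec} (hv : Supp {k} v) : TI M v := by
  rw [plane_decomp hv]
  exact he.comb hf (by rw [B_single_left]; simp) _ _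

/-- The pairs below `k`. -/
def below (m k : ℕ) : Finset (Fin m) := Finset.univ.filter fun i => (i : ℕ) < k

theorem mem_below {k : ℕ} {i : Fin m} : i ∈ below m k ↔ (i : ℕ) < k := by simp [below]

/-- Linked basic centres give all centres. -/
theorem all_TI (hb : ∀ i : Fin m, TI M (Pi.single (Sum.inl i) 1 : Vec) ∧ TI M (Pi.single (Sum.inr i) 1 : Vec))
    (hl : ∀ k : Fin m, 0 < (k : ℕ) → ∃ u p : Vec, Supp (below m k) u ∧ Supp {k} p ∧ u ≠ 0 ∧ p ≠ 0 ∧ TI M (u + p))
    (v : Vec) : TI M v := by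
  suffices key : ∀ k, k ≤ m → ∀ v, Supp (below m k) v → TI M v from
    key m le_rfl v fun i hi => absurd (mem_below.mpr i.2) hi
  intro k
  induction k with
  | zero =>
    intro _ v hv
    rw [show v = 0 from funext fun j => by
      rcases j with i | i
      · exact (hv i (by simp [mem_below])).1
      · exact (hv i (by simp [mem_below])).2]
    exact TI.zero
  | succ k ih =>
    intro hk v hv
    let a : Fin m := ⟨k, hk⟩
    have hd : Disjoint (below m k) ({a} : Finset (Fin m)) := by
      simp [Finset.disjoint_singleton_right, mem_below, a]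
    let p : Vec := v (Sum.inl a) • Pi.single (Sum.inl a) 1 + v (Sum.inr a) • Pi.single (Sum.inr a) 1
    have hp : Supp {a} p := fun i hi => by
      simp only [Finset.mem_singleton] at hi
      simp [p, hi]
    let u : Vec := v - p
    have hu : Supp (below m k) u := fun i hi => by
      rw [mem_below, not_lt] at hi
      by_cases h : i = a
      · subst h; simp [u, p]
      · have h2 : i ∉ below m (k + 1) := by
          rw [mem_below]
          intro hlt
          exact h (Fin.ext (by show (i : ℕ) = k; omega))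
        simp [u, p, (hv i h2).1, (hv i h2).2, h]
    have hvu : v = u + p := by simp [u]
    rw [hvu]
    have hP : ∀ x, Supp {a} x → TI M x := fun x hx => TI.plane (hb a).1 (hb a).2 hx
    by_cases hp0 : p = 0
    · rw [hp0, add_zero]; exact ih (Nat.le_of_succ_le hk) u hu
    by_cases hu0 : u = 0
    · rw [hu0, zero_add]; exact hP p hp
    have hk0 : 0 < k := by
      by_contra h0
      refine hu0 (funext fun j => ?_)
      rcases j with i | i
      · exact (hu i (by simp [mem_below]; omega)).1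
      · exact (hu i (by simp [mem_below]; omega)).2
    obtain ⟨u₀, p₀, h1, h2, h3, h4, h5⟩ := hl a hk0
    have h6 := TI.swap_part hd (ih (Nat.le_of_succ_le hk)) h1 hu h2 h3 hu0 h5
    rw [add_comm] at h6 ⊢
    exact TI.swap_part hd.symm hP h2 hp hu h4 hp0 h6

theorem top_of_TI (h : ∀ v : Vec, TI M v) : M = ⊤ := by
  rw [eq_top_iff, ← TV_eq_top, TV, Subgroup.closure_le]
  rintro A ⟨w, c, hA⟩
  rw [show A = tv w c from Subtype.ext hA]
  exact h w c

/-! ### Elements -/

theorem levi_mem (A : GL (Fin m) F) :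
    Matrix.fromBlocks (A : Matrix (Fin m) (Fin m) F) 0 0 (((A⁻¹ : GL (Fin m) F) : Matrix (Fin m) (Fin m) F)ᵀ) ∈
      Matrix.symplecticGroup (Fin m) F := by
  rw [SymplecticGroup.mem_iff]
  simp only [Matrix.fromBlocks_transpose, Matrix.transpose_zero, Matrix.transpose_transpose, Matrix.J,
    Matrix.fromBlocks_multiply, Matrix.mul_zero, Matrix.zero_mul, add_zero, zero_add, Matrix.mul_neg,
    Matrix.mul_one, Matrix.neg_mul]
  have e1 : (A : Matrix (Fin m) (Fin m) F) * ((A⁻¹ : GL (Fin m) F) : Matrix (Fin m) (Fin m) F) = 1 := by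
    rw [← Units.val_mul, mul_inv_cancel, Units.val_one]
  rw [e1, ← Matrix.transpose_mul, e1, Matrix.transpose_one, neg_zero]

/-- The Levi subgroup. -/
def levi : GL (Fin m) F →* Sp where
  toFun A := ⟨_, levi_mem A⟩
  map_one' := Subtype.ext (by simp)
  map_mul' A A' := Subtype.ext (by
    show _ = _ * _
    rw [Matrix.fromBlocks_multiply]
    simp [Units.val_mul])

theorem levi_inl (A : GL (Fin m) F) (x : Vec) :
    (levi A).1 *ᵥ x = Sum.elim ((A : Matrix (Fin m) (Fin m) F) *ᵥ (x ∘ Sum.inl))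
      ((((A⁻¹ : GL (Fin m) F) : Matrix (Fin m) (Fin m) F)ᵀ) *ᵥ (x ∘ Sum.inr)) := by
  show Matrix.fromBlocks _ _ _ _ *ᵥ x = _
  simp [Matrix.fromBlocks_mulVec]

end CfsgLib.TwoGenCl.Symp

namespace CfsgLib.TwoGenCl.Symp

open Matrix hiding mul_apply one_apply
open CfsgLib.SympGen
open CfsgLib.SympTransvection (tv)

variable {F : Type*} [Field F] {m : ℕ}

local notation "Vec" => (Fin m ⊕ Fin m → F)
local notation "Sp" => Matrix.symplecticGroup (Fin m) F

/-- The vector of the first half. -/
def el (i : Fin m) : Vec := Pi.single (Sum.inl i) 1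

/-- The vector of the second half. -/
def fr (i : Fin m) : Vec := Pi.single (Sum.inr i) 1

theorem levi_perm_el (σ : Equiv.Perm (Fin m)) (i : Fin m) :
    (levi (permG F σ)).1 *ᵥ el i = el (σ i) := by
  rw [levi_inl]
  funext j
  rcases j with j | j
  · show (permM F σ *ᵥ _) j = _
    rw [permM_mulVec]
    simp [el, Pi.single_apply, Equiv.symm_apply_eq]
  · show ((permM F σ⁻¹)ᵀ *ᵥ _) j = _
    rw [permM_transpose, inv_inv, permM_mulVec]
    simp [el]

theorem levi_perm_fr (σ : Equiv.Perm (Fin m)) (i : Fin m) :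
    (levi (permG F σ)).1 *ᵥ fr i = fr (σ i) := by
  rw [levi_inl]
  funext j
  rcases j with j | j
  · show (permM F σ *ᵥ _) j = _
    rw [permM_mulVec]
    simp [fr]
  · show ((permM F σ⁻¹)ᵀ *ᵥ _) j = _
    rw [permM_transpose, inv_inv, permM_mulVec]
    simp [fr, Pi.single_apply, Equiv.symm_apply_eq]

theorem B_el_el (i j : Fin m) : B (el i : Vec) (el j) = 0 := B_bas_inl_inl i j

theorem B_fr_fr (i j : Fin m) : B (fr i : Vec) (fr j) = 0 := B_bas_inr_inr i j

theorem B_fr_el (i j : Fin m) :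
    B (fr i : Vec) (el j) = if i = j then 1 else 0 := B_bas_inl_inr i j

theorem B_el_fr (i j : Fin m) :
    B (el i : Vec) (fr j) = if i = j then -1 else 0 := B_bas_inr_inl i j

/-- The Weyl element of one pair. -/
def flip (i : Fin m) : Sp := tv (el i) 1 * tv (fr i) 1 * tv (el i) 1

theorem flip_el (i j : Fin m) : (flip i : Sp).1 *ᵥ el j = if j = i then -fr i else el j := by
  simp only [flip, mul_apply, tv_apply, B_el_el, B_el_fr, mul_zero, zero_smul, add_zero, one_mul]
  split_ifs with h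
  · subst h
    simp [B_add_left, B_el_el, B_fr_el, ← sub_eq_add_neg]
  · simp [B_el_el]

theorem flip_fr (i j : Fin m) : (flip i : Sp).1 *ᵥ fr j = if j = i then el i else fr j := by
  simp only [flip, mul_apply, tv_apply, B_fr_el, one_mul]
  split_ifs with h
  · subst h
    simp [B_add_left, B_el_el, B_fr_el, B_fr_fr, B_el_fr, B_smul_left]
  · simp [B_fr_fr, B_fr_el, h]

variable [NeZero m]

/-- The monomial element of the largest period. -/
def nel : Sp := flip 0 * levi (permG F (finRotate m))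

theorem nel_el (i : Fin m) : (nel : Sp).1 *ᵥ el i = if i + 1 = 0 then -fr (0 : Fin m) else el (i + 1) := by
  rw [nel, mul_apply, levi_perm_el, flip_el, finRotate_apply]

theorem nel_fr (i : Fin m) : (nel : Sp).1 *ᵥ fr i = if i + 1 = 0 then el (0 : Fin m) else fr (i + 1) := by
  rw [nel, mul_apply, levi_perm_fr, flip_fr, finRotate_apply]

variable {M : Subgroup (Matrix.symplecticGroup (Fin m) F)}

theorem succ_ne_zero {i : ℕ} (h : i + 1 < m) : (⟨i, by omega⟩ : Fin m) + 1 = ⟨i + 1, h⟩ ∧
    (⟨i + 1, h⟩ : Fin m) ≠ 0 := by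
  refine ⟨Fin.ext ?_, fun e => by simpa using congrArg Fin.val e⟩
  rw [Fin.val_add, Fin.val_one', Nat.add_mod_mod]
  exact Nat.mod_eq_of_lt h

theorem orbit (hn : (nel : Sp) ∈ M) (h0 : TI M (el 0 : Vec)) :
    ∀ i : Fin m, TI M (Pi.single (Sum.inl i) 1 : Vec) ∧ TI M (Pi.single (Sum.inr i) 1 : Vec) := by
  have he : ∀ (k : ℕ) (h : k < m), TI M (el ⟨k, h⟩ : Vec) := by
    intro k
    induction k with
    | zero => intro h; exact h0
    | succ k ih =>
      intro h
      have := (ih (by omega)).move hn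
      rwa [nel_el, (succ_ne_zero h).1, if_neg (succ_ne_zero h).2] at this
  have hlast : (⟨m - 1, by have := NeZero.pos m; omega⟩ : Fin m) + 1 = 0 := by
    refine Fin.ext ?_
    rw [Fin.val_add, Fin.val_one', Nat.add_mod_mod, Fin.val_zero,
      show m - 1 + 1 = m by have := NeZero.pos m; omega, Nat.mod_self]
  have hf : ∀ (k : ℕ) (h : k < m), TI M (fr ⟨k, h⟩ : Vec) := by
    intro k
    induction k with
    | zero =>
      intro h
      have := (he _ (by have := NeZero.pos m; omega : m - 1 < m)).move hn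
      rw [nel_el, hlast, if_pos rfl] at this
      have := this.smul (-1)
      rwa [neg_one_smul, neg_neg] at this
    | succ k ih =>
      intro h
      have := (ih (by omega)).move hn
      rwa [nel_fr, (succ_ne_zero h).1, if_neg (succ_ne_zero h).2] at this
  exact fun i => ⟨he i i.2, hf i i.2⟩

theorem supp_el (i : Fin m) : Supp {i} (el i : Vec) := fun j hj => by
  simp only [Finset.mem_singleton] at hj
  simp [el, hj]

theorem links (hn : (nel : Sp) ∈ M) {h1 : 1 < m} (h0 : TI M ((el 0 : Vec) + el ⟨1, h1⟩)) :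
    ∀ k : Fin m, 0 < (k : ℕ) → ∃ u p : Vec, Supp (below m k) u ∧ Supp {k} p ∧ u ≠ 0 ∧ p ≠ 0 ∧ TI M (u + p) := by
  have key : ∀ (k : ℕ) (h : k + 1 < m), TI M ((el ⟨k, by omega⟩ : Vec) + el ⟨k + 1, h⟩) := by
    intro k
    induction k with
    | zero => intro h; exact h0
    | succ k ih =>
      intro h
      have := (ih (by omega)).move hn
      rwa [Matrix.mulVec_add, nel_el, nel_el, (succ_ne_zero (by omega : k + 1 < m)).1,
        if_neg (succ_ne_zero (by omega : k + 1 < m)).2, (succ_ne_zero h).1, if_neg (succ_ne_zero h).2] at this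
  intro k hk
  refine ⟨el ⟨k - 1, by omega⟩, el k, fun i hi => ?_, supp_el k, ?_, ?_, ?_⟩
  · refine supp_el (⟨k - 1, by omega⟩ : Fin m) i fun e => hi ?_
    rw [Finset.mem_singleton.mp e, mem_below]
    show (k : ℕ) - 1 < k
    omega
  · simp [el]
  · simp [el]
  · have := key (k - 1) (by omega)
    have e : (⟨(k : ℕ) - 1 + 1, by omega⟩ : Fin m) = k := Fin.ext (by show (k : ℕ) - 1 + 1 = k; omega)
    rwa [e] at this

theorem blk_el {a b : Fin m} (hab : a ≠ b) (A : GL (Fin 2) F) (c : Fin m) :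
    (levi (blk hab A)).1 *ᵥ el c =
      if c = a then (A : Matrix (Fin 2) (Fin 2) F) 0 0 • el a + (A : Matrix (Fin 2) (Fin 2) F) 1 0 • el b
      else if c = b then (A : Matrix (Fin 2) (Fin 2) F) 0 1 • el a + (A : Matrix (Fin 2) (Fin 2) F) 1 1 • el b
      else el c := by
  rw [levi_inl]
  funext j
  rcases j with j | j
  · show (((blk hab A : GL (Fin m) F) : Matrix (Fin m) (Fin m) F) *ᵥ _) j = _
    rw [blk_val, blkM_mulVec hab]
    split_ifs <;> simp_all [el, Pi.single_apply, eq_comm] <;> split_ifs <;> simp_all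
  · show (_ *ᵥ ((el c : Vec) ∘ Sum.inr)) j = _
    rw [show (el c : Vec) ∘ Sum.inr = 0 from funext fun i => by simp [el], Matrix.mulVec_zero]
    split_ifs <;> simp [el]

theorem tv_pow_char {p : ℕ} [CharP F p] (v : Vec) (c : F) : tv v c ^ p = 1 := by
  have : ∀ k : ℕ, tv v c ^ k = tv v ((k : F) * c) := by
    intro k
    induction k with
    | zero =>
      rw [pow_zero, Nat.cast_zero, zero_mul]
      exact Subtype.ext (Matrix.ext_of_mulVec_single fun i => by
        rw [one_apply, tv_apply, zero_mul, zero_smul, add_zero])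
    | succ k ih => rw [pow_succ, ih, tv_add, Nat.cast_succ, add_mul, one_mul]
  rw [this, CharP.cast_eq_zero, zero_mul]
  exact Subtype.ext (Matrix.ext_of_mulVec_single fun i => by
    rw [one_apply, tv_apply, zero_mul, zero_smul, add_zero])

/-- Full centres from one transvection and a scaling. -/
theorem TI.of_scale [Finite F] {v : Vec} {c : F} (hc : c ≠ 0) (hx : tv v c ∈ M)
    (hs : ∀ t : F, t ≠ 0 → ∃ g : Sp, g ∈ M ∧ g.1 *ᵥ v = t • v) : TI M v := by
  let A : AddSubgroup F :=
    { carrier := {d | tv v d ∈ M}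
      zero_mem' := by
        show tv v 0 ∈ M
        rw [show tv v (0 : F) = 1 from Subtype.ext (Matrix.ext_of_mulVec_single fun i => by
          rw [one_apply, tv_apply, zero_mul, zero_smul, add_zero])]
        exact one_mem _
      add_mem' := fun {a b} ha hb => by
        show tv v (a + b) ∈ M
        rw [← tv_add]; exact mul_mem ha hb
      neg_mem' := fun {a} ha => by
        show tv v (-a) ∈ M
        rw [show tv v (-a) = (tv v a)⁻¹ from eq_inv_of_mul_eq_one_left (by
          rw [tv_add, neg_add_cancel]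
          exact Subtype.ext (Matrix.ext_of_mulVec_single fun i => by
            rw [one_apply, tv_apply, zero_mul, zero_smul, add_zero]))]
        exact inv_mem ha }
  intro d
  have hA : A = ⊤ := eq_top_of_sq A hc fun t ht => by
    obtain ⟨g, hg, e⟩ := hs t ht
    have := mul_mem (mul_mem hg hx) (inv_mem hg)
    rw [conj_tv, e, tv_smul] at this
    show tv v (c * t ^ 2) ∈ M
    rwa [mul_comm]
  have : d ∈ A := hA ▸ AddSubgroup.mem_top d
  exact this

theorem inv_apply (g : Sp) (v : Vec) : (g⁻¹ : Sp).1 *ᵥ (g.1 *ᵥ v) = v := by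
  rw [← mul_apply, inv_mul_cancel, one_apply]

/-- `Sp_2m` is generated by two elements, `m ≥ 3`. -/
theorem two_gen_big [Finite F] (hm : 3 ≤ m) :
    ∃ a b : Sp, Subgroup.closure ({a, b} : Set Sp) = ⊤ := by
  obtain ⟨p, r, hp, hr, hchar, hcard⟩ := exists_char F
  haveI : Fact p.Prime := ⟨hp⟩
  let i1 : Fin m := ⟨1, by omega⟩
  let i2 : Fin m := ⟨2, by omega⟩
  have h12 : i1 ≠ i2 := by simp [i1, i2, Fin.ext_iff]
  have h01 : (0 : Fin m) ≠ i1 := by simp [i1, Fin.ext_iff]
  have h02 : (0 : Fin m) ≠ i2 := by simp [i2, Fin.ext_iff]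
  obtain ⟨A, hA1, hA2, hA3, hA4⟩ := exists_singer_std (F := F) 1
  set h : Sp := levi (blk h12 A) with hh
  have hfix : h.1 *ᵥ el 0 = el 0 := by rw [hh, blk_el, if_neg h01, if_neg h02]
  refine merge nel (h := h) (x := tv (el 0) 1) ?_ (coprime_of_pow (i := Nat.card F ^ 2 - 1) (j := p) ?_
    (tv_pow_char _ _) (hcard ▸ coprime_sq_sub_one hp hr)) fun M hn hM hx => ?_
  · have := conj_tv h (el 0) (1 : F)
    rw [hfix, mul_inv_eq_iff_eq_mul] at this
    exact this
  · rw [hh, ← map_pow, ← map_pow, hA1, map_one, map_one]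
  have e0 : (nel : Sp).1 *ᵥ el 0 = el i1 := by
    have e := succ_ne_zero (m := m) (i := 0) (by omega)
    rw [nel_el]
    rw [show ((0 : Fin m) + 1) = i1 from e.1, if_neg e.2]
  have e1 : (nel : Sp).1 *ᵥ el i1 = el i2 := by
    have e := succ_ne_zero (m := m) (i := 1) (by omega)
    rw [nel_el, show (i1 + 1) = i2 from e.1, if_neg e.2]
  have hT : TI M (el 0 : Vec) := TI.of_scale one_ne_zero hx fun t ht => by
    obtain ⟨j, hj⟩ := hA2 (Units.mk0 t ht)
    refine ⟨nel⁻¹ * h ^ j * nel, mul_mem (mul_mem (inv_mem hn) (pow_mem hM j)) hn, ?_⟩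
    rw [mul_apply, mul_apply, e0, hh, ← map_pow, ← map_pow, blk_el, if_pos rfl, hj]
    have : t • (el i1 : Vec) = (nel : Sp).1 *ᵥ (t • el 0) := by rw [Matrix.mulVec_smul, e0]
    simp only [Matrix.smul_apply, Matrix.one_apply_eq, Matrix.one_apply_ne one_ne_zero, Units.val_mk0,
      smul_eq_mul, mul_one, mul_zero, zero_smul, add_zero]
    rw [this, inv_apply]
  have hb := orbit hn hT
  have hlink : TI M ((el 0 : Vec) + el i1) := by
    have h2 : TI M (el i2 : Vec) := (hb i2).1
    have := (h2.move hM).move (inv_mem hn)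
    rw [hh, blk_el, if_neg h12.symm, if_pos rfl, hA3, hA4, one_smul, one_smul] at this
    rwa [show (el i1 : Vec) + el i2 = (nel : Sp).1 *ᵥ (el 0 + el i1) by rw [Matrix.mulVec_add, e0, e1],
      inv_apply] at this
  exact top_of_TI (all_TI hb (links hn hlink))

end CfsgLib.TwoGenCl.Symp
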