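/-
A criterion for a subgroup to contain the derived orthogonal group.
-/
import Cfsg.Agent.Lib.OmegaSimple
import Cfsg.Agent.Lib.TwoGenClassical.Basic

set_option autoImplicit false
set_option linter.unusedSectionVars false

namespace CfsgLib.TwoGenCl.Orth

open QuadraticMap CfsgLib.WittExtension Module CfsgLib.SpinorNorm CfsgLib.Eichler CfsgLib.OmegaSimple
open scoped commutatorElement

variable {F V : Type*} [Field F] [AddCommGroup V] [Module F V] {Q : QuadraticForm F V}

/-- All Eichler transformations at `z` lie in `M`. -/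
def Rad (M : Subgroup (quadIso Q)) (z : V) : Prop :=
  ∀ w, polar Q z w = 0 → ∀ u, IsEich Q z w u → u ∈ M

variable {M : Subgroup (quadIso Q)}

theorem Rad.smul {z : V} (h : Rad M z) {c : F} (hc : c ≠ 0) : Rad M (c • z) := fun w hw u hu => by
  refine h (c • w) ?_ u (eich_scale Q c hu)
  rw [polar_smul_left, smul_eq_mul, mul_eq_zero] at hw
  rw [polar_smul_right, hw.resolve_left hc, smul_zero]

theorem Rad.map {z : V} (h : Rad M z) {g : quadIso Q} (hg : g ∈ M) : Rad M (g.1 z) := fun w hw u hu => by
  have e := eich_conj Q hu g⁻¹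
  have hi : ∀ x, (g⁻¹).1 (g.1 x) = x := fun x => g.1.symm_apply_apply x
  rw [hi] at e
  have hw' : polar Q z ((g⁻¹).1 w) = 0 := by
    rw [← OrthOrder.polar_map g.2, show g.1 ((g⁻¹).1 w) = w from g.1.apply_symm_apply w, hw]
  have := mul_mem (mul_mem hg (h _ hw' _ e)) (inv_mem hg)
  simpa [mul_assoc] using this

/-- The radical at `z` moves points opposite to `z`. -/
theorem Rad.move {z x y : V} (h : Rad M z) (hz : Q z = 0) (hx : Q x = 0) (hy : Q y = 0)
    (hzx : polar Q z x ≠ 0) (hzy : polar Q z y ≠ 0) : ∃ u ∈ M, ∃ c : F, c ≠ 0 ∧ u.1 x = c • y := by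
  set x' := (polar Q z x)⁻¹ • x with hx'
  set y' := (polar Q z y)⁻¹ • y with hy'
  have h1 : polar Q z x' = 1 := by simp [hx', polar_smul_right, hzx]
  have h2 : polar Q z y' = 1 := by simp [hy', polar_smul_right, hzy]
  have hQx : Q x' = 0 := by rw [hx', QuadraticMap.map_smul, hx, smul_zero]
  have hQy : Q y' = 0 := by rw [hy', QuadraticMap.map_smul, hy, smul_zero]
  have hw : polar Q z (y' - x') = 0 := by
    rw [sub_eq_add_neg, polar_add_right, polar_neg_right, h1, h2, add_neg_cancel]
  obtain ⟨u, hu⟩ := exists_eich Q hz hw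
  refine ⟨u, h _ hw u hu, polar Q z x * (polar Q z y)⁻¹, mul_ne_zero hzx (inv_ne_zero hzy), ?_⟩
  have e : u.1 x' = y' := by
    have hq : Q (x' + (y' - x')) = 0 := by rw [add_sub_cancel, hQy]
    rw [QuadraticMap.map_add Q x', hQx, zero_add] at hq
    rw [hu x', h1, one_smul, mul_one, polar_comm Q (y' - x') x',
      show -polar Q x' (y' - x') - Q (y' - x') = 0 by linear_combination -hq, zero_smul, add_zero,
      add_sub_cancel]
  rw [hx', map_smul] at e
  have := congrArg (polar Q z x • ·) e
  simpa [hy', smul_smul, hzx] using this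

variable [FiniteDimensional F V] [Finite F]

/-- A full radical and an element moving its point to an opposite one give the derived group. -/
theorem commutator_le_of_rad (hQ : (polarBilin Q).Nondegenerate) (hn : 5 ≤ finrank F V) {e : V}
    (he : Q e = 0) {g : quadIso Q} (hg : g ∈ M) (hop : polar Q e (g.1 e) ≠ 0) (hE : Rad M e) :
    commutator (quadIso Q) ≤ M := by
  set f := g.1 e
  have hf : Q f = 0 := by rw [g.2, he]
  have he0 : e ≠ 0 := fun h => hop (by rw [h, QuadraticMap.polar_zero_left])
  have hfR : Rad M f := hE.map hg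
  have step : ∀ z x y : V, Q z = 0 → Q x = 0 → Q y = 0 → polar Q z x ≠ 0 → polar Q z y ≠ 0 →
      Rad M z → Rad M x → Rad M y := by
    intro z x y hz hx hy hzx hzy hR hRx
    obtain ⟨u, hu, c, hc, e'⟩ := hR.move hz hx hy hzx hzy
    have := (hRx.map hu).smul (inv_ne_zero hc)
    rwa [e', smul_smul, inv_mul_cancel₀ hc, one_smul] at this
  have h1 : ∀ y, Q y = 0 → polar Q e y ≠ 0 → Rad M y := fun y hy hey =>
    step e f y he hf hy hop hey hE hfR
  have hall : ∀ y, y ≠ 0 → Q y = 0 → Rad M y := by
    intro y hy0 hy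
    by_cases hey : polar Q e y = 0
    · obtain ⟨z, hz, hez, hzy⟩ := singular_avoid' Q hQ (by omega) he0 he hy0
      have hze : polar Q z e ≠ 0 := by rw [polar_comm, hez]; exact one_ne_zero
      exact step z e y hz he hy hze hzy (h1 z hz (by rw [hez]; exact one_ne_zero)) hE
    · exact h1 y hy hey
  rw [OmegaSimple.commutator_eq Q hQ hn, Subgroup.closure_le]
  rintro u ⟨a, b, c, ha, hb, hab, hu⟩
  have hu' := (sieg_eich Q hb u).mp hu
  rcases eq_or_ne a 0 with rfl | ha0
  · have : u = 1 := Subtype.ext (LinearEquiv.ext fun x => by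
      rw [hu' x, QuadraticMap.polar_zero_left, zero_smul, zero_add, smul_zero, add_zero]
      rfl)
    rw [this]
    exact one_mem _
  · exact hall a ha0 ha _ (by rw [polar_smul_right, hab, smul_zero]) u hu'

theorem sq_mem (hQ : (polarBilin Q).Nondegenerate) (hn : 5 ≤ finrank F V) (x : quadIso Q) :
    x * x ∈ commutator (quadIso Q) := by
  have hc : Subgroup.closure (Refl Q) = ⊤ := closure_refl Q hQ (Or.inr (by omega))
  set π := QuotientGroup.mk' (commutator (quadIso Q))
  rw [← QuotientGroup.eq_one_iff]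
  show π (x * x) = 1
  refine closure_induction_refl Q hc (fun x => π (x * x) = 1) (by simp) (fun v hv a ha => ?_) x
  have hcomm : π a * π (refl Q hv) = π (refl Q hv) * π a := by
    haveI := (Subgroup.Normal.quotient_commutative_iff_commutator_le (N := commutator (quadIso Q))).mpr le_rfl
    exact Std.Commutative.comm (op := (· * ·)) _ _
  calc π (refl Q hv * a * (refl Q hv * a)) = π (refl Q hv) * (π a * π (refl Q hv)) * π a := by
        simp only [map_mul, mul_assoc]
    _ = π (refl Q hv * refl Q hv) * π (a * a) := by simp only [hcomm, map_mul, mul_assoc]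
    _ = 1 := by rw [ha, refl_mul_self, map_one, one_mul]

/-- Two reflections with vectors of equal value give an element of the derived group. -/
theorem refl_pair_mem (hQ : (polarBilin Q).Nondegenerate) (hn : 5 ≤ finrank F V) {a b : V}
    (ha : Q a ≠ 0) (hb : Q b ≠ 0) (hab : Q a = Q b) :
    refl Q ha * refl Q hb ∈ commutator (quadIso Q) := by
  obtain ⟨g, hg, hgb⟩ := transitive' Q hQ hn (commutator (quadIso Q)) (fun e w he0 he hew g hg => by
    rw [OmegaSimple.commutator_eq Q hQ hn]; exact eich_mem Q hQ hn he0 he hew hg) ha hab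
  have hga : Q (g.1 a) ≠ 0 := by rw [hgb]; exact hb
  have e : refl Q hb = g * refl Q ha * g⁻¹ := by
    rw [conj_refl Q g ha hga]
    congr 1
    exact hgb.symm
  have h1 : refl Q ha * g * (refl Q ha)⁻¹ ∈ commutator (quadIso Q) :=
    Subgroup.Normal.conj_mem inferInstance g hg _
  rw [refl_inv] at h1
  rw [e, show refl Q ha * (g * refl Q ha * g⁻¹) = refl Q ha * g * refl Q ha * g⁻¹ by simp [mul_assoc]]
  exact mul_mem h1 (inv_mem hg)

theorem eich_mem_commutator (hQ : (polarBilin Q).Nondegenerate) (hn : 5 ≤ finrank F V) {e w : V}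
    (he : Q e = 0) (hew : polar Q e w = 0) {g : quadIso Q} (hg : IsEich Q e w g) :
    g ∈ commutator (quadIso Q) := by
  rcases eq_or_ne e 0 with rfl | he0
  · have : g = 1 := Subtype.ext (LinearEquiv.ext fun x => by
      rw [hg x, QuadraticMap.polar_zero_left, zero_smul, zero_add, smul_zero, add_zero]
      rfl)
    rw [this]
    exact one_mem _
  · rw [OmegaSimple.commutator_eq Q hQ hn]
    exact eich_mem Q hQ hn he0 he hew hg

theorem eich_pow {e w : V} (he : Q e = 0) (hew : polar Q e w = 0) {g : quadIso Q} (hg : IsEich Q e w g)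
    (k : ℕ) : IsEich Q e ((k : F) • w) (g ^ k) := by
  induction k with
  | zero => rw [Nat.cast_zero, zero_smul, pow_zero]; exact eich_zero Q e
  | succ k ih =>
    rw [Nat.cast_succ, add_smul, one_smul, pow_succ]
    exact eich_add Q he (by rw [polar_smul_right, hew, smul_zero]) hew ih hg

theorem eich_pow_char {p : ℕ} [CharP F p] {e w : V} (he : Q e = 0) (hew : polar Q e w = 0) {g : quadIso Q}
    (hg : IsEich Q e w g) : g ^ p = 1 := by
  have := eich_pow he hew hg p
  rw [CharP.cast_eq_zero, zero_smul] at this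
  exact eich_unique Q this (eich_zero Q e)

/-- Three suitable elements give two generators of the derived group. -/
theorem two_gen_of_triple [Finite V] {a h x : quadIso Q} (ha : a ∈ commutator (quadIso Q))
    (hh : h ∈ commutator (quadIso Q)) (hx : x ∈ commutator (quadIso Q)) (hc : Commute h x)
    (hco : (orderOf h).Coprime (orderOf x))
    (htop : ∀ M : Subgroup (quadIso Q), a ∈ M → h ∈ M → x ∈ M → commutator (quadIso Q) ≤ M) :
    ∃ g g' : commutator (quadIso Q), Subgroup.closure ({g, g'} : Set (commutator (quadIso Q))) = ⊤ := by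
  haveI : Finite (quadIso Q) :=
    Finite.of_injective (fun g : quadIso Q => (g.1 : V → V)) fun g g' e => Subtype.ext (DFunLike.coe_injective e)
  refine CfsgLib.TwoGenCl.merge (⟨a, ha⟩ : commutator (quadIso Q)) (h := ⟨h, hh⟩) (x := ⟨x, hx⟩)
    (Subtype.ext hc) (by simpa [Subgroup.orderOf_mk] using hco) fun M hA hH hX => ?_
  refine eq_top_iff.mpr fun y _ => ?_
  have := htop (M.map (commutator (quadIso Q)).subtype) ⟨_, hA, rfl⟩ ⟨_, hH, rfl⟩ ⟨_, hX, rfl⟩ y.2
  obtain ⟨z, hz, e⟩ := this
  rwa [← Subtype.ext (a1 := z) (a2 := y) e]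

end CfsgLib.TwoGenCl.Orth
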