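/-
Hyperbolic frames: the Levi subgroup and the generation by the shift.
-/
import Cfsg.Agent.Lib.TwoGenClassical.OrthCrit

set_option autoImplicit false
set_option linter.unusedSectionVars false

namespace CfsgLib.TwoGenCl.Orth

open QuadraticMap CfsgLib.WittExtension Module CfsgLib.SpinorNorm CfsgLib.Eichler CfsgLib.OmegaSimple
open scoped commutatorElement Matrix

variable {F V : Type*} [Field F] [AddCommGroup V] [Module F V]

/-- Singular hyperbolic pairs, mutually orthogonal. -/
structure Frame (Q : QuadraticForm F V) (k : ℕ) where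
  e : Fin k → V
  f : Fin k → V
  qe : ∀ i, Q (e i) = 0
  qf : ∀ i, Q (f i) = 0
  ee : ∀ i j, polar Q (e i) (e j) = 0
  ff : ∀ i j, polar Q (f i) (f j) = 0
  ef : ∀ i j, polar Q (e i) (f j) = if i = j then 1 else 0

variable {Q : QuadraticForm F V} {k : ℕ} (D : Frame Q k)

namespace Frame

theorem fe (i j : Fin k) : polar Q (D.f i) (D.e j) = if j = i then 1 else 0 := by
  rw [polar_comm, D.ef]

/-- The vector with given coordinates. -/
def comb : (Fin k → F) × (Fin k → F) →ₗ[F] V :=
  (Fintype.linearCombination F D.e).coprod (Fintype.linearCombination F D.f)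

theorem comb_apply (c d : Fin k → F) :
    D.comb (c, d) = (∑ i, c i • D.e i) + ∑ i, d i • D.f i := by
  simp [comb, Fintype.linearCombination_apply]

/-- The coefficient on `e i`. -/
def ca : V →ₗ[F] (Fin k → F) := LinearMap.pi fun i => polarBilin Q (D.f i)

/-- The coefficient on `f i`. -/
def cb : V →ₗ[F] (Fin k → F) := LinearMap.pi fun i => polarBilin Q (D.e i)

theorem ca_apply (x : V) (i : Fin k) : D.ca x i = polar Q (D.f i) x := rfl

theorem cb_apply (x : V) (i : Fin k) : D.cb x i = polar Q (D.e i) x := rfl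

theorem ca_comb (c d : Fin k → F) : D.ca (D.comb (c, d)) = c := by
  funext i
  simp only [ca_apply, comb_apply]
  rw [polar_add_right]
  simp only [← polarBilin_apply_apply (Q := Q), map_sum, map_smul]
  simp [polarBilin_apply_apply, D.fe, D.ff]

theorem cb_comb (c d : Fin k → F) : D.cb (D.comb (c, d)) = d := by
  funext i
  simp only [cb_apply, comb_apply]
  rw [polar_add_right]
  simp only [← polarBilin_apply_apply (Q := Q), map_sum, map_smul]
  simp [polarBilin_apply_apply, D.ef, D.ee]

theorem polar_comb (x : V) (c d : Fin k → F) :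
    polar Q x (D.comb (c, d)) = c ⬝ᵥ D.cb x + d ⬝ᵥ D.ca x := by
  rw [comb_apply, polar_add_right]
  simp only [← polarBilin_apply_apply (Q := Q), map_sum, map_smul]
  simp [polarBilin_apply_apply, dotProduct, cb_apply, ca_apply, polar_comm Q x]

theorem q_sum {ι : Type*} (s : Finset ι) (u : ι → V) (hu : ∀ i, Q (u i) = 0)
    (huu : ∀ i j, polar Q (u i) (u j) = 0) (c : ι → F) : Q (∑ i ∈ s, c i • u i) = 0 := by
  classical
  induction s using Finset.induction with
  | empty => simp
  | insert a s ha ih =>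
    rw [Finset.sum_insert ha, QuadraticMap.map_add Q, QuadraticMap.map_smul, hu, ih, smul_zero, zero_add,
      zero_add]
    simp only [← polarBilin_apply_apply (Q := Q), map_sum, map_smul, LinearMap.smul_apply]
    simp [polarBilin_apply_apply, huu]

theorem q_comb (c d : Fin k → F) : Q (D.comb (c, d)) = c ⬝ᵥ d := by
  rw [comb_apply, QuadraticMap.map_add Q, q_sum _ D.e D.qe D.ee, q_sum _ D.f D.qf D.ff, zero_add, zero_add]
  simp only [← polarBilin_apply_apply (Q := Q), map_sum, map_smul, LinearMap.smul_apply, LinearMap.sum_apply]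
  simp [polarBilin_apply_apply, D.ef, dotProduct, mul_comm]

/-- The Levi map. -/
def lvMap (A A' : Matrix (Fin k) (Fin k) F) : V →ₗ[F] V :=
  LinearMap.id + D.comb ∘ₗ (((A - 1).mulVecLin ∘ₗ D.ca).prod ((A' - 1).mulVecLin ∘ₗ D.cb))

theorem lvMap_apply (A A' : Matrix (Fin k) (Fin k) F) (x : V) :
    D.lvMap A A' x = x + D.comb (A *ᵥ D.ca x - D.ca x, A' *ᵥ D.cb x - D.cb x) := by
  simp [lvMap, Matrix.sub_mulVec]

theorem lvMap_comp (A A' B B' : Matrix (Fin k) (Fin k) F) :
    D.lvMap A A' ∘ₗ D.lvMap B B' = D.lvMap (A * B) (A' * B') := by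
  ext x
  rw [LinearMap.comp_apply, lvMap_apply, lvMap_apply, lvMap_apply, map_add D.ca, map_add D.cb,
    ca_comb, cb_comb, add_sub_cancel, add_sub_cancel, add_assoc, ← map_add, Prod.mk_add_mk,
    Matrix.mulVec_mulVec, Matrix.mulVec_mulVec]
  congr 3 <;> abel

theorem lvMap_one : D.lvMap 1 1 = LinearMap.id := by
  ext x
  rw [lvMap_apply, Matrix.one_mulVec, Matrix.one_mulVec, sub_self, sub_self, Prod.mk_zero_zero, map_zero,
    add_zero, LinearMap.id_apply]

theorem lvMap_q {A A' : Matrix (Fin k) (Fin k) F} (h : A'ᵀ * A = 1) (x : V) : Q (D.lvMap A A' x) = Q x := by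
  rw [lvMap_apply, QuadraticMap.map_add Q, q_comb, polar_comb]
  set a := D.ca x
  set b := D.cb x
  have e : (A *ᵥ a) ⬝ᵥ (A' *ᵥ b) = a ⬝ᵥ b := by
    rw [dotProduct_comm, Matrix.dotProduct_mulVec, ← Matrix.mulVec_transpose, Matrix.mulVec_mulVec,
      show Aᵀ * A' = 1 by rw [← Matrix.transpose_transpose A', ← Matrix.transpose_mul, h, Matrix.transpose_one],
      Matrix.one_mulVec, dotProduct_comm]
  simp only [sub_dotProduct, dotProduct_sub]
  rw [e, dotProduct_comm b a, dotProduct_comm (A' *ᵥ b) a]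
  ring

end Frame

/-- The Levi subgroup of a frame. -/
def Frame.levi : GL (Fin k) F →* quadIso Q where
  toFun A :=
    ⟨LinearEquiv.ofLinearMap (D.lvMap A.1 ((A⁻¹).1)ᵀ) (D.lvMap (A⁻¹).1 (A.1)ᵀ)
      (by rw [D.lvMap_comp, ← Matrix.transpose_mul, ← Units.val_mul, mul_inv_cancel, Units.val_one,
        Matrix.transpose_one, D.lvMap_one])
      (by rw [D.lvMap_comp, ← Matrix.transpose_mul, ← Units.val_mul, inv_mul_cancel, Units.val_one,
        Matrix.transpose_one, D.lvMap_one]),
      fun x => D.lvMap_q (by rw [Matrix.transpose_transpose, ← Units.val_mul, inv_mul_cancel,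
        Units.val_one]) x⟩
  map_one' := Subtype.ext (LinearEquiv.ext fun x => by
    show D.lvMap _ _ x = x
    rw [inv_one, Units.val_one, Matrix.transpose_one, D.lvMap_one, LinearMap.id_apply])
  map_mul' A B := Subtype.ext (LinearEquiv.ext fun x => by
    show D.lvMap _ _ x = D.lvMap _ _ (D.lvMap _ _ x)
    rw [← LinearMap.comp_apply, D.lvMap_comp, ← Matrix.transpose_mul, ← Units.val_mul, ← Units.val_mul,
      mul_inv_rev])

namespace Frame

theorem levi_apply (A : GL (Fin k) F) (x : V) : (D.levi A).1 x =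
    x + D.comb (A.1 *ᵥ D.ca x - D.ca x, ((A⁻¹).1)ᵀ *ᵥ D.cb x - D.cb x) := D.lvMap_apply _ _ x

theorem levi_fix (A : GL (Fin k) F) {x : V} (ha : D.ca x = 0) (hb : D.cb x = 0) : (D.levi A).1 x = x := by
  rw [D.levi_apply, ha, hb, Matrix.mulVec_zero, Matrix.mulVec_zero, sub_zero, Prod.mk_zero_zero, map_zero,
    add_zero]

theorem ca_e (j : Fin k) : D.ca (D.e j) = Pi.single j 1 := funext fun i => by
  simp [ca_apply, D.fe, Pi.single_apply, eq_comm]

theorem cb_e (j : Fin k) : D.cb (D.e j) = 0 := funext fun i => D.ee i j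

theorem ca_f (j : Fin k) : D.ca (D.f j) = 0 := funext fun i => D.ff i j

theorem cb_f (j : Fin k) : D.cb (D.f j) = Pi.single j 1 := funext fun i => by
  simp [cb_apply, D.ef, Pi.single_apply]

theorem levi_e (A : GL (Fin k) F) (j : Fin k) : (D.levi A).1 (D.e j) = ∑ i, A.1 i j • D.e i := by
  rw [D.levi_apply, D.ca_e, D.cb_e, Matrix.mulVec_zero, sub_zero, comb_apply, Matrix.mulVec_single_one]
  simp [sub_smul, Finset.sum_sub_distrib, Pi.single_apply, ite_smul]

theorem levi_f (A : GL (Fin k) F) (j : Fin k) : (D.levi A).1 (D.f j) = ∑ i, (A⁻¹).1 j i • D.f i := by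
  rw [D.levi_apply, D.ca_f, D.cb_f, Matrix.mulVec_zero, sub_zero, comb_apply, Matrix.mulVec_single_one]
  simp [sub_smul, Finset.sum_sub_distrib, Pi.single_apply, ite_smul]

end Frame

end CfsgLib.TwoGenCl.Orth
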