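/-
Two generators of orthogonal groups with a hyperbolic frame.
-/
import Cfsg.Agent.Lib.TwoGenClassical.OrthFrame
import Cfsg.Agent.Lib.SLPerfect

set_option autoImplicit false
set_option linter.unusedSectionVars false
set_option linter.style.haveILetI false

namespace CfsgLib.TwoGenCl.Orth

open QuadraticMap CfsgLib.WittExtension Module CfsgLib.SpinorNorm CfsgLib.Eichler CfsgLib.OmegaSimple
open scoped commutatorElement Matrix

variable {F V : Type*} [Field F] [AddCommGroup V] [Module F V]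

theorem polar_neg' (Q : QuadraticForm F V) (a b : V) : polar Q a (-b) = -polar Q a b := polar_neg_right Q a b

variable {Q : QuadraticForm F V} {k : ℕ} (D : Frame Q k)

/-- Diagonal matrices. -/
def diagG (k : ℕ) : (Fin k → Fˣ) →* GL (Fin k) F where
  toFun d :=
    { val := Matrix.diagonal fun i => (d i : F)
      inv := Matrix.diagonal fun i => ((d i)⁻¹ : Fˣ)
      val_inv := by simp [Matrix.diagonal_mul_diagonal]
      inv_val := by simp [Matrix.diagonal_mul_diagonal] }
  map_one' := Units.ext (by simp)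
  map_mul' d d' := Units.ext (by simp [Matrix.diagonal_mul_diagonal])

namespace Frame

theorem levi_diag_e (d : Fin k → Fˣ) (j : Fin k) : (D.levi (diagG k d)).1 (D.e j) = (d j : F) • D.e j := by
  rw [D.levi_e, Finset.sum_eq_single j (fun i _ hi => by simp [diagG, hi]) (by simp)]
  simp [diagG]

theorem levi_diag_f (d : Fin k → Fˣ) (j : Fin k) :
    (D.levi (diagG k d)).1 (D.f j) = (((d j)⁻¹ : Fˣ) : F) • D.f j := by
  rw [D.levi_f, Finset.sum_eq_single j (fun i _ hi => by simp [diagG, hi.symm]) (by simp)]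
  simp [diagG]

theorem levi_perm_e (σ : Equiv.Perm (Fin k)) (j : Fin k) : (D.levi (permG F σ)).1 (D.e j) = D.e (σ j) := by
  rw [D.levi_e, Finset.sum_eq_single (σ j) (fun i _ hi => by
    show (permM F σ) i j • D.e i = 0
    simp [permM, hi]) (by simp)]
  show (permM F σ) (σ j) j • D.e (σ j) = _
  simp [permM]

theorem levi_perm_f (σ : Equiv.Perm (Fin k)) (j : Fin k) : (D.levi (permG F σ)).1 (D.f j) = D.f (σ j) := by
  rw [D.levi_f, Finset.sum_eq_single (σ j) (fun i _ hi => by
    show (permM F σ⁻¹) j i • D.f i = 0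
    simp [permM, Equiv.eq_symm_apply, hi.symm]) (by simp)]
  show (permM F σ⁻¹) j (σ j) • D.f (σ j) = _
  simp [permM]

theorem levi_transvection (i j : Fin k) (hij : i ≠ j) (c : F) :
    IsEich Q (D.e i) ((-c) • D.f j)
      (D.levi (Matrix.SpecialLinearGroup.toGL (Matrix.SpecialLinearGroup.transvection hij c))) := by
  intro x
  have hinv : ((Matrix.SpecialLinearGroup.toGL (Matrix.SpecialLinearGroup.transvection hij c))⁻¹ :
      GL (Fin k) F).1 = 1 + Matrix.single i j (-c) := by
    rw [← map_inv, inv_eq_of_mul_eq_one_right (b := Matrix.SpecialLinearGroup.transvection hij (-c))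
      (Subtype.ext (by
        show (1 + Matrix.single i j c) * (1 + Matrix.single i j (-c)) = 1
        simp [mul_add, add_mul, Matrix.single_mul_single_of_ne _ _ _ _ hij.symm, add_assoc,
          ← Matrix.single_add]))]
    rfl
  rw [D.levi_apply, hinv, show (Matrix.SpecialLinearGroup.toGL
    (Matrix.SpecialLinearGroup.transvection hij c)).1 = 1 + Matrix.single i j c from rfl]
  congr 1
  rw [Matrix.transpose_add, Matrix.transpose_one, Matrix.transpose_single, Matrix.add_mulVec, Matrix.add_mulVec,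
    Matrix.one_mulVec, Matrix.one_mulVec, add_sub_cancel_left, add_sub_cancel_left, comb_apply,
    Finset.sum_eq_single i (fun l _ hl => by simp [Matrix.single_mulVec, hl]) (by simp),
    Finset.sum_eq_single j (fun l _ hl => by simp [Matrix.single_mulVec, hl]) (by simp)]
  simp only [Matrix.single_mulVec, Function.update_self, ca_apply, cb_apply, QuadraticMap.map_smul, D.qf,
    polar_smul_left, smul_eq_mul, mul_zero, zero_mul, sub_zero]
  module

variable [FiniteDimensional F V] [Finite F]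

theorem levi_sl_mem (hQ : (polarBilin Q).Nondegenerate) (hn : 5 ≤ finrank F V) (hk : 2 ≤ k)
    (C : Matrix.SpecialLinearGroup (Fin k) F) :
    D.levi (Matrix.SpecialLinearGroup.toGL C) ∈ commutator (quadIso Q) := by
  classical
  haveI : Nontrivial (Fin k) := Fin.nontrivial_iff_two_le.mpr hk
  have htr : ∀ (i j : Fin k) (hij : i ≠ j) (c : F),
      D.levi (Matrix.SpecialLinearGroup.toGL (Matrix.SpecialLinearGroup.transvection hij c)) ∈
        commutator (quadIso Q) := fun i j hij c =>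
    eich_mem_commutator hQ hn (D.qe i) (by rw [polar_smul_right, D.ef, if_neg hij, smul_zero])
      (D.levi_transvection i j hij c)
  refine Matrix.SpecialLinearGroup.diagonal_transvection_induction'
    (fun A => D.levi (Matrix.SpecialLinearGroup.toGL A) ∈ commutator (quadIso Q)) C (fun i j hij c hc => ?_) htr
    (fun A B hA hB => by rw [map_mul, map_mul]; exact mul_mem hA hB)
  rw [CfsgLib.SLPerfect.diag2n_eq hij hc]
  simp only [map_mul]
  exact mul_mem (mul_mem (mul_mem (mul_mem (htr _ _ _ _) (htr _ _ _ _)) (htr _ _ _ _)) (htr _ _ _ _))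
    (htr _ _ _ _)

/-- The signed vectors of the frame. -/
def vec (b : Bool) (i : Fin k) : V := if b then D.f i else D.e i

theorem q_vec (b : Bool) (i : Fin k) : Q (D.vec b i) = 0 := by
  unfold vec
  split_ifs
  · exact D.qf i
  · exact D.qe i

variable [NeZero k]

/-- The vector following a signed vector. -/
def nxt (b : Bool) (i : Fin k) : V := D.vec (if i + 1 = 0 then !b else b) (i + 1)

/-- The shift element. -/
theorem exists_shift (hQ : (polarBilin Q).Nondegenerate) (hn : 5 ≤ finrank F V) (hk : 2 ≤ k) {w : V}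
    (hwa : D.ca w = 0) (hwb : D.cb w = 0) (hw : Q w ≠ 0) :
    ∃ n ∈ commutator (quadIso Q), (∀ b i, ∃ c : F, c ≠ 0 ∧ n.1 (D.vec b i) = c • D.nxt b i) ∧
      ∀ x, D.ca x = 0 → D.cb x = 0 → n.1 x = (refl Q hw).1 x := by
  classical
  set σ := finRotate k
  let s : Fˣ := Units.map (Int.castRingHom F).toMonoidHom (Equiv.Perm.sign σ)
  let d : Fin k → Fˣ := Function.update 1 0 s
  have hdet : (permG F σ * diagG k d).1.det = 1 := by
    rw [Units.val_mul, Matrix.det_mul]
    show (permM F σ).det * (Matrix.diagonal fun i => (d i : F)).det = 1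
    have hp : permM F σ = Equiv.Perm.permMatrix F σ⁻¹ := by
      ext a b
      simp [permM, Equiv.Perm.permMatrix, PEquiv.toMatrix_apply, Equiv.toPEquiv_apply]
      by_cases h : a = σ b
      · subst h; simp
      · simp [h, Equiv.symm_apply_eq]
    rw [hp, Matrix.det_permutation, Matrix.det_diagonal,
      Finset.prod_eq_single 0 (fun i _ hi => by simp [d, hi]) (by simp)]
    simp only [d, Function.update_self, Equiv.Perm.sign_inv, s]
    show ((Equiv.Perm.sign σ : ℤ) : F) * ((Equiv.Perm.sign σ : ℤ) : F) = 1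
    rw [← Int.cast_mul, ← Units.val_mul, Int.units_mul_self]
    simp
  have hC : D.levi (permG F σ * diagG k d) ∈ commutator (quadIso Q) := by
    have := D.levi_sl_mem hQ hn hk ⟨_, hdet⟩
    rwa [show (permG F σ * diagG k d) = Matrix.SpecialLinearGroup.toGL ⟨_, hdet⟩ from Units.ext rfl]
  set v : V := D.e 0 + Q w • D.f 0
  have hv : Q v = Q w := by
    rw [QuadraticMap.map_add Q, QuadraticMap.map_smul, D.qe, D.qf, polar_smul_right, D.ef]
    simp
  have hv0 : Q v ≠ 0 := by rw [hv]; exact hw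
  refine ⟨refl Q hv0 * refl Q hw * D.levi (permG F σ * diagG k d),
    mul_mem (refl_pair_mem hQ hn hv0 hw hv) hC, fun b i => ?_, fun x ha hb => ?_⟩
  · have hwv : ∀ b i, (refl Q hw).1 (D.vec b i) = D.vec b i := fun b i => by
      have e1 : polar Q w (D.vec b i) = 0 := by
        rw [polar_comm]
        unfold vec
        split_ifs
        · exact congrFun hwa i
        · exact congrFun hwb i
      rw [refl_apply, e1, mul_zero, neg_zero, zero_smul, add_zero]
    have hC' : ∃ c : F, c ≠ 0 ∧ (D.levi (permG F σ * diagG k d)).1 (D.vec b i) = c • D.vec b (i + 1) := by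
      rw [map_mul]
      show ∃ c : F, c ≠ 0 ∧ (D.levi (permG F σ)).1 ((D.levi (diagG k d)).1 (D.vec b i)) = _
      rcases b with _ | _
      · refine ⟨(d i : F), (d i).ne_zero, ?_⟩
        simp only [vec, Bool.false_eq_true, if_false]
        rw [D.levi_diag_e, map_smul, D.levi_perm_e, finRotate_apply]
      · refine ⟨(((d i)⁻¹ : Fˣ) : F), Units.ne_zero _, ?_⟩
        simp only [vec, if_true]
        rw [D.levi_diag_f, map_smul, D.levi_perm_f, finRotate_apply]
    obtain ⟨c, hc, e⟩ := hC'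
    have key : ∀ j, ∃ c' : F, c' ≠ 0 ∧ (refl Q hv0).1 (D.vec b j) = c' • D.vec (if j = 0 then !b else b) j := by
      intro j
      rw [refl_apply, hv]
      rcases eq_or_ne j 0 with rfl | hj
      · rcases b with _ | _
        · refine ⟨-Q w, neg_ne_zero.mpr hw, ?_⟩
          simp only [vec, Bool.false_eq_true, if_false, if_true, Bool.not_false, v, polar_add_left,
            polar_smul_left, D.ee, D.fe, smul_eq_mul, mul_one, zero_add, inv_mul_cancel₀ hw]
          module
        · refine ⟨-(Q w)⁻¹, neg_ne_zero.mpr (inv_ne_zero hw), ?_⟩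
          simp only [vec, if_true, Bool.not_true, Bool.false_eq_true, if_false, v, polar_add_left,
            polar_smul_left, D.ff, D.ef, smul_eq_mul, mul_zero, add_zero, mul_one, smul_add, smul_smul, neg_mul,
            inv_mul_cancel₀ hw]
          module
      · refine ⟨1, one_ne_zero, ?_⟩
        rw [if_neg hj, one_smul]
        have : polar Q v (D.vec b j) = 0 := by
          rcases b with _ | _ <;>
            simp [v, vec, polar_add_left, polar_smul_left, D.ee, D.ef, D.fe, D.ff, hj, hj.symm]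
        rw [this, mul_zero, neg_zero, zero_smul, add_zero]
    obtain ⟨c', hc', e'⟩ := key (i + 1)
    refine ⟨c * c', mul_ne_zero hc hc', ?_⟩
    show (refl Q hv0).1 ((refl Q hw).1 ((D.levi _).1 (D.vec b i))) = _
    rw [e, map_smul, hwv, map_smul, e', smul_smul]
    rfl
  · show (refl Q hv0).1 ((refl Q hw).1 ((D.levi _).1 x)) = _
    rw [D.levi_fix _ ha hb, refl_apply Q hv0]
    have e1 : polar Q v ((refl Q hw).1 x) = 0 := by
      have ha0 : polar Q (D.f 0) x = 0 := congrFun ha 0
      have hb0 : polar Q (D.e 0) x = 0 := congrFun hb 0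
      have hwa0 : polar Q (D.f 0) w = 0 := congrFun hwa 0
      have hwb0 : polar Q (D.e 0) w = 0 := congrFun hwb 0
      simp [refl_apply, v, polar_add_left, polar_add_right, polar_smul_left, polar_smul_right, ha0, hb0, hwa0, hwb0,
        polar_neg_right]
    rw [e1, mul_zero, neg_zero, zero_smul, add_zero]

end Frame

/-- All Eichler transformations along `u` at `v` lie in `M`. -/
def Full (M : Subgroup (quadIso Q)) (v u : V) : Prop := ∀ (t : F) g, IsEich Q v (t • u) g → g ∈ M

variable {M : Subgroup (quadIso Q)}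

theorem Full.smul_left {v u : V} (h : Full M v u) (c : F) : Full M (c • v) u := fun t g hg =>
  h (c * t) g (by rw [← smul_smul]; exact eich_scale Q c hg)

theorem Full.of_smul_left {v u : V} {c : F} (hc : c ≠ 0) (h : Full M (c • v) u) : Full M v u := by
  have := h.smul_left c⁻¹
  rwa [smul_smul, inv_mul_cancel₀ hc, one_smul] at this

theorem Full.smul_right {v u : V} (h : Full M v u) (c : F) : Full M v (c • u) := fun t g hg =>
  h (t * c) g (by rwa [← smul_smul])

theorem Full.map {v u : V} (h : Full M v u) {g : quadIso Q} (hg : g ∈ M) : Full M (g.1 v) (g.1 u) := by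
  intro t x hx
  have e := eich_conj Q hx g⁻¹
  rw [show (g⁻¹).1 (g.1 v) = v from g.1.symm_apply_apply v, map_smul,
    show (g⁻¹).1 (g.1 u) = u from g.1.symm_apply_apply u] at e
  have := mul_mem (mul_mem hg (h t _ e)) (inv_mem hg)
  simpa [mul_assoc] using this

theorem Full.of_scale [Finite F] {v u : V} (hv : Q v = 0) (hvu : polar Q v u = 0) {c : F} (hc : c ≠ 0)
    {x : quadIso Q} (hx : IsEich Q v (c • u) x) (hxM : x ∈ M)
    (hs : ∀ t : F, t ≠ 0 → ∃ g : quadIso Q, g ∈ M ∧ g.1 v = t ^ 2 • v ∧ g.1 u = u) : Full M v u := by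
  have hp : ∀ a : F, polar Q v (a • u) = 0 := fun a => by rw [polar_smul_right, hvu, smul_zero]
  let A : AddSubgroup F :=
    { carrier := {t | ∀ g, IsEich Q v (t • u) g → g ∈ M}
      zero_mem' := fun g hg => by
        rw [zero_smul] at hg
        rw [eich_unique Q hg (eich_zero Q v)]
        exact one_mem _
      add_mem' := fun {a b} ha hb g hg => by
        obtain ⟨ga, hga⟩ := exists_eich Q hv (hp a)
        obtain ⟨gb, hgb⟩ := exists_eich Q hv (hp b)
        rw [add_smul] at hg
        rw [eich_unique Q hg (eich_add Q hv (hp a) (hp b) hga hgb)]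
        exact mul_mem (ha ga hga) (hb gb hgb)
      neg_mem' := fun {a} ha g hg => by
        obtain ⟨ga, hga⟩ := exists_eich Q hv (hp a)
        have := eich_add Q hv (hp (-a)) (hp a) hg hga
        rw [← add_smul, neg_add_cancel, zero_smul] at this
        rw [eq_inv_of_mul_eq_one_left (eich_unique Q this (eich_zero Q v))]
        exact inv_mem (ha ga hga) }
  have hA : A = ⊤ := eq_top_of_sq A hc fun t ht g hg => by
    obtain ⟨k, hk, e1, e2⟩ := hs t ht
    have e := eich_conj Q hx k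
    rw [e1, map_smul, e2] at e
    have e' := eich_scale Q (t ^ 2) e
    rw [smul_smul, mul_comm] at e'
    rw [eich_unique Q hg e']
    exact mul_mem (mul_mem hk hxM) (inv_mem hk)
  intro t
  have : t ∈ A := hA ▸ AddSubgroup.mem_top t
  exact this

/-- Commutators of short root elements give the long ones. -/
theorem Full.long {v v' ζ ζ' : V} (hv : Q v = 0) (hv' : Q v' = 0) (hvv : polar Q v v' = 0)
    (h1 : polar Q v ζ = 0) (h2 : polar Q v' ζ' = 0) (h3 : polar Q v ζ' = 0) (h4 : polar Q v' ζ = 0)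
    (hζ : polar Q ζ ζ' ≠ 0) (hF : Full M v ζ) (hF' : Full M v' ζ') : Full M v' v := by
  intro c g hg
  set t : F := -c / polar Q ζ ζ'
  obtain ⟨g1, hg1⟩ := exists_eich Q hv h1
  obtain ⟨g2, hg2⟩ := exists_eich Q hv' (show polar Q v' (t • ζ') = 0 by rw [polar_smul_right, h2, smul_zero])
  have m1 : g1 ∈ M := hF 1 g1 (by rwa [one_smul])
  have m2 : g2 ∈ M := hF' t g2 hg2
  have e := eich_conj Q hg2 g1
  have ev : g1.1 v' = v' := by rw [hg1 v', hvv, polar_comm Q ζ v', h4]; simp
  have eζ : g1.1 (t • ζ') = t • ζ' + c • v := by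
    rw [map_smul, hg1 ζ', h3, zero_smul, zero_add, mul_zero, sub_zero, smul_add, smul_smul]
    congr 2
    simp only [t]
    field_simp
  rw [ev, eζ] at e
  have e2 := eich_add Q hv' (show polar Q v' (c • v) = 0 by rw [polar_smul_right, polar_comm Q v' v, hvv, smul_zero])
    (show polar Q v' (t • ζ') = 0 by rw [polar_smul_right, h2, smul_zero]) hg hg2
  rw [add_comm] at e
  have := eich_unique Q e2 e
  rw [show g = g1 * g2 * g1⁻¹ * g2⁻¹ by rw [← this, mul_inv_cancel_right]]
  exact mul_mem (mul_mem (mul_mem m1 m2) (inv_mem m1)) (inv_mem m2)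

namespace Frame

variable [FiniteDimensional F V] [Finite F] [NeZero k]

theorem orbit_all (P : Bool → Fin k → Prop) (h0 : P false 0)
    (hs : ∀ b i, P b i → P (if i + 1 = 0 then !b else b) (i + 1)) : ∀ b i, P b i := by
  have hz : ∀ (b : Bool), P b 0 → ∀ (j : ℕ) (h : j < k), P b ⟨j, h⟩ := by
    intro b hb j
    induction j with
    | zero => intro h; exact hb
    | succ j ih =>
      intro h
      have := hs b _ (ih (by omega))
      have e : (⟨j, by omega⟩ : Fin k) + 1 = ⟨j + 1, h⟩ := Fin.ext (by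
        rw [Fin.val_add, Fin.val_one', Nat.add_mod_mod]
        exact Nat.mod_eq_of_lt h)
      rw [e, if_neg (fun e' => by simpa using congrArg Fin.val e')] at this
      exact this
  have hlast : (⟨k - 1, by have := NeZero.pos k; omega⟩ : Fin k) + 1 = 0 := by
    refine Fin.ext ?_
    rw [Fin.val_add, Fin.val_one', Nat.add_mod_mod, Fin.val_zero,
      show k - 1 + 1 = k by have := NeZero.pos k; omega, Nat.mod_self]
  have hT : P true 0 := by
    have := hs false _ (hz false h0 (k - 1) (by have := NeZero.pos k; omega))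
    rwa [hlast, if_pos rfl] at this
  intro b i
  rcases b with _ | _
  · exact hz false h0 i i.2
  · exact hz true hT i i.2

/-- Generation from the two short root families at the first vector. -/
theorem generate (hQ : (polarBilin Q).Nondegenerate) (hn : 5 ≤ finrank F V) {n : quadIso Q}
    (hn1 : ∀ b i, ∃ c : F, c ≠ 0 ∧ n.1 (D.vec b i) = c • D.nxt b i) {z z' : V}
    (hza : D.ca z = 0) (hzb : D.cb z = 0) (hza' : D.ca z' = 0) (hzb' : D.cb z' = 0)
    (hnz : n.1 z = z') (hnz' : n.1 z' = z)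
    (hspan : ∀ x, D.ca x = 0 → D.cb x = 0 → ∃ s t : F, x = s • z + t • z')
    (hB : polar Q z z ≠ 0 ∨ polar Q z z' ≠ 0)
    (hM : n ∈ M) (hF : Full M (D.e 0) z) (hF' : Full M (D.e 0) z') : commutator (quadIso Q) ≤ M := by
  have hall : ∀ b i, Full M (D.vec b i) z ∧ Full M (D.vec b i) z' := by
    refine orbit_all (fun b i => Full M (D.vec b i) z ∧ Full M (D.vec b i) z') ⟨hF, hF'⟩ fun b i h => ?_
    obtain ⟨c, hc, e⟩ := hn1 b i
    have a1 := h.2.map hM
    have a2 := h.1.map hM
    rw [e, hnz'] at a1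
    rw [e, hnz] at a2
    exact ⟨a1.of_smul_left hc, a2.of_smul_left hc⟩
  have hg : ∀ b i, ∃ g ∈ M, ∃ c : F, c ≠ 0 ∧ g.1 (D.e 0) = c • D.vec b i := by
    refine orbit_all (fun b i => ∃ g ∈ M, ∃ c : F, c ≠ 0 ∧ g.1 (D.e 0) = c • D.vec b i)
      ⟨1, one_mem _, 1, one_ne_zero, (one_smul F _).symm⟩ fun b i ⟨g, hg, c, hc, e⟩ => ?_
    obtain ⟨c', hc', e'⟩ := hn1 b i
    refine ⟨n * g, mul_mem hM hg, c * c', mul_ne_zero hc hc', ?_⟩
    show n.1 (g.1 (D.e 0)) = _
    rw [e, map_smul, e', smul_smul]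
    rfl
  obtain ⟨g, hgM, c, hc, hge⟩ := hg true 0
  have hop : polar Q (D.e 0) (g.1 (D.e 0)) ≠ 0 := by
    rw [hge, show D.vec true 0 = D.f 0 from rfl, polar_smul_right, D.ef, if_pos rfl]
    simpa using hc
  refine commutator_le_of_rad hQ hn (D.qe 0) hgM hop fun w hw u hu => ?_
  have hperp : ∀ b i, polar Q (D.vec b i) z = 0 ∧ polar Q (D.vec b i) z' = 0 := fun b i => by
    unfold vec
    split_ifs
    · exact ⟨congrFun hza i, congrFun hza' i⟩
    · exact ⟨congrFun hzb i, congrFun hzb' i⟩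
  have hlong : ∀ b i, i ≠ 0 → Full M (D.e 0) (D.vec b i) := by
    intro b i hi
    have hvv : polar Q (D.vec b i) (D.e 0) = 0 := by
      rcases b with _ | _ <;> simp [vec, D.ee, D.fe, hi.symm]
    rcases hB with h | h
    · exact Full.long (D.q_vec b i) (D.qe 0) hvv (hperp b i).1 (hperp false 0).1 (hperp b i).1 (hperp false 0).1 h
        (hall b i).1 hF
    · exact Full.long (D.q_vec b i) (D.qe 0) hvv (hperp b i).1 (hperp false 0).2 (hperp b i).2 (hperp false 0).1 h
        (hall b i).1 hF'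
  let P : V → Prop := fun w => polar Q (D.e 0) w = 0 ∧ ∀ u, IsEich Q (D.e 0) w u → u ∈ M
  have Padd : ∀ a b, P a → P b → P (a + b) := fun a b ha hb => by
    refine ⟨by rw [polar_add_right, ha.1, hb.1, add_zero], fun u hu => ?_⟩
    obtain ⟨ga, hga⟩ := exists_eich Q (D.qe 0) ha.1
    obtain ⟨gb, hgb⟩ := exists_eich Q (D.qe 0) hb.1
    rw [eich_unique Q hu (eich_add Q (D.qe 0) ha.1 hb.1 hga hgb)]
    exact mul_mem (ha.2 ga hga) (hb.2 gb hgb)
  have P0 : P 0 := ⟨QuadraticMap.polar_zero_right (Q := Q) _, fun u hu => by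
    rw [eich_unique Q hu (eich_zero Q _)]; exact one_mem _⟩
  have Psum : ∀ (s : Finset (Fin k)) (φ : Fin k → V), (∀ i ∈ s, P (φ i)) → P (∑ i ∈ s, φ i) := fun s φ h =>
    Finset.sum_induction φ P Padd P0 h
  have Pof : ∀ x, polar Q (D.e 0) x = 0 → Full M (D.e 0) x → ∀ t : F, P (t • x) := fun x hx h t =>
    ⟨by rw [polar_smul_right, hx, smul_zero], fun u hu => h t u hu⟩
  have hx0 : ∀ x, x = (x - D.comb (D.ca x, D.cb x)) + D.comb (D.ca x, D.cb x) := fun x => by abel
  have ha0 : D.ca (w - D.comb (D.ca w, D.cb w)) = 0 := by rw [map_sub, D.ca_comb, sub_self]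
  have hb0 : D.cb (w - D.comb (D.ca w, D.cb w)) = 0 := by rw [map_sub, D.cb_comb, sub_self]
  obtain ⟨s, t, hst⟩ := hspan _ ha0 hb0
  suffices P w from this.2 u hu
  rw [hx0 w, hst, D.comb_apply]
  refine Padd _ _ (Padd _ _ (Pof z (hperp false 0).1 hF s) (Pof z' (hperp false 0).2 hF' t))
    (Padd _ _ (Psum _ _ fun i _ => ?_) (Psum _ _ fun i _ => ?_))
  · rcases eq_or_ne i 0 with rfl | hi
    · refine ⟨by rw [polar_smul_right, D.ee, smul_zero], fun u hu => ?_⟩
      have := eich_shift Q (D.qe 0) (QuadraticMap.polar_zero_right (Q := Q) _) (D.ca w 0) (eich_zero Q (D.e 0))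
      rw [zero_add] at this
      rw [eich_unique Q hu this]
      exact one_mem _
    · exact Pof _ (D.ee 0 i) (hlong false i hi) _
  · rcases eq_or_ne i 0 with rfl | hi
    · rw [show D.cb w 0 = 0 from hw, zero_smul]
      exact P0
    · exact Pof (D.f i) (by rw [D.ef, if_neg hi.symm]) (hlong true i hi) _

theorem nxt_zero (hk : 2 ≤ k) : D.nxt false 0 = D.e ⟨1, hk⟩ ∧
    ((0 : Fin k) + 1 = ⟨1, hk⟩) ∧ (⟨1, hk⟩ : Fin k) ≠ 0 := by
  have e : (0 : Fin k) + 1 = ⟨1, hk⟩ := Fin.ext (by
    rw [zero_add, Fin.val_one', Nat.mod_eq_of_lt hk])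
  have ne : (⟨1, hk⟩ : Fin k) ≠ 0 := fun e => by simpa using congrArg Fin.val e
  refine ⟨?_, e, ne⟩
  rw [nxt, e, if_neg ne]
  rfl

theorem pow_fix {g : quadIso Q} {x : V} (h : g.1 x = x) : ∀ j : ℕ, (g ^ j).1 x = x
  | 0 => rfl
  | j + 1 => by
    show (g ^ j).1 (g.1 x) = x
    rw [h, pow_fix h j]

variable [Finite V]

/-- Two generators, two-dimensional anisotropic or hyperbolic kernel. -/
theorem two_gen_pair (hQ : (polarBilin Q).Nondegenerate) (hn : 5 ≤ finrank F V) (hk : 3 ≤ k) {w z z' : V}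
    (hwa : D.ca w = 0) (hwb : D.cb w = 0) (hw : Q w ≠ 0) (hza : D.ca z = 0) (hzb : D.cb z = 0)
    (hz' : (refl Q hw).1 z = z')
    (hspan : ∀ x, D.ca x = 0 → D.cb x = 0 → ∃ s t : F, x = s • z + t • z')
    (hB : polar Q z z ≠ 0 ∨ polar Q z z' ≠ 0) :
    ∃ g g' : commutator (quadIso Q), Subgroup.closure ({g, g'} : Set (commutator (quadIso Q))) = ⊤ := by
  obtain ⟨p, r, hp, hr, hchar, hcard⟩ := exists_char F
  haveI : Fact p.Prime := ⟨hp⟩
  let i1 : Fin k := ⟨1, by omega⟩
  let i2 : Fin k := ⟨2, by omega⟩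
  obtain ⟨hnxt, hadd, hne⟩ := D.nxt_zero (show 2 ≤ k by omega)
  have h21 : i2 ≠ i1 := by simp [i1, i2, Fin.ext_iff]
  have h20 : i2 ≠ 0 := by simp [i2, Fin.ext_iff]
  obtain ⟨n, hn0, hn1, hn2⟩ := D.exists_shift hQ hn (by omega) hwa hwb hw
  have hza' : D.ca z' = 0 := by
    rw [← hz', refl_apply, map_add, map_smul, hza, hwa, smul_zero, add_zero]
  have hzb' : D.cb z' = 0 := by
    rw [← hz', refl_apply, map_add, map_smul, hzb, hwb, smul_zero, add_zero]
  have hnz : n.1 z = z' := by rw [hn2 z hza hzb, hz']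
  have hnz' : n.1 z' = z := by
    rw [hn2 z' hza' hzb', ← hz']
    exact LinearEquiv.congr_fun (congrArg Subtype.val (refl_mul_self Q hw)) z
  obtain ⟨A, hA1, hA2, hA3, hA4⟩ := exists_singer_sq (F := F)
  set h : quadIso Q := D.levi (blk hne.symm (A * A)) with hh
  have hfix : ∀ x, D.ca x = 0 → D.cb x = 0 → h.1 x = x := fun x => D.levi_fix _
  have hblk : ∀ (B : GL (Fin 2) F) (c : Fin k), c ≠ 0 → c ≠ i1 → (D.levi (blk hne.symm B)).1 (D.e c) = D.e c := by
    intro B c h0 h1
    rw [D.levi_e, Finset.sum_eq_single c (fun i _ hi => ?_) (by simp)]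
    · simp [blk_val, blkM, h0, show c ≠ (⟨1, by omega⟩ : Fin k) from h1]
    · rw [blk_val]
      simp [blkM, h0, show c ≠ (⟨1, by omega⟩ : Fin k) from h1, hi]
  have hcol : ∀ (B : GL (Fin 2) F), (D.levi (blk hne.symm B)).1 (D.e 0) =
        (B : Matrix (Fin 2) (Fin 2) F) 0 0 • D.e 0 + (B : Matrix (Fin 2) (Fin 2) F) 1 0 • D.e i1 ∧
      (D.levi (blk hne.symm B)).1 (D.e i1) =
        (B : Matrix (Fin 2) (Fin 2) F) 0 1 • D.e 0 + (B : Matrix (Fin 2) (Fin 2) F) 1 1 • D.e i1 := by
    intro B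
    refine ⟨?_, ?_⟩ <;>
    · rw [D.levi_e, blk_val, ← Finset.sum_subset (Finset.subset_univ ({0, i1} : Finset (Fin k))) (fun i _ hi => by
        simp only [Finset.mem_insert, Finset.mem_singleton, not_or] at hi
        simp [blkM, hi.1, hi.2, hne, show i ≠ (⟨1, by omega⟩ : Fin k) from hi.2]), Finset.sum_pair hne.symm]
      simp [blkM, i1, hne, hne.symm]
  obtain ⟨x, hx⟩ := exists_eich Q (D.qe i2) (show polar Q (D.e i2) z = 0 from congrFun hzb i2)
  have he2 : h.1 (D.e i2) = D.e i2 := hblk _ _ h20 h21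
  refine two_gen_of_triple (h := h) (x := x) hn0 (by rw [hh, map_mul, map_mul]; exact sq_mem hQ hn _)
    (eich_mem_commutator hQ hn (D.qe i2) (congrFun hzb i2) hx) ?_
    (coprime_of_pow (i := Nat.card F ^ 2 - 1) (j := p) ?_ (eich_pow_char (D.qe i2) (congrFun hzb i2) hx)
      (hcard ▸ coprime_sq_sub_one hp hr)) fun M hM hH hX => ?_
  · have := eich_conj Q hx h
    rw [he2, hfix z hza hzb] at this
    exact mul_inv_eq_iff_eq_mul.mp (eich_unique Q this hx)
  · rw [hh, ← map_pow, ← map_pow, hA1, map_one, map_one]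
  obtain ⟨c1, hc1, en1⟩ := hn1 false 0
  rw [hnxt] at en1
  obtain ⟨c2, hc2, en2⟩ := hn1 false i1
  have hnxt1 : D.nxt false i1 = D.e i2 := by
    have e : i1 + 1 = i2 := Fin.ext (by
      rw [Fin.val_add, Fin.val_one', Nat.add_mod_mod]
      exact Nat.mod_eq_of_lt (show 1 + 1 < k by omega))
    rw [nxt, e, if_neg h20]
    rfl
  rw [hnxt1] at en2
  have en20 : (n * n).1 (D.e 0) = (c1 * c2) • D.e i2 := by
    show n.1 (n.1 (D.e 0)) = _
    rw [show D.e 0 = D.vec false 0 from rfl, en1, map_smul, show D.e ⟨1, _⟩ = D.vec false i1 from rfl, en2,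
      smul_smul]
  have hinv2 : ((n * n)⁻¹).1 (D.e i2) = (c1 * c2)⁻¹ • D.e 0 := by
    have h1 : D.e i2 = (n * n).1 ((c1 * c2)⁻¹ • D.e 0) := by
      rw [map_smul, en20, smul_smul, inv_mul_cancel₀ (mul_ne_zero hc1 hc2), one_smul]
    rw [h1]
    exact (n * n).1.symm_apply_apply _
  have hz2 : ((n * n)⁻¹).1 z = z := by
    have h1 : (n * n).1 z = z := by
      show n.1 (n.1 z) = z
      rw [hnz, hnz']
    conv_lhs => rw [← h1]
    exact (n * n).1.symm_apply_apply _
  have hFull : Full M (D.e 0) z := by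
    have hc := eich_conj Q hx (n * n)⁻¹
    rw [hinv2, hz2] at hc
    refine Full.of_scale (D.qe 0) (congrFun hzb 0) (inv_ne_zero (mul_ne_zero hc1 hc2)) (eich_scale Q _ hc)
      (mul_mem (mul_mem (inv_mem (mul_mem hM hM)) hX) (inv_mem (inv_mem (mul_mem hM hM)))) fun t ht => ?_
    obtain ⟨j, hj⟩ := hA2 (Units.mk0 t ht)
    refine ⟨h ^ j, pow_mem hH j, ?_, pow_fix (hfix z hza hzb) j⟩
    rw [hh, ← map_pow, ← map_pow, (hcol _).1, hj]
    simp [pow_two]
  refine D.generate hQ hn hn1 hza hzb hza' hzb' hnz hnz' hspan hB hM hFull ?_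
  have a1 := hFull.map hM
  rw [hnz, show D.e 0 = D.vec false 0 from rfl, en1] at a1
  have a2 := (a1.of_smul_left hc1).map hH
  rw [hfix z' hza' hzb', hh, (hcol _).2, hA3, hA4, one_smul, zero_smul, add_zero] at a2
  exact a2

/-- Two generators, one-dimensional kernel. -/
theorem two_gen_single (hQ : (polarBilin Q).Nondegenerate) (hn : 5 ≤ finrank F V) (hk : 2 ≤ k)
    (h2 : (2 : F) ≠ 0) {u : V} (hua : D.ca u = 0) (hub : D.cb u = 0) (hu : Q u ≠ 0)
    (hspan : ∀ x, D.ca x = 0 → D.cb x = 0 → ∃ s : F, x = s • u) :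
    ∃ g g' : commutator (quadIso Q), Subgroup.closure ({g, g'} : Set (commutator (quadIso Q))) = ⊤ := by
  obtain ⟨p, r, hp, hr, hchar, hcard⟩ := exists_char F
  haveI : Fact p.Prime := ⟨hp⟩
  obtain ⟨ω, hω⟩ := exists_unit_gen (F := F)
  obtain ⟨hnxt, hadd, hne⟩ := D.nxt_zero hk
  obtain ⟨n, hn0, hn1, hn2⟩ := D.exists_shift hQ hn hk hua hub hu
  have hru : n.1 u = -u := by
    rw [hn2 u hua hub, refl_apply, QuadraticMap.polar_self, nsmul_eq_mul, Nat.cast_ofNat, ← mul_assoc,
      mul_comm (Q u)⁻¹, mul_assoc, inv_mul_cancel₀ hu, mul_one]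
    module
  have hnz' : n.1 (-u) = u := by rw [map_neg, hru, neg_neg]
  set d : Fin k → Fˣ := Function.update 1 (⟨1, hk⟩ : Fin k) (ω * ω) with hd
  set h : quadIso Q := D.levi (diagG k d) with hh
  have hfix : ∀ x, D.ca x = 0 → D.cb x = 0 → h.1 x = x := fun x => D.levi_fix _
  have he0 : h.1 (D.e 0) = D.e 0 := by
    rw [hh, D.levi_diag_e, hd, Function.update_of_ne hne.symm]
    simp
  obtain ⟨x, hx⟩ := exists_eich Q (D.qe 0) (show polar Q (D.e 0) u = 0 from congrFun hub 0)
  refine two_gen_of_triple (h := h) (x := x) hn0 (by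
      rw [hh, show d = (Function.update (1 : Fin k → Fˣ) (⟨1, hk⟩ : Fin k) ω) * (Function.update (1 : Fin k → Fˣ) (⟨1, hk⟩ : Fin k) ω) by
        funext i
        rw [hd, Pi.mul_apply]
        by_cases h : i = (⟨1, hk⟩ : Fin k) <;> simp [Function.update, h], map_mul, map_mul]
      exact sq_mem hQ hn _)
    (eich_mem_commutator hQ hn (D.qe 0) (congrFun hub 0) hx) ?_
    (coprime_of_pow (i := Nat.card F ^ 2 - 1) (j := p) ?_ (eich_pow_char (D.qe 0) (congrFun hub 0) hx)
      (hcard ▸ coprime_sq_sub_one hp hr)) fun M hM hH hX => ?_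
  · have := eich_conj Q hx h
    rw [he0, hfix u hua hub] at this
    exact mul_inv_eq_iff_eq_mul.mp (eich_unique Q this hx)
  · rw [hh, ← map_pow, ← map_pow, show d ^ (Nat.card F ^ 2 - 1) = 1 by
      funext i
      rw [Pi.pow_apply, ← one_pow (M := ℕ) 2, Nat.sq_sub_sq, mul_comm, pow_mul, ← Nat.card_units,
        pow_card_eq_one', one_pow, Pi.one_apply], map_one, map_one]
  obtain ⟨c1, hc1, en1⟩ := hn1 false 0
  rw [hnxt, show D.vec false 0 = D.e 0 from rfl] at en1
  have hFull : Full M (D.e 0) u := by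
    refine Full.of_scale (D.qe 0) (congrFun hub 0) one_ne_zero (by rwa [one_smul]) hX fun t ht => ?_
    obtain ⟨j, hj⟩ := hω (Units.mk0 t ht)
    refine ⟨n⁻¹ * h ^ j * n, mul_mem (mul_mem (inv_mem hM) (pow_mem hH j)) hM, ?_, ?_⟩
    · show (n⁻¹).1 ((h ^ j).1 (n.1 (D.e 0))) = _
      rw [en1, map_smul, hh, ← map_pow, ← map_pow, D.levi_diag_e, Pi.pow_apply, hd, Function.update_self,
        mul_pow, hj, Units.val_mul, Units.val_mk0, smul_comm, ← en1, ← map_smul, pow_two]
      exact n.1.symm_apply_apply _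
    · show (n⁻¹).1 ((h ^ j).1 (n.1 u)) = u
      rw [hru, map_neg, pow_fix (hfix u hua hub) j, ← hru]
      exact n.1.symm_apply_apply u
  refine D.generate hQ hn hn1 hua hub (by rw [map_neg, hua, neg_zero]) (by rw [map_neg, hub, neg_zero]) hru hnz'
    (fun y ha hb => by
      obtain ⟨s, hs⟩ := hspan y ha hb
      exact ⟨s, 0, by rw [hs, zero_smul, add_zero]⟩)
    (Or.inl (by rw [QuadraticMap.polar_self]; simpa using mul_ne_zero h2 hu)) hM hFull ?_
  have := hFull.smul_right (-1)
  rwa [neg_one_smul] at this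

end Frame

end CfsgLib.TwoGenCl.Orth
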