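/-
Two generators of the three families of projective orthogonal groups.
-/
import Cfsg.Agent.Lib.TwoGenClassical.OrthGen
import Cfsg.Agent.Lib.StdQuadForms
import Cfsg.Prelude.Def_Classical

set_option autoImplicit false
set_option linter.unusedSectionVars false
set_option linter.style.haveILetI false

namespace CfsgLib.TwoGenCl.Orth

open QuadraticMap CfsgLib.WittExtension Module CfsgLib.SpinorMatrix

variable {F : Type*} [Field F] [Fintype F]

theorem pomega_of_iso {ι : Type} [Fintype ι] [DecidableEq ι] (Q : QuadraticForm F (ι → F)) (f : (ι → F) → F)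
    (hf : ⇑Q = f)
    (h : ∃ g g' : commutator (quadIso Q), Subgroup.closure ({g, g'} : Set (commutator (quadIso Q))) = ⊤) :
    ∃ a b : Cfsg.POmega F f, Subgroup.closure ({a, b} : Set (Cfsg.POmega F f)) = ⊤ := by
  subst hf
  refine CfsgLib.TwoGenCl.pair_quotient _ ?_
  obtain ⟨g, g', hg⟩ := h
  set ψ := (isoEquiv Q).symm
  have hmem : ∀ x : commutator (quadIso Q), ψ x.1 ∈ Cfsg.Omega F ⇑Q := fun x => by
    have := comap_commutator ψ
    have hx : x.1 ∈ (commutator (Cfsg.isometryGroup F ⇑Q)).comap ψ.toMonoidHom := this ▸ x.2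
    exact hx
  let Ψ : commutator (quadIso Q) →* Cfsg.Omega F ⇑Q :=
    { toFun := fun x => ⟨ψ x.1, hmem x⟩
      map_one' := Subtype.ext (map_one ψ)
      map_mul' := fun x y => Subtype.ext (map_mul ψ _ _) }
  have hsurj : Function.Surjective Ψ := fun y => by
    refine ⟨⟨isoEquiv Q y.1, ?_⟩, Subtype.ext ((isoEquiv Q).symm_apply_apply y.1)⟩
    have h1 : y.1 ∈ (commutator (quadIso Q)).comap (isoEquiv Q).toMonoidHom := comap_commutator (isoEquiv Q) ▸ y.2
    exact h1
  refine ⟨Ψ g, Ψ g', ?_⟩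
  rw [← Set.image_pair, ← MonoidHom.map_closure, hg, Subgroup.map_top_of_surjective _ hsurj]

theorem polar_Qo (m : ℕ) (x y : Unit ⊕ (Fin m ⊕ Fin m) → F) :
    polar (StdQuadForms.Qo m) x y = 2 * (x (.inl ()) * y (.inl ())) +
      ∑ i, (x (.inr (.inl i)) * y (.inr (.inr i)) + x (.inr (.inr i)) * y (.inr (.inl i))) := by
  have e : ∑ i : Fin m, y (.inr (.inl i)) * x (.inr (.inr i)) = ∑ i, x (.inr (.inr i)) * y (.inr (.inl i)) :=
    Finset.sum_congr rfl fun i _ => mul_comm _ _
  simp [polar, StdQuadForms.Qo_apply, Cfsg.quadFormOdd, mul_add, add_mul, Finset.sum_add_distrib]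
  linear_combination e

/-- The frame of the odd form. -/
def oddFrame (m : ℕ) : Frame (StdQuadForms.Qo (F := F) m) m where
  e i := Pi.single (.inr (.inl i)) 1
  f i := Pi.single (.inr (.inr i)) 1
  qe i := by simp [StdQuadForms.Qo_apply, Cfsg.quadFormOdd]
  qf i := by simp [StdQuadForms.Qo_apply, Cfsg.quadFormOdd]
  ee i j := by simp [polar_Qo]
  ff i j := by simp [polar_Qo]
  ef i j := by simp [polar_Qo, Pi.single_apply, eq_comm]

theorem two_gen_odd (h2 : (2 : F) ≠ 0) {m : ℕ} (hm : 2 ≤ m) :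
    ∃ a b : Cfsg.POmega F (Cfsg.quadFormOdd m F), Subgroup.closure ({a, b} : Set (Cfsg.POmega F (Cfsg.quadFormOdd m F))) = ⊤ := by
  haveI : NeZero m := ⟨by omega⟩
  refine pomega_of_iso (StdQuadForms.Qo m) _ (funext fun v => StdQuadForms.Qo_apply m v) ?_
  refine (oddFrame m).two_gen_single (StdQuadForms.Qo_nondeg h2 m)
    (by rw [Module.finrank_pi]; simp; omega) hm h2 (u := Pi.single (.inl ()) 1) ?_ ?_ ?_ fun x ha hb => ?_
  · funext i; simp [Frame.ca_apply, oddFrame, polar_Qo, Pi.single_apply]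
  · funext i; simp [Frame.cb_apply, oddFrame, polar_Qo, Pi.single_apply]
  · simp [StdQuadForms.Qo_apply, Cfsg.quadFormOdd]
  · refine ⟨x (.inl ()), funext fun j => ?_⟩
    rcases j with ⟨⟩ | i | i
    · simp
    · have := congrFun ha i
      simpa [Frame.ca_apply, oddFrame, polar_Qo, Pi.single_apply] using this
    · have := congrFun hb i
      simpa [Frame.cb_apply, oddFrame, polar_Qo, Pi.single_apply] using this

theorem polar_Qp (m : ℕ) (x y : Fin m ⊕ Fin m → F) :
    polar (Lagrangian.Qp m F) x y = ∑ i, (x (.inl i) * y (.inr i) + x (.inr i) * y (.inl i)) := by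
  have e : ∑ i : Fin m, y (.inl i) * x (.inr i) = ∑ i, x (.inr i) * y (.inl i) :=
    Finset.sum_congr rfl fun i _ => mul_comm _ _
  simp [polar, Lagrangian.Qp_apply, Cfsg.quadFormPlus, mul_add, add_mul, Finset.sum_add_distrib]
  linear_combination e

/-- The frame of the plus form leaving out the last pair. -/
def plusFrame (k : ℕ) : Frame (Lagrangian.Qp (k + 1) F) k where
  e i := Pi.single (.inl i.castSucc) 1
  f i := Pi.single (.inr i.castSucc) 1
  qe i := by simp [Lagrangian.Qp_apply, Cfsg.quadFormPlus]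
  qf i := by simp [Lagrangian.Qp_apply, Cfsg.quadFormPlus]
  ee i j := by simp [polar_Qp]
  ff i j := by simp [polar_Qp]
  ef i j := by simp [polar_Qp, Pi.single_apply, eq_comm]

theorem two_gen_plus {m : ℕ} (hm : 4 ≤ m) :
    ∃ a b : Cfsg.POmega F (Cfsg.quadFormPlus m F),
      Subgroup.closure ({a, b} : Set (Cfsg.POmega F (Cfsg.quadFormPlus m F))) = ⊤ := by
  obtain ⟨k, rfl⟩ : ∃ k, m = k + 1 := ⟨m - 1, by omega⟩
  haveI : NeZero k := ⟨by omega⟩
  refine pomega_of_iso (Lagrangian.Qp (k + 1) F) _ (funext fun v => Lagrangian.Qp_apply v) ?_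
  set L := Fin.last k
  have hL : ∀ i : Fin k, i.castSucc ≠ L := fun i => Fin.castSucc_ne_last i
  refine (plusFrame k).two_gen_pair Lagrangian.Qp_nondeg (by rw [Module.finrank_pi]; simp; omega) (by omega)
    (w := Pi.single (.inl L) 1 - Pi.single (.inr L) 1) (z := Pi.single (.inl L) 1)
    (z' := Pi.single (.inr L) 1) ?_ ?_ ?_ ?_ ?_ ?_ (fun x ha hb => ?_) (Or.inr ?_)
  · funext i; simp [Frame.ca_apply, plusFrame, polar_Qp, Pi.single_apply, hL, (hL i).symm]
  · funext i; simp [Frame.cb_apply, plusFrame, polar_Qp, Pi.single_apply, hL, (hL i).symm]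
  · simp [Lagrangian.Qp_apply, Cfsg.quadFormPlus, Pi.single_apply]
  · funext i; simp [Frame.ca_apply, plusFrame, polar_Qp, Pi.single_apply, hL, (hL i).symm]
  · funext i; simp [Frame.cb_apply, plusFrame, polar_Qp, Pi.single_apply, hL, (hL i).symm]
  · rw [SpinorNorm.refl_apply]
    simp [Lagrangian.Qp_apply, Cfsg.quadFormPlus, polar_Qp, Pi.single_apply]
  · refine ⟨x (.inl L), x (.inr L), funext fun j => ?_⟩
    rcases j with i | i <;> refine Fin.lastCases ?_ (fun i => ?_) i
    · simp [L]
    · have := congrFun ha i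
      simpa [Frame.ca_apply, plusFrame, polar_Qp, Pi.single_apply, hL i] using this
    · simp [L]
    · have := congrFun hb i
      simpa [Frame.cb_apply, plusFrame, polar_Qp, Pi.single_apply, hL i] using this
  · simp [polar_Qp, Pi.single_apply]

theorem polar_Qm (m : ℕ) (a b : F) (x y : (Fin m ⊕ Fin m) ⊕ Fin 2 → F) :
    polar (StdQuadForms.Qm m a b) x y =
      (∑ i, (x (.inl (.inl i)) * y (.inl (.inr i)) + x (.inl (.inr i)) * y (.inl (.inl i)))) +
      (2 * x (.inr 0) * y (.inr 0) + a * (x (.inr 0) * y (.inr 1) + x (.inr 1) * y (.inr 0)) +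
        2 * b * x (.inr 1) * y (.inr 1)) := by
  have e : ∑ i : Fin m, y (.inl (.inl i)) * x (.inl (.inr i)) = ∑ i, x (.inl (.inr i)) * y (.inl (.inl i)) :=
    Finset.sum_congr rfl fun i _ => mul_comm _ _
  simp [polar, StdQuadForms.Qm_apply, Cfsg.quadFormMinus, mul_add, add_mul, Finset.sum_add_distrib]
  linear_combination e

/-- The frame of the minus form. -/
def minusFrame (m : ℕ) (a b : F) : Frame (StdQuadForms.Qm m a b) m where
  e i := Pi.single (.inl (.inl i)) 1
  f i := Pi.single (.inl (.inr i)) 1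
  qe i := by simp [StdQuadForms.Qm_apply, Cfsg.quadFormMinus]
  qf i := by simp [StdQuadForms.Qm_apply, Cfsg.quadFormMinus]
  ee i j := by simp [polar_Qm]
  ff i j := by simp [polar_Qm]
  ef i j := by simp [polar_Qm, Pi.single_apply, eq_comm]

theorem two_gen_minus {k : ℕ} (hk : 3 ≤ k) {a b : F}
    (hab : ∀ z₁ z₂ : F, z₁ ^ 2 + a * z₁ * z₂ + b * z₂ ^ 2 = 0 → z₁ = 0 ∧ z₂ = 0) :
    ∃ g h : Cfsg.POmega F (Cfsg.quadFormMinus k F a b),
      Subgroup.closure ({g, h} : Set (Cfsg.POmega F (Cfsg.quadFormMinus k F a b))) = ⊤ := by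
  haveI : NeZero k := ⟨by omega⟩
  refine pomega_of_iso (StdQuadForms.Qm k a b) _ (funext fun v => StdQuadForms.Qm_apply k a b v) ?_
  obtain ⟨s, hc, hB⟩ : ∃ s : F, 2 * s + a ≠ 0 ∧ (2 * (s ^ 2 + a * s + b) ≠ 0 ∨
      2 * (s ^ 2 + a * s + b) - (2 * s + a) ^ 2 ≠ 0) := by
    by_cases ha : a = 0
    · subst ha
      have h2 : (2 : F) ≠ 0 := by
        intro h2
        haveI : CharP F 2 := CharTwo.of_one_ne_zero_of_two_eq_zero one_ne_zero h2
        obtain ⟨r, hr⟩ := FiniteField.isSquare_of_char_two (F := F) (ringChar.eq F 2) b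
        have := (hab r 1 (by rw [hr]; linear_combination (r * r) * h2)).2
        exact one_ne_zero this
      refine ⟨1, by simpa using h2, Or.inl (mul_ne_zero h2 ?_)⟩
      intro e
      exact one_ne_zero (hab 1 1 (by linear_combination e)).1
    · refine ⟨0, by simpa using ha, ?_⟩
      by_cases hb : 2 * b = 0
      · refine Or.inr ?_
        simp [hb, ha]
      · exact Or.inl (by simpa using hb)
  set c := 2 * s + a with hcdef
  refine (minusFrame k a b).two_gen_pair (StdQuadForms.Qm_nondeg k hab) (by rw [Module.finrank_pi]; simp; omega)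
    hk (w := Pi.single (.inr 0) 1) (z := Pi.single (.inr 0) s + Pi.single (.inr 1) 1)
    (z' := Pi.single (.inr 0) (s - c) + Pi.single (.inr 1) 1) ?_ ?_ ?_ ?_ ?_ ?_ (fun x ha hb => ?_) ?_
  · funext i; simp [Frame.ca_apply, minusFrame, polar_Qm, Pi.single_apply]
  · funext i; simp [Frame.cb_apply, minusFrame, polar_Qm, Pi.single_apply]
  · simp [StdQuadForms.Qm_apply, Cfsg.quadFormMinus]
  · funext i; simp [Frame.ca_apply, minusFrame, polar_Qm, Pi.single_apply]
  · funext i; simp [Frame.cb_apply, minusFrame, polar_Qm, Pi.single_apply]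
  · rw [SpinorNorm.refl_apply]
    funext j
    simp [StdQuadForms.Qm_apply, Cfsg.quadFormMinus, polar_Qm, Pi.single_apply, hcdef]
    rcases j with j | j
    · simp
    · fin_cases j <;> simp <;> ring
  · refine ⟨(x (.inr 0) - (s - c) * x (.inr 1)) / c,
      x (.inr 1) - (x (.inr 0) - (s - c) * x (.inr 1)) / c, funext fun j => ?_⟩
    rcases j with (i | i) | i
    · have := congrFun ha i
      simpa [Frame.ca_apply, minusFrame, polar_Qm, Pi.single_apply] using this
    · have := congrFun hb i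
      simpa [Frame.cb_apply, minusFrame, polar_Qm, Pi.single_apply] using this
    · fin_cases i
      · simp
        field_simp
        ring
      · simp
  · rcases hB with h | h
    · refine Or.inl ?_
      simp only [polar_Qm]
      simp
      convert h using 1
      ring
    · refine Or.inr ?_
      simp only [polar_Qm]
      simp
      convert h using 1
      rw [hcdef]
      ring

end CfsgLib.TwoGenCl.Orth
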