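/-
Two generators of `Sp₄(q)`, `q ≥ 3`.
-/
import Cfsg.Agent.Lib.TwoGenClassical.Symp

set_option autoImplicit false
set_option linter.unusedSectionVars false

namespace CfsgLib.TwoGenCl.Symp

open Matrix hiding mul_apply one_apply
open CfsgLib.SympGen
open CfsgLib.SympTransvection (tv)

variable {F : Type*} [Field F]

local notation "Vec" => (Fin 2 ⊕ Fin 2 → F)
local notation "Sp" => Matrix.symplecticGroup (Fin 2) F

/-- The change of coordinates. -/
def shear : GL (Fin 2) F where
  val := !![1, 0; 1, 1]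
  inv := !![1, 0; -1, 1]
  val_inv := by ext i j; fin_cases i <;> fin_cases j <;> simp [Matrix.mul_apply, Fin.sum_univ_two]
  inv_val := by ext i j; fin_cases i <;> fin_cases j <;> simp [Matrix.mul_apply, Fin.sum_univ_two]

/-- The diagonal torus of the second pair. -/
def dgl : Fˣ →* GL (Fin 2) F where
  toFun u :=
    { val := !![1, 0; 0, (u : F)]
      inv := !![1, 0; 0, ((u⁻¹ : Fˣ) : F)]
      val_inv := by ext i j; fin_cases i <;> fin_cases j <;> simp [Matrix.mul_apply, Fin.sum_univ_two]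
      inv_val := by ext i j; fin_cases i <;> fin_cases j <;> simp [Matrix.mul_apply, Fin.sum_univ_two] }
  map_one' := Units.ext (by ext i j; fin_cases i <;> fin_cases j <;> simp)
  map_mul' u v := Units.ext (by
    ext i j; fin_cases i <;> fin_cases j <;> simp [Matrix.mul_apply, Fin.sum_univ_two])

theorem gl_el (A : GL (Fin 2) F) (c : Fin 2) :
    (levi A).1 *ᵥ el c =
      (A : Matrix (Fin 2) (Fin 2) F) 0 c • el 0 + (A : Matrix (Fin 2) (Fin 2) F) 1 c • el 1 := by
  rw [levi_inl]
  funext j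
  rcases j with j | j <;> fin_cases j <;> fin_cases c <;>
    simp [el, Matrix.mulVec, dotProduct, Fin.sum_univ_two]

theorem gl_fr (A : GL (Fin 2) F) (c : Fin 2) :
    (levi A).1 *ᵥ fr c = ((A⁻¹ : GL (Fin 2) F) : Matrix (Fin 2) (Fin 2) F) c 0 • fr 0 +
      ((A⁻¹ : GL (Fin 2) F) : Matrix (Fin 2) (Fin 2) F) c 1 • fr 1 := by
  rw [levi_inl]
  funext j
  rcases j with j | j <;> fin_cases j <;> fin_cases c <;>
    simp [fr, Matrix.mulVec, dotProduct, Fin.sum_univ_two]

theorem B_neg_left (x y : Vec) : B (-x) y = -B x y := by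
  rw [← neg_one_smul F x, B_smul_left, neg_one_mul]

theorem B_neg_right (x y : Vec) : B x (-y) = -B x y := by
  rw [← neg_one_smul F y, B_smul_right, neg_one_mul]

/-- The first generator. -/
def gel : Sp := levi shear⁻¹ * nel * levi shear

theorem nel_two :
    (nel : Sp).1 *ᵥ el 0 = el 1 ∧ (nel : Sp).1 *ᵥ el 1 = -fr 0 ∧
      (nel : Sp).1 *ᵥ fr 0 = fr 1 ∧ (nel : Sp).1 *ᵥ fr 1 = el 0 := by
  refine ⟨?_, ?_, ?_, ?_⟩ <;> simp [nel_el, nel_fr]

theorem gel_el_zero : (gel : Sp).1 *ᵥ el 0 = el 1 - fr 0 := by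
  obtain ⟨h1, h2, h3, h4⟩ := nel_two (F := F)
  rw [gel, mul_apply, mul_apply]
  simp [gl_el, gl_fr, shear, Matrix.mulVec_add, Matrix.mulVec_neg, h1, h2, sub_eq_add_neg]

theorem gel_el_one : (gel : Sp).1 *ᵥ el 1 = -fr 0 := by
  obtain ⟨h1, h2, h3, h4⟩ := nel_two (F := F)
  rw [gel, mul_apply, mul_apply]
  simp [gl_el, gl_fr, shear, Matrix.mulVec_neg, h2]

theorem gel_fr_zero : (gel : Sp).1 *ᵥ fr 0 = fr 0 + fr 1 := by
  obtain ⟨h1, h2, h3, h4⟩ := nel_two (F := F)
  rw [gel, mul_apply, mul_apply]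
  simp [gl_el, gl_fr, shear, h3]

theorem sum_transv (x : Vec) (a : F) : ∀ (L : List F),
    ((L.map fun b => tv (a • el 0 + b • el 1) (1 : F)).prod : Sp).1 *ᵥ x =
      x + (L.map fun b => B x (a • el 0 + b • el 1) • (a • el 0 + b • el 1 : Vec)).sum
  | [] => by rw [List.map_nil, List.prod_nil, one_apply, List.map_nil, List.sum_nil, add_zero]
  | c :: L => by
    have hz : ∀ (L : List F) (v : Vec), (∀ b : F, B (a • el 0 + b • el 1) v = 0) →
        B ((L.map fun b => B x (a • el 0 + b • el 1) • (a • el 0 + b • el 1 : Vec)).sum) v = 0 := by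
      intro L v hv
      induction L with
      | nil => simp [B]
      | cons d L ih => rw [List.map_cons, List.sum_cons, B_add_left, ih, B_smul_left, hv, mul_zero, add_zero]
    rw [List.map_cons, List.prod_cons, mul_apply, sum_transv x a L, tv_apply, one_mul, B_add_left,
      hz L _ (fun b => by simp [B_add_left, B_add_right, B_smul_left, B_smul_right, B_el_el]), add_zero,
      List.map_cons, List.sum_cons]
    abel

theorem neg_sq_mem [Fintype F] [DecidableEq F] (h4 : 4 ≤ Fintype.card F) {M : Subgroup Sp} {a : F}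
    (hab : ∀ b : F, b ≠ 0 → tv (a • el 0 + b • el 1) (1 : F) ∈ M) : tv (el 0 : Vec) (-a ^ 2) ∈ M := by
  let L : List F := (Finset.univ : Finset Fˣ).toList.map fun u : Fˣ => (u : F)
  have hmem : (L.map fun b => tv (a • el 0 + b • el 1) (1 : F)).prod ∈ M := by
    refine Subgroup.list_prod_mem _ fun y hy => ?_
    obtain ⟨b, hb, rfl⟩ := List.mem_map.mp hy
    obtain ⟨u, -, rfl⟩ := List.mem_map.mp hb
    exact hab _ u.ne_zero
  convert hmem using 1
  refine Subtype.ext (Matrix.ext_of_mulVec_single fun i => ?_)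
  rw [tv_apply, sum_transv]
  congr 1
  simp only [L, List.map_map, Function.comp_def, Finset.sum_map_toList]
  set x : Vec := Pi.single i 1
  have e : ∀ u : Fˣ, B x (a • el 0 + (u : F) • el 1) • (a • el 0 + (u : F) • el 1 : Vec) =
      (a ^ 2 * B x (el 0)) • el 0 + ((u : F) ^ 1) • ((a * B x (el 1)) • el 0 + (a * B x (el 0)) • el 1)
        + ((u : F) ^ 2) • (B x (el 1) • el 1 : Vec) := fun u => by
    rw [B_add_right, B_smul_right, B_smul_right]
    module
  have s0 : ∑ u : Fˣ, (1 : F) = -1 := by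
    have := FiniteField.sum_pow_units F 0
    simpa using this
  have s : ∀ k, 0 < k → k ≤ 2 → ∑ u : Fˣ, (u : F) ^ k = 0 := fun k h0 h2 => by
    have := FiniteField.sum_pow_units F k
    rw [if_neg (fun hd => by have := Nat.le_of_dvd h0 hd; omega)] at this
    simpa using this
  simp only [e, Finset.sum_add_distrib, ← Finset.sum_smul, s 1 one_pos (by norm_num), s 2 two_pos le_rfl,
    zero_smul, add_zero]
  rw [Finset.sum_const, nsmul_eq_mul]
  congr 1
  rw [show ((Finset.univ : Finset Fˣ).card : F) = -1 by rw [← s0, Finset.sum_const, nsmul_one]]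
  ring

/-- `Sp₄(q)` is generated by two elements, `q ≥ 3`. -/
theorem two_gen_four [Finite F] (hq : 3 ≤ Nat.card F) :
    ∃ a b : Sp, Subgroup.closure ({a, b} : Set Sp) = ⊤ := by
  classical
  haveI := Fintype.ofFinite F
  obtain ⟨p, r, hp, hr, hchar, hcard⟩ := exists_char F
  haveI : Fact p.Prime := ⟨hp⟩
  obtain ⟨ω, hω⟩ := exists_unit_gen (F := F)
  set h : Sp := levi (dgl ω) with hh
  have hpow : ∀ k : ℕ, h ^ k = levi (dgl (ω ^ k)) := fun k => by rw [hh, map_pow, map_pow]
  have hfix : ∀ u : Fˣ, (levi (dgl u) : Sp).1 *ᵥ el 0 = el 0 := fun u => by simp [gl_el, dgl]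
  have he1 : ∀ u : Fˣ, (levi (dgl u) : Sp).1 *ᵥ el 1 = (u : F) • el 1 := fun u => by simp [gl_el, dgl]
  have hf0 : ∀ u : Fˣ, (levi (dgl u) : Sp).1 *ᵥ fr 0 = fr 0 := fun u => by simp [gl_fr, dgl]
  refine merge gel (h := h) (x := tv (el 0) 1) ?_ (coprime_of_pow (i := Nat.card F ^ 2 - 1) (j := p) ?_
    (tv_pow_char _ _) (hcard ▸ coprime_sq_sub_one hp hr)) fun M hg hM hx => ?_
  · have := conj_tv h (el 0) (1 : F)
    rw [hh, hfix, mul_inv_eq_iff_eq_mul] at this
    exact this
  · rw [hpow, show ω ^ (Nat.card F ^ 2 - 1) = 1 by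
      rw [← one_pow (M := ℕ) 2, Nat.sq_sub_sq, mul_comm, pow_mul, ← Nat.card_units, pow_card_eq_one', one_pow],
      map_one, map_one]
  have hmove : ∀ {v : Vec} {k : Sp}, k ∈ M → tv v (1 : F) ∈ M → tv (k.1 *ᵥ v) (1 : F) ∈ M := fun hk hv => by
    rw [← conj_tv]
    exact mul_mem (mul_mem hk hv) (inv_mem hk)
  have hgi : ∀ v : Vec, (gel⁻¹ : Sp).1 *ᵥ ((gel : Sp).1 *ᵥ v) = v := inv_apply gel
  have hT0 : TI M (el 0 : Vec) := by
    -- the transvections with centres `a e₀ + b e₁`
    have hab : ∀ a b : F, a ≠ 0 → a ≠ 1 → b ≠ 0 → tv (a • el 0 + b • el 1 : Vec) (1 : F) ∈ M := by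
      intro a b ha ha1 hb
      obtain ⟨i, hi⟩ := hω (Units.mk0 a ha)
      obtain ⟨j, hj⟩ := hω (Units.mk0 (b / (1 - a)) (div_ne_zero hb (sub_ne_zero.mpr (Ne.symm ha1))))
      have h1 := hmove (pow_mem hM i) (hmove hg hx)
      rw [gel_el_zero, hpow, hi, Matrix.mulVec_sub, he1, hf0, Units.val_mk0] at h1
      have h2 := hmove (pow_mem hM j) (hmove (inv_mem hg) h1)
      have e : (a • el 1 - fr 0 : Vec) = (gel : Sp).1 *ᵥ (a • el 0 + (1 - a) • el 1) := by
        rw [Matrix.mulVec_add, Matrix.mulVec_smul, Matrix.mulVec_smul, gel_el_zero, gel_el_one]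
        module
      rw [e, hgi, hpow, hj, Matrix.mulVec_add, Matrix.mulVec_smul, Matrix.mulVec_smul, hfix, he1,
        Units.val_mk0, smul_smul, mul_div_cancel₀ _ (sub_ne_zero.mpr (Ne.symm ha1))] at h2
      exact h2
    let A : AddSubgroup F :=
      { carrier := {d | tv (el 0 : Vec) d ∈ M}
        zero_mem' := by
          show tv (el 0 : Vec) 0 ∈ M
          have : tv (el 0 : Vec) (0 : F) = 1 := Subtype.ext (Matrix.ext_of_mulVec_single fun i => by
            rw [one_apply, tv_apply, zero_mul, zero_smul, add_zero])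
          rw [this]; exact one_mem _
        add_mem' := fun {a b} ha hb => by
          show tv (el 0 : Vec) (a + b) ∈ M
          rw [← tv_add]; exact mul_mem ha hb
        neg_mem' := fun {a} ha => by
          show tv (el 0 : Vec) (-a) ∈ M
          rw [show tv (el 0 : Vec) (-a) = (tv (el 0 : Vec) a)⁻¹ from eq_inv_of_mul_eq_one_left (by
            rw [tv_add, neg_add_cancel]
            exact Subtype.ext (Matrix.ext_of_mulVec_single fun i => by
              rw [one_apply, tv_apply, zero_mul, zero_smul, add_zero]))]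
          exact inv_mem ha }
    have h1A : (1 : F) ∈ A := hx
    have hA : A = ⊤ := eq_top_of_sq A one_ne_zero fun t ht => by
      rw [one_mul]
      by_cases h1 : t = 1
      · rw [h1, one_pow]; exact h1A
      rcases Nat.lt_or_ge (Nat.card F) 4 with h3 | h4
      · have hcd : Fintype.card F = 3 := by rw [← Nat.card_eq_fintype_card]; omega
        have := FiniteField.pow_card_sub_one_eq_one t ht
        rw [hcd] at this
        rw [show t ^ 2 = 1 by simpa using this]
        exact h1A
      · have := A.neg_mem (show -t ^ 2 ∈ A from neg_sq_mem (by rwa [← Nat.card_eq_fintype_card])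
          fun b hb => hab t b ht h1 hb)
        rwa [neg_neg] at this
    intro d
    have : d ∈ A := hA ▸ AddSubgroup.mem_top d
    exact this
  -- the closure
  set v : Vec := el 1 - fr 0
  have hv : TI M v := by rw [show v = (gel : Sp).1 *ᵥ el 0 from gel_el_zero.symm]; exact hT0.move hg
  set z : Vec := -(2 : F) • fr 0 - fr 1 with hz
  have hzT : TI M z := by
    have := hv.move hg
    rwa [show (gel : Sp).1 *ᵥ v = z by
      rw [Matrix.mulVec_sub, gel_el_one, gel_fr_zero, hz]; module] at this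
  have hwT : TI M ((ω : F) • el 1 - fr 0 : Vec) := by
    have := hv.move hM
    rwa [hh, Matrix.mulVec_sub, he1, hf0] at this
  have hy : ∀ μ : F, μ ≠ 0 → TI M ((1 - (1 + 2 * μ) * (ω : F)) • el 1 + (-μ) • fr 1 : Vec) := by
    intro μ hμ
    have h1 : TI M ((1 : F) • v + μ • z) := hv.comb hzT (by
      simp [v, hz, sub_eq_add_neg, B_add_left, B_add_right, B_smul_left, B_smul_right, B_neg_left,
        B_neg_right, B_el_fr, B_fr_fr]) 1 μ
    have h2 : TI M ((1 : F) • ((1 : F) • v + μ • z) + (-(1 + 2 * μ)) • ((ω : F) • el 1 - fr 0 : Vec)) :=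
      h1.comb hwT (by
        simp [v, hz, sub_eq_add_neg, B_add_left, B_add_right, B_smul_left, B_smul_right,
          B_neg_left, B_neg_right, B_el_el, B_el_fr, B_fr_el, B_fr_fr, hμ]) 1 _
    convert h2 using 1
    simp only [v, hz]
    module
  have hω1 : (ω : F) ≠ 1 := fun e => by
    have hall : ∀ u : Fˣ, u = 1 := fun u => by
      obtain ⟨k, hk⟩ := hω u
      rw [← hk, show ω = 1 from Units.ext e, one_pow]
    haveI : Subsingleton Fˣ := ⟨fun a b => by rw [hall a, hall b]⟩
    have := Nat.card_units F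
    rw [Nat.card_of_subsingleton (1 : Fˣ)] at this
    omega
  have hsub : (1 - (ω : F)) ≠ 0 := sub_ne_zero.mpr (Ne.symm hω1)
  have hy1 := hy 1 one_ne_zero
  have hy2 := hy ω ω.ne_zero
  have hE : TI M (el 1 : Vec) := by
    have h3 := hy1.comb hy2 (by
      simp only [B_add_left, B_add_right, B_smul_left, B_smul_right, B_el_el, B_el_fr, B_fr_el, B_fr_fr,
        ↓reduceIte, mul_zero, add_zero, zero_add, mul_one]
      intro e
      apply hsub
      exact pow_eq_zero_iff two_ne_zero |>.mp (show (1 - (ω : F)) ^ 2 = 0 by linear_combination -e)) (ω : F) (-1)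
    refine TI.of_smul (a := -((1 - (ω : F)) ^ 2)) (neg_ne_zero.mpr (pow_ne_zero 2 hsub)) ?_
    convert h3 using 1
    module
  have hF0 : TI M (fr 0 : Vec) := by
    have := (hE.move hg).smul (-1)
    rwa [gel_el_one, neg_one_smul, neg_neg] at this
  have hF1 : TI M (fr 1 : Vec) := by
    have h3 := hy1.comb hE (by
      simp [B_add_left, B_smul_left, B_el_el, B_fr_el]) (-1) (1 - (1 + 2 * 1) * (ω : F))
    convert h3 using 1
    module
  refine top_of_TI (all_TI (fun i => ?_) fun k hk => ?_)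
  · fin_cases i
    · exact ⟨hT0, hF0⟩
    · exact ⟨hE, hF1⟩
  · have hk1 : k = 1 := by omega
    subst hk1
    refine ⟨-fr 0, el 1, ?_, supp_el 1, by simp [fr], by simp [el], ?_⟩
    · intro i hi
      have : i ≠ 0 := fun e => hi (by simp [e, mem_below])
      simp [fr, this]
    · rwa [neg_add_eq_sub]

end CfsgLib.TwoGenCl.Symp
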